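import Mathlib

/-!
# A four group acting on a group of odd order: the product formula for the fixed points
-/

set_option autoImplicit false
set_option linter.unusedSectionVars false

namespace CfsgLib.SmallCent

variable {G : Type*} [Group G] [Finite G]

/-- The elements of `R` inverted by `s`. -/
def inverted (R : Subgroup G) (s : G) : Set G := {x | x ∈ R ∧ s * x * s⁻¹ = x⁻¹}

variable {R : Subgroup G}

theorem odd_half (hR : Odd (Nat.card R)) :
    ∃ k : ℕ, ∀ x ∈ R, x ^ k * x ^ k = x ∧ (x * x) ^ k = x := by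
  obtain ⟨j, hj⟩ := hR
  refine ⟨j + 1, fun x hx => ?_⟩
  have h1 : x ^ (Nat.card R) = 1 := orderOf_dvd_iff_pow_eq_one.mp (Subgroup.orderOf_dvd_natCard _ hx)
  constructor
  · rw [← pow_add, show j + 1 + (j + 1) = Nat.card R + 1 by omega, pow_succ, h1, one_mul]
  · rw [← pow_two, ← pow_mul, show 2 * (j + 1) = Nat.card R + 1 by omega, pow_succ, h1, one_mul]

theorem conj_mem_of_comm {s u x : G} (hsu : Commute s u) (h : u * x * u⁻¹ = x) :
    u * (s * x * s⁻¹) * u⁻¹ = s * x * s⁻¹ := by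
  calc u * (s * x * s⁻¹) * u⁻¹ = u * s * x * (u * s)⁻¹ := by group
    _ = s * u * x * (s * u)⁻¹ := by rw [hsu.eq]
    _ = s * (u * x * u⁻¹) * s⁻¹ := by group
    _ = _ := by rw [h]

theorem card_fixed_mul_inverted (hR : Odd (Nat.card R)) {s : G} (hs : s * s = 1)
    (hn : ∀ x ∈ R, s * x * s⁻¹ ∈ R) :
    Nat.card R = Nat.card ↥(R ⊓ Subgroup.centralizer ({s} : Set G)) * (inverted R s).ncard := by
  classical
  obtain ⟨k, hk⟩ := odd_half hR
  have hinv : ∀ x, s * (s * x * s⁻¹) * s⁻¹ = x := fun x => by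
    calc s * (s * x * s⁻¹) * s⁻¹ = s * s * x * (s * s)⁻¹ := by group
      _ = x := by rw [hs]; group
  rw [← Nat.card_coe_set_eq]
  let f : ↥(R ⊓ Subgroup.centralizer ({s} : Set G)) × ↥(inverted R s) → R := fun v =>
    ⟨(v.1 : G) * v.2, mul_mem (Subgroup.mem_inf.mp v.1.2).1 v.2.2.1⟩
  have hfix : ∀ c : ↥(R ⊓ Subgroup.centralizer ({s} : Set G)), s * (c : G) * s⁻¹ = c := fun c =>
    mul_inv_eq_iff_eq_mul.mpr (Subgroup.mem_centralizer_singleton_iff.mp (Subgroup.mem_inf.mp c.2).2).symm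
  have hf : Function.Bijective f := by
    refine ⟨fun v v' e => ?_, fun x => ?_⟩
    · have e' : (v.1 : G) * v.2 = v'.1 * v'.2 := congrArg Subtype.val e
      have sq : ∀ v : ↥(R ⊓ Subgroup.centralizer ({s} : Set G)) × ↥(inverted R s),
          (s * ((v.1 : G) * v.2) * s⁻¹)⁻¹ * ((v.1 : G) * v.2) = (v.2 : G) * v.2 := by
        intro v
        rw [show s * ((v.1 : G) * v.2) * s⁻¹ = s * (v.1 : G) * s⁻¹ * (s * (v.2 : G) * s⁻¹) by group,
          hfix v.1, v.2.2.2]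
        group
      have h2 : (v.2 : G) = v'.2 := by
        have h := (sq v).symm.trans ((by rw [e']; exact sq v') : _ = (v'.2 : G) * v'.2)
        rw [← (hk _ v.2.2.1).2, h, (hk _ v'.2.2.1).2]
      rw [h2] at e'
      exact Prod.ext (Subtype.ext (mul_right_cancel e')) (Subtype.ext h2)
    · obtain ⟨x, hx⟩ := x
      set q := (s * x * s⁻¹)⁻¹ * x with hq
      have hqR : q ∈ R := mul_mem (inv_mem (hn x hx)) hx
      have hqi : s * q * s⁻¹ = q⁻¹ := by
        rw [hq, show s * ((s * x * s⁻¹)⁻¹ * x) * s⁻¹ = (s * (s * x * s⁻¹) * s⁻¹)⁻¹ * (s * x * s⁻¹) by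
          simp only [mul_inv_rev, inv_inv, mul_assoc, inv_mul_cancel_left], hinv]
        group
      set a := q ^ k with ha
      have haR : a ∈ R := pow_mem hqR k
      have hai : s * a * s⁻¹ = a⁻¹ := by rw [ha, ← conj_pow, hqi, inv_pow]
      have haa : a * a = q := (hk q hqR).1
      refine ⟨(⟨x * a⁻¹, Subgroup.mem_inf.mpr ⟨mul_mem hx (inv_mem haR), ?_⟩⟩, ⟨a, haR, hai⟩), Subtype.ext ?_⟩
      · rw [Subgroup.mem_centralizer_singleton_iff]
        refine (mul_inv_eq_iff_eq_mul.mp ?_).symm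
        have hsx : s * x * s⁻¹ = x * q⁻¹ := by rw [hq]; group
        rw [show s * (x * a⁻¹) * s⁻¹ = s * x * s⁻¹ * (s * a * s⁻¹)⁻¹ by group, hai, hsx, ← haa]
        group
      · exact inv_mul_cancel_right x a
  rw [← Nat.card_congr (Equiv.ofBijective f hf), Nat.card_prod]

theorem inverted_split (hR : Odd (Nat.card R)) {s u : G} (hu : u * u = 1) (hsu : Commute s u)
    (hnu : ∀ x ∈ R, u * x * u⁻¹ ∈ R) :
    (inverted R s).ncard = (inverted R s ∩ {x | u * x * u⁻¹ = x}).ncard *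
      (inverted R s ∩ inverted R u).ncard := by
  classical
  obtain ⟨k, hk⟩ := odd_half hR
  rw [← Nat.card_coe_set_eq, ← Nat.card_coe_set_eq, ← Nat.card_coe_set_eq, ← Nat.card_prod]
  refine Nat.card_congr (Equiv.ofBijective
    (fun v : ↥(inverted R s ∩ {x | u * x * u⁻¹ = x}) × ↥(inverted R s ∩ inverted R u) =>
      (⟨(v.1 : G) * v.2 * v.1, mul_mem (mul_mem v.1.2.1.1 v.2.2.1.1) v.1.2.1.1, ?_⟩ : ↥(inverted R s))) ?_).symm
  · rw [show s * ((v.1 : G) * v.2 * v.1) * s⁻¹ =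
      s * (v.1 : G) * s⁻¹ * (s * (v.2 : G) * s⁻¹) * (s * (v.1 : G) * s⁻¹) by group, v.1.2.1.2, v.2.2.1.2]
    group
  -- the solution of `X m X = i` is unique
  have uniq : ∀ {m i X Y : G}, m ∈ R → i ∈ R → X ∈ R → Y ∈ R → X * m * X = i → Y * m * Y = i → X = Y := by
    intro m i X Y hm hi hX hY eX eY
    set q := m ^ k with hq
    have hqR : q ∈ R := pow_mem hm k
    have hqq : q * q = m := (hk m hm).1
    have key : ∀ Z, Z ∈ R → Z * m * Z = i → q * Z * q = (q * i * q) ^ k := by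
      intro Z hZ e
      rw [← (hk _ (mul_mem (mul_mem hqR hZ) hqR)).2, ← e, ← hqq]
      congr 1
      group
    exact mul_left_cancel (mul_right_cancel ((key X hX eX).trans (key Y hY eY).symm))
  have hinv : ∀ x, u * (u * x * u⁻¹) * u⁻¹ = x := fun x => by
    calc u * (u * x * u⁻¹) * u⁻¹ = u * u * x * (u * u)⁻¹ := by group
      _ = x := by rw [hu]; group
  refine ⟨fun v v' e => ?_, fun i => ?_⟩
  · have e' : (v.1 : G) * v.2 * v.1 = v'.1 * v'.2 * v'.1 := congrArg Subtype.val e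
    set i := (v'.1 : G) * v'.2 * v'.1
    have hiR : i ∈ R := mul_mem (mul_mem v'.1.2.1.1 v'.2.2.1.1) v'.1.2.1.1
    have hX : ∀ v : ↥(inverted R s ∩ {x | u * x * u⁻¹ = x}) × ↥(inverted R s ∩ inverted R u),
        (v.1 : G) * v.2 * v.1 = i → (v.1 : G) * v.1 * (u * i * u⁻¹)⁻¹ * ((v.1 : G) * v.1) = i := by
      intro v e
      have e1 : u * (v.1 : G) * u⁻¹ = v.1 := v.1.2.2
      rw [← e, show u * ((v.1 : G) * v.2 * v.1) * u⁻¹ =
        u * (v.1 : G) * u⁻¹ * (u * (v.2 : G) * u⁻¹) * (u * (v.1 : G) * u⁻¹) by group, e1, v.2.2.2.2]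
      group
    have hsq := uniq (inv_mem (hnu i hiR)) hiR (mul_mem v.1.2.1.1 v.1.2.1.1)
      (mul_mem v'.1.2.1.1 v'.1.2.1.1) (hX v e') (hX v' rfl)
    have h1 : (v.1 : G) = v'.1 := by rw [← (hk _ v.1.2.1.1).2, hsq, (hk _ v'.1.2.1.1).2]
    have e'' : (v'.1 : G) * v.2 * v'.1 = v'.1 * v'.2 * v'.1 := by rw [← h1]; rw [h1] at e' ⊢; exact e'
    exact Prod.ext (Subtype.ext h1) (Subtype.ext (mul_left_cancel (mul_right_cancel e'')))
  · obtain ⟨i, hiR, his⟩ := i
    set m := (u * i * u⁻¹)⁻¹ with hm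
    have hmR : m ∈ R := inv_mem (hnu i hiR)
    have hms : s * m * s⁻¹ = m⁻¹ := by
      have e : s * (u * i * u⁻¹) * s⁻¹ = u * (s * i * s⁻¹) * u⁻¹ := by
        calc s * (u * i * u⁻¹) * s⁻¹ = s * u * i * (s * u)⁻¹ := by group
          _ = u * s * i * (u * s)⁻¹ := by rw [hsu.eq]
          _ = u * (s * i * s⁻¹) * u⁻¹ := by group
      rw [hm, show s * (u * i * u⁻¹)⁻¹ * s⁻¹ = (s * (u * i * u⁻¹) * s⁻¹)⁻¹ by group, e, his]
      group
    set q := m ^ k with hq
    have hqR : q ∈ R := pow_mem hmR k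
    have hqq : q * q = m := (hk m hmR).1
    set X := q⁻¹ * (q * i * q) ^ k * q⁻¹ with hXdef
    have hXR : X ∈ R := mul_mem (mul_mem (inv_mem hqR) (pow_mem (mul_mem (mul_mem hqR hiR) hqR) k)) (inv_mem hqR)
    have hX : X * m * X = i := by
      calc X * m * X = q⁻¹ * ((q * i * q) ^ k * (q⁻¹ * m * q⁻¹) * (q * i * q) ^ k) * q⁻¹ := by rw [hXdef]; group
        _ = q⁻¹ * ((q * i * q) ^ k * (q * i * q) ^ k) * q⁻¹ := by
          rw [← hqq]; group
        _ = i := by rw [(hk _ (mul_mem (mul_mem hqR hiR) hqR)).1]; group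
    have hXs : (s * X * s⁻¹)⁻¹ = X := by
      refine uniq hmR hiR ?_ hXR ?_ hX
      · rw [hXdef, show s * (q⁻¹ * (q * i * q) ^ k * q⁻¹) * s⁻¹ =
          (s * q * s⁻¹)⁻¹ * (s * (q * i * q) ^ k * s⁻¹) * (s * q * s⁻¹)⁻¹ by group]
        have hqs : s * q * s⁻¹ = q⁻¹ := by rw [hq, ← conj_pow, hms, inv_pow]
        have hqiq : s * (q * i * q) * s⁻¹ = q⁻¹ * i⁻¹ * q⁻¹ := by
          rw [show s * (q * i * q) * s⁻¹ = (s * q * s⁻¹) * (s * i * s⁻¹) * (s * q * s⁻¹) by group, hqs, his]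
        rw [hqs, inv_inv, ← conj_pow, hqiq]
        exact inv_mem (mul_mem (mul_mem hqR (pow_mem (mul_mem (mul_mem (inv_mem hqR) (inv_mem hiR)) (inv_mem hqR)) k)) hqR)
      · calc (s * X * s⁻¹)⁻¹ * m * (s * X * s⁻¹)⁻¹ = ((s * X * s⁻¹) * (s * m * s⁻¹) * (s * X * s⁻¹))⁻¹ := by
              rw [hms]; group
          _ = (s * (X * m * X) * s⁻¹)⁻¹ := by group
          _ = i := by rw [hX, his, inv_inv]
    have hXi : X * i⁻¹ * X = m⁻¹ := by
      calc X * i⁻¹ * X = X * (X * m * X)⁻¹ * X := by rw [hX]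
        _ = m⁻¹ := by group
    have hXu : u * X * u⁻¹ = X := by
      refine uniq hmR hiR (hnu X hXR) hXR ?_ hX
      calc u * X * u⁻¹ * m * (u * X * u⁻¹) = u * (X * i⁻¹ * X) * u⁻¹ := by rw [hm]; group
        _ = i := by rw [hXi, hm, inv_inv, hinv]
    set a := X ^ k with ha
    have haR : a ∈ R := pow_mem hXR k
    have haa : a * a = X := (hk X hXR).1
    have has : s * a * s⁻¹ = a⁻¹ := by
      rw [ha, ← conj_pow, inv_eq_iff_eq_inv.mp hXs, inv_pow]
    have hau : u * a * u⁻¹ = a := by rw [ha, ← conj_pow, hXu]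
    refine ⟨(⟨a, ⟨haR, has⟩, hau⟩, ⟨a⁻¹ * i * a⁻¹,
      ⟨mul_mem (mul_mem (inv_mem haR) hiR) (inv_mem haR), ?_⟩,
      ⟨mul_mem (mul_mem (inv_mem haR) hiR) (inv_mem haR), ?_⟩⟩), Subtype.ext ?_⟩
    · rw [show s * (a⁻¹ * i * a⁻¹) * s⁻¹ = (s * a * s⁻¹)⁻¹ * (s * i * s⁻¹) * (s * a * s⁻¹)⁻¹ by group, has, his]
      group
    · have e : u * i * u⁻¹ = X * i⁻¹ * X := by rw [hXi, hm, inv_inv]
      rw [show u * (a⁻¹ * i * a⁻¹) * u⁻¹ = (u * a * u⁻¹)⁻¹ * (u * i * u⁻¹) * (u * a * u⁻¹)⁻¹ by group,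
        hau, e, ← haa]
      group
    · show a * (a⁻¹ * i * a⁻¹) * a = i
      group

/-- The product formula for a four group acting on a group of odd order. -/
theorem four_product (hR : Odd (Nat.card R)) {t u : G} (ht : t * t = 1) (hu : u * u = 1)
    (htu : Commute t u) (hnt : ∀ x ∈ R, t * x * t⁻¹ ∈ R) (hnu : ∀ x ∈ R, u * x * u⁻¹ ∈ R) :
    Nat.card R * Nat.card ↥(R ⊓ Subgroup.centralizer ({t, u} : Set G)) ^ 2 =
      Nat.card ↥(R ⊓ Subgroup.centralizer ({t} : Set G)) * Nat.card ↥(R ⊓ Subgroup.centralizer ({u} : Set G)) *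
        Nat.card ↥(R ⊓ Subgroup.centralizer ({t * u} : Set G)) := by
  have hfix : ∀ v x : G, x ∈ Subgroup.centralizer ({v} : Set G) ↔ v * x * v⁻¹ = x := fun v x => by
    rw [Subgroup.mem_centralizer_singleton_iff, mul_inv_eq_iff_eq_mul, eq_comm]
  have sub : ∀ v : G, Commute t v →
      Nat.card ↥(R ⊓ Subgroup.centralizer ({v} : Set G)) =
        Nat.card ↥(R ⊓ Subgroup.centralizer ({t, v} : Set G)) *
          (inverted R t ∩ {x | v * x * v⁻¹ = x}).ncard := by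
    intro v htv
    rw [card_fixed_mul_inverted (hR.of_dvd_nat (Subgroup.card_dvd_of_le inf_le_left)) ht fun x hx => ?_]
    · congr 2
      · congr 1
        ext x
        simp only [Subgroup.mem_inf, Subgroup.mem_centralizer_iff, Set.mem_insert_iff, Set.mem_singleton_iff]
        aesop
      · ext x
        simp only [inverted, Subgroup.mem_inf, hfix, Set.mem_inter_iff, Set.mem_ofPred_eq]
        tauto
    · exact Subgroup.mem_inf.mpr ⟨hnt x hx.1, (hfix v _).mpr (conj_mem_of_comm htv ((hfix v x).mp hx.2))⟩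
  have e1 := card_fixed_mul_inverted hR ht hnt
  have e2 := inverted_split hR hu htu hnu
  have e3 := sub u htu
  have e4 := sub (t * u) ((Commute.refl t).mul_right htu)
  have hset : Subgroup.centralizer ({t, t * u} : Set G) = Subgroup.centralizer ({t, u} : Set G) := by
    ext x
    simp only [Subgroup.mem_centralizer_iff, Set.mem_insert_iff, Set.mem_singleton_iff, forall_eq_or_imp, forall_eq]
    refine and_congr_right fun h => ?_
    rw [← mul_assoc x, ← h, mul_assoc t u x, mul_assoc t x u, mul_right_inj]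
  have hinv : inverted R t ∩ {x | t * u * x * (t * u)⁻¹ = x} = inverted R t ∩ inverted R u := by
    ext x
    simp only [inverted, Set.mem_inter_iff, Set.mem_ofPred_eq]
    constructor
    · rintro ⟨⟨hx, h⟩, h'⟩
      refine ⟨⟨hx, h⟩, hx, ?_⟩
      have e : t * (u * x * u⁻¹) * t⁻¹ = x :=
        (show t * (u * x * u⁻¹) * t⁻¹ = t * u * x * (t * u)⁻¹ by group).trans h'
      calc u * x * u⁻¹ = t⁻¹ * (t * (u * x * u⁻¹) * t⁻¹) * t := by group
        _ = t * x * t⁻¹ := by rw [e, inv_eq_of_mul_eq_one_left ht]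
        _ = x⁻¹ := h
    · rintro ⟨⟨hx, h⟩, -, h'⟩
      refine ⟨⟨hx, h⟩, ?_⟩
      calc t * u * x * (t * u)⁻¹ = t * (u * x * u⁻¹) * t⁻¹ := by group
        _ = (t * x * t⁻¹)⁻¹ := by rw [h']; group
        _ = x := by rw [h, inv_inv]
  rw [hset, hinv] at e4
  rw [e1, e2, e3, e4]
  ring

end CfsgLib.SmallCent
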