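import Cfsg.Agent.Lib.DihBlock.Setup
import Cfsg.Agent.Lib.DihBlock.Formula
import Cfsg.Agent.Lib.SmallTwo.QDResults
import Cfsg.Agent.Lib.SmallTwo.CentralizerType
import Cfsg.Agent.Lib.PGroup.TwoMaximalClass
import Cfsg.Agent.Lib.Invol.KleinSylow
import Cfsg.Agent.Lib.Classical.Card
import Cfsg.Agent.Lib.Transfer.Thompson
import Cfsg.Agent.S0112
import Cfsg.Agent.S0201
import Cfsg.Agent.S0219
import Cfsg.Agent.S0220
import Cfsg.Agent.S0494
import Cfsg.Agent.S1230
import Cfsg.Agent.S3331
import Cfsg.Agent.S4399

/-!
# An element with centralizer of order at most four in a simple group: the Sylow 2-subgroup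
-/

set_option autoImplicit false
set_option linter.unusedSectionVars false
set_option linter.style.haveILetI false

namespace CfsgLib.SmallCent

variable {G : Type*} [Group G] [Finite G]

theorem not_comm [IsSimpleGroup G] (hG : ¬ IsCyclic G) : ¬ ∀ a b : G, a * b = b * a := fun h =>
  hG (letI : CommGroup G := { ‹Group G› with mul_comm := h }; IsSimpleGroup.isCyclic)

theorem center_eq_bot' [IsSimpleGroup G] (hG : ¬ IsCyclic G) : Subgroup.center G = ⊥ :=
  (Subgroup.Normal.eq_bot_or_eq_top inferInstance).resolve_right fun h =>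
    not_comm hG fun a b => (Subgroup.mem_center_iff.mp (h ▸ Subgroup.mem_top b) a)

theorem not_index_two [IsSimpleGroup G] (hG : ¬ IsCyclic G) (H : Subgroup G) : H.index ≠ 2 := by
  intro h
  haveI := Subgroup.normal_of_index_eq_two h
  rcases Subgroup.Normal.eq_bot_or_eq_top (H := H) inferInstance with rfl | rfl
  · rw [Subgroup.index_bot] at h
    haveI : Fact (Nat.Prime 2) := ⟨Nat.prime_two⟩
    exact hG (isCyclic_of_prime_card h)
  · simp at h

theorem comm_of_card_le_four {H : Type*} [Group H] [Finite H] (h : Nat.card H ≤ 4) (a b : H) :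
    a * b = b * a := by
  have hc : Nat.card H = 4 ∨ IsCyclic H := by
    have := Nat.card_pos (α := H)
    interval_cases hn : Nat.card H
    · haveI := (Nat.card_eq_one_iff_unique.mp hn).1; exact Or.inr inferInstance
    · haveI : Fact (Nat.Prime 2) := ⟨Nat.prime_two⟩; exact Or.inr (isCyclic_of_prime_card hn)
    · haveI : Fact (Nat.Prime 3) := ⟨Nat.prime_three⟩; exact Or.inr (isCyclic_of_prime_card hn)
    · exact Or.inl rfl
  rcases hc with hc | hc
  · haveI : Fact (Nat.Prime 2) := ⟨Nat.prime_two⟩
    exact (IsPGroup.isMulCommutative_of_card_eq_prime_sq (p := 2) (G := H) (by rw [hc]; norm_num)).is_comm.comm a b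
  · exact (IsCyclic.commGroup (α := H)).mul_comm a b

/-- A maximal class 2-group with more structure: the dihedral case that survives. -/
def Remaining (w : G) : Prop :=
  ∃ (P : Sylow 2 G) (τ : G), DihBlock.Data P w τ 2 ∧
    Subgroup.centralizer ({w} : Set G) = Subgroup.zpowers w ∧
    IsConj (w ^ 2) τ ∧ IsConj (w ^ 2) (w * τ)

theorem one_class_dihedral {P : Sylow 2 G} {σ τ : G} {m : ℕ} (D : DihBlock.Data P σ τ m)
    (h : ∀ H : Subgroup G, H.index ≠ 2) : IsConj (σ ^ m) τ := by
  have hle : Subgroup.zpowers σ ≤ (P : Subgroup G) := Subgroup.zpowers_le.mpr D.memσ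
  have hrel : (Subgroup.zpowers σ).relIndex (P : Subgroup G) = 2 := by
    have h := ((Subgroup.zpowers σ).subgroupOf (P : Subgroup G)).card_mul_index
    rw [Nat.card_congr (Subgroup.subgroupOfEquivOfLe hle).toEquiv, Nat.card_zpowers, D.ordσ, D.card] at h
    rw [Subgroup.relIndex]
    have := DihBlock.two_le D
    exact Nat.eq_of_mul_eq_mul_left (show 0 < 2 * m by omega) (h.trans (by ring))
  rcases Transfer.thompson_transfer P hrel D.sqτ D.memτ (DihBlock.tau_not_mem D) with ⟨H, -, hH, -⟩ | ⟨g, -, hg⟩
  · exact absurd hH (h H)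
  · have h2 : orderOf (g * τ * g⁻¹) = 2 := by rw [Transfer.orderOf_conj, DihBlock.orderOf_tau D]
    exact ((isConj_iff.mpr ⟨g, DihBlock.eq_z_of_sq D hg (Invol.mul_self_of_orderOf_two h2)
      (Invol.ne_one_of_orderOf_two h2)⟩ : IsConj τ (σ ^ m))).symm

theorem card_centralizer_conj {u v : G} (h : IsConj u v) :
    Nat.card (Subgroup.centralizer ({u} : Set G)) = Nat.card (Subgroup.centralizer ({v} : Set G)) := by
  obtain ⟨g, rfl⟩ := isConj_iff.mp h
  have hs : Subgroup.centralizer ({g * u * g⁻¹} : Set G) =
      (Subgroup.centralizer ({u} : Set G)).map (MulAut.conj g).toMonoidHom := by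
    ext x
    simp only [Subgroup.mem_map_equiv, Subgroup.mem_centralizer_singleton_iff, MulAut.conj_symm_apply]
    constructor
    · intro e
      calc g⁻¹ * x * g * u = g⁻¹ * (x * (g * u * g⁻¹)) * g := by group
        _ = u * (g⁻¹ * x * g) := by rw [e]; group
    · intro e
      calc x * (g * u * g⁻¹) = g * (g⁻¹ * x * g * u) * g⁻¹ := by group
        _ = g * u * g⁻¹ * x := by rw [e]; group
  rw [hs, Subgroup.card_map_of_injective (MulAut.conj g).injective]

theorem le_centralizer_of_central {S : Subgroup G} {s : G} (h : ∀ x ∈ S, Commute s x) :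
    S ≤ Subgroup.centralizer ({s} : Set G) :=
  fun x hx => Subgroup.mem_centralizer_singleton_iff.mpr (h x hx).eq.symm

/-- The reduction. -/
theorem reduce [IsSimpleGroup G] (hG : ¬ IsCyclic G) {w : G}
    (hw : Nat.card (Subgroup.centralizer ({w} : Set G)) ≤ 4) :
    Nonempty (G ≃* ↥(alternatingGroup (Fin 5))) ∨
    (∃ (F : Type) (_ : Field F) (_ : Fintype F), Fintype.card F = 7 ∧
      Nonempty (G ≃* Matrix.ProjectiveSpecialLinearGroup (Fin 2) F)) ∨ Remaining w := by
  classical
  haveI : Fact (Nat.Prime 2) := ⟨Nat.prime_two⟩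
  set C := Subgroup.centralizer ({w} : Set G) with hCdef
  have hwC : w ∈ C := Subgroup.mem_centralizer_singleton_iff.mpr rfl
  have hw1 : w ≠ 1 := by
    rintro rfl
    have htop : C = ⊤ := eq_top_iff.mpr fun x _ => Subgroup.mem_centralizer_singleton_iff.mpr (by simp)
    rw [htop, Subgroup.card_top] at hw
    exact not_comm hG (comm_of_card_le_four hw)
  have hord : orderOf w ∣ Nat.card C := Subgroup.orderOf_dvd_natCard C hwC
  have hord1 : orderOf w ≠ 1 := fun h => hw1 (orderOf_eq_one_iff.mp h)
  have hpos := Nat.card_pos (α := C)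
  interval_cases hc : Nat.card C
  · exact absurd (Nat.eq_one_of_dvd_one hord) hord1
  · -- involution with cyclic centralizer
    exfalso
    have ho : orderOf w = 2 := ((Nat.dvd_prime Nat.prime_two).mp hord).resolve_left hord1
    obtain ⟨Q⟩ : Nonempty (Sylow 2 C) := inferInstance
    haveI : IsCyclic C := isCyclic_of_prime_card hc
    obtain ⟨H, hH⟩ := Cfsg.Agent.S0220.result w ho Q inferInstance
    exact not_index_two hG H hH
  · -- order three
    haveI : Fact (Nat.Prime 3) := ⟨Nat.prime_three⟩
    have ho : orderOf w = 3 := ((Nat.dvd_prime Nat.prime_three).mp hord).resolve_left hord1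
    have hz : Subgroup.zpowers w = C :=
      Subgroup.eq_of_le_of_card_ge (Subgroup.zpowers_le.mpr hwC) (by rw [hc, Nat.card_zpowers, ho])
    have hC : Subgroup.centralizer ((Subgroup.zpowers w : Subgroup G) : Set G) = Subgroup.zpowers w := by
      rw [Subgroup.zpowers_eq_closure, Subgroup.centralizer_closure, ← Subgroup.zpowers_eq_closure, hz]
    rcases Cfsg.Agent.S3331.result (Subgroup.zpowers w) (by rw [Nat.card_zpowers, ho]) hC with
      ⟨N, hN, hnil, -, hq⟩ | ⟨N, hN, -, -, ⟨e⟩⟩ | he
    · exfalso
      rcases hN.eq_bot_or_eq_top with rfl | rfl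
      · rcases hq with h3 | he
        · haveI : IsCyclic (G ⧸ (⊥ : Subgroup G)) := isCyclic_of_prime_card h3
          exact hG (isCyclic_of_surjective QuotientGroup.quotientBot QuotientGroup.quotientBot.surjective)
        · obtain ⟨e⟩ := he
          have h6 : Nat.card G = 6 := by
            rw [← Nat.card_congr QuotientGroup.quotientBot.toEquiv, Nat.card_congr e.toEquiv,
              Nat.card_perm, Nat.card_fin]; rfl
          refine not_index_two hG (Subgroup.zpowers w) ?_
          have := (Subgroup.zpowers w).card_mul_index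
          rw [Nat.card_zpowers, ho, h6] at this
          omega
      · haveI : Group.IsNilpotent G := Group.nilpotent_of_mulEquiv Subgroup.topEquiv
        rcases subsingleton_or_nontrivial G with h | h
        · exact not_comm hG fun a b => Subsingleton.elim _ _
        · exact Group.IsNilpotent.center_ne_bot G (center_eq_bot' hG)
    · rcases hN.eq_bot_or_eq_top with rfl | rfl
      · exact Or.inl ⟨QuotientGroup.quotientBot.symm.trans e⟩
      · exfalso
        have h1 := Nat.card_congr e.toEquiv
        rw [nat_card_alternatingGroup, Nat.card_fin] at h1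
        haveI := QuotientGroup.subsingleton_quotient_top (G := G)
        rw [Nat.card_of_subsingleton (1 : G ⧸ (⊤ : Subgroup G))] at h1
        simp [Nat.factorial] at h1
    · haveI : Fact (Nat.Prime 7) := ⟨by norm_num⟩
      exact Or.inr (Or.inl ⟨ZMod 7, inferInstance, inferInstance, ZMod.card 7, he⟩)
  · -- order four
    letI := Fintype.ofFinite G
    have hC2 : IsPGroup 2 C := IsPGroup.of_card (n := 2) (by rw [hc]; norm_num)
    obtain ⟨S, hS⟩ := hC2.exists_le_sylow
    have hCS : ∀ x ∈ (S : Subgroup G), (∀ c ∈ C, c * x = x * c) → x ∈ C := fun x _ h =>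
      Subgroup.mem_centralizer_singleton_iff.mpr (h w hwC).symm
    obtain ⟨n, hn⟩ := IsPGroup.iff_card.mp S.2
    have h4S : 4 ∣ Nat.card (S : Subgroup G) := hc ▸ Subgroup.card_dvd_of_le hS
    have hn2 : 2 ≤ n := by
      rw [hn] at h4S
      exact (Nat.pow_dvd_pow_iff_le_right (by norm_num : 1 < 2)).mp (by simpa using h4S)
    rcases eq_or_lt_of_le hn2 with rfl | hn3
    · -- the Sylow subgroup is `C`
      have hSC : (S : Subgroup G) = C := (Subgroup.eq_of_le_of_card_ge hS (by rw [hn, hc]; norm_num)).symm
      have heven : Even (Nat.card G) := even_iff_two_dvd.mpr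
        ((dvd_pow_self 2 (by norm_num : (2 : ℕ) ≠ 0)).trans (hn ▸ Subgroup.card_subgroup_dvd_card _))
      by_cases hcyc : IsCyclic (S : Subgroup G)
      · obtain ⟨H, hH⟩ := Cfsg.Agent.S0219.result heven S hcyc
        exact absurd hH (not_index_two hG H)
      have hK : IsKleinFour (S : Subgroup G) := by
        refine { card_four := by rw [hn]; norm_num, exponent_two := ?_ }
        refine Nat.le_antisymm ?_ ?_
        · refine Nat.le_of_dvd two_pos (Monoid.exponent_dvd_of_forall_pow_eq_one fun g => ?_)
          by_contra hg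
          refine hcyc (isCyclic_of_orderOf_eq_card g ?_)
          have hd := orderOf_dvd_natCard g
          rw [hn] at hd ⊢
          obtain ⟨i, hi, hio⟩ := (Nat.dvd_prime_pow Nat.prime_two).mp hd
          rcases Nat.lt_or_ge i 2 with h | h
          · exact absurd (orderOf_dvd_iff_pow_eq_one.mp (hio ▸ pow_dvd_pow 2 (show i ≤ 1 by omega))) hg
          · rw [hio, show i = 2 by omega]
        · haveI : Nontrivial (S : Subgroup G) :=
            Finite.one_lt_card_iff_nontrivial.mp (by rw [hn]; norm_num)
          have := Monoid.one_lt_exponent (G := (S : Subgroup G))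
          omega
      haveI := hK
      have hwS : w ∈ (S : Subgroup G) := hS hwC
      have hwo : orderOf w = 2 := by
        refine Invol.orderOf_two_of_mul_self ?_ hw1
        exact congrArg Subtype.val (IsKleinFour.mul_self (⟨w, hwS⟩ : (S : Subgroup G)))
      have hnn : ¬ (S : Subgroup G).Normal := by
        intro h
        rcases h.eq_bot_or_eq_top with e | e
        · rw [e, Subgroup.card_bot] at hn; norm_num at hn
        · refine not_comm hG fun a b => congrArg Subtype.val
            (IsKleinFour.isMulCommutative.is_comm.comm (⟨a, e ▸ Subgroup.mem_top a⟩ : (S : Subgroup G))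
              ⟨b, e ▸ Subgroup.mem_top b⟩)
      rcases Invol.klein_complement_or_one_class S hK with ⟨N, hN, hcompl⟩ | hone
      · exfalso
        rcases hN.eq_bot_or_eq_top with rfl | rfl
        · exact hnn (by rw [Subgroup.isComplement'_bot_left.mp hcompl]; infer_instance)
        · have := Subgroup.isComplement'_top_left.mp hcompl
          rw [this, Subgroup.card_bot] at hn; norm_num at hn
      obtain ⟨F, _, _, hF, ⟨e⟩⟩ := Cfsg.Agent.S1230.result S hcyc hnn fun t ht => by
        obtain ⟨g, rfl⟩ := isConj_iff.mp (hone w t hwo ht)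
        have hmem : ∀ c ∈ Subgroup.centralizer ({g * w * g⁻¹} : Set G), g⁻¹ * c * g ∈ (S : Subgroup G) := by
          intro c hc
          rw [hSC, hCdef, Subgroup.mem_centralizer_singleton_iff]
          have e := Subgroup.mem_centralizer_singleton_iff.mp hc
          calc g⁻¹ * c * g * w = g⁻¹ * (c * (g * w * g⁻¹)) * g := by group
            _ = w * (g⁻¹ * c * g) := by rw [e]; group
        refine ⟨⟨⟨fun a b => Subtype.ext ?_⟩⟩, fun c hc => ?_⟩
        · have h := congrArg Subtype.val (IsKleinFour.isMulCommutative.is_comm.comm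
            (⟨_, hmem a a.2⟩ : (S : Subgroup G)) ⟨_, hmem b b.2⟩)
          have h' : g⁻¹ * (a * b : G) * g = g⁻¹ * (b * a : G) * g := by
            simpa [mul_assoc] using h
          simpa using h'
        · have h := congrArg Subtype.val (IsKleinFour.mul_self (⟨_, hmem c hc⟩ : (S : Subgroup G)))
          have h' : g⁻¹ * (c * c) * g = g⁻¹ * 1 * g := by
            simpa [mul_assoc] using h
          rw [pow_two]
          have h3 := congrArg (fun z => g * z * g⁻¹) h'
          simpa [mul_assoc] using h3
      rw [hn] at hF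
      have h60 : Nat.card G = 60 := by
        rw [Nat.card_congr e.toEquiv]
        have := CfsgLib.Classical.card_PSL_two (F := F)
        rw [hF] at this
        simpa using this
      exact Or.inl (Cfsg.Agent.S0494.result h60)
    · -- maximal class
      have hX := hn
      have hA : Nat.card (C.subgroupOf (S : Subgroup G)) = 2 ^ 2 := by
        rw [Nat.card_congr (Subgroup.subgroupOfEquivOfLe hS).toEquiv, hc]; norm_num
      have hAC : Subgroup.centralizer ((C.subgroupOf (S : Subgroup G)) : Set (S : Subgroup G)) =
          C.subgroupOf (S : Subgroup G) := by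
        refine le_antisymm (fun x hx => ?_) fun x hx => ?_
        · exact Subgroup.mem_subgroupOf.mpr (hCS (x : G) x.2 fun c hc => congrArg Subtype.val
            (Subgroup.mem_centralizer_iff.mp hx ⟨c, hS hc⟩ (Subgroup.mem_subgroupOf.mpr hc)))
        · intro y hy
          refine Subtype.ext ?_
          have e := congrArg (Subtype.val : C → G)
            (comm_of_card_le_four (H := C) hc.le ⟨(y : G), hy⟩ ⟨(x : G), hx⟩)
          exact e
      have hcl := Cfsg.Agent.S0112.result n hX (C.subgroupOf (S : Subgroup G)) hA hAC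
      have hk := (CfsgLib.MaxClass.maximal_iff_klein hn3 hX).mp hcl
      rcases Cfsg.Agent.S4399.result S.2 hk.card_four (fun x => by
        have h := Monoid.pow_exponent_eq_one (G := (S : Subgroup G) ⧸ commutator (S : Subgroup G)) x
        rw [hk.exponent_two] at h
        exact h) with h4 | ⟨k, ⟨e⟩⟩ | ⟨k, hk4, a, b, ha, hb, hba⟩ | ⟨k, ⟨e⟩⟩
      · rw [hn] at h4
        have : 2 ^ 3 ≤ 2 ^ n := Nat.pow_le_pow_right two_pos hn3
        omega
      · -- dihedral
        have hgen : ∃ σ ∈ (S : Subgroup G), orderOf σ = 2 ^ (k + 2) := ⟨(e.symm (DihedralGroup.r 1) : G),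
          Subtype.coe_prop _, by rw [Subgroup.orderOf_coe, MulEquiv.orderOf_eq, DihedralGroup.orderOf_r_one]⟩
        obtain ⟨σ, hσ, hσo⟩ := hgen
        obtain ⟨τ, D⟩ := DihBlock.data_of_iso S (k := k + 1) (Nat.succ_pos k) (pow_succ' 2 (k + 1)) e hσ hσo
        have h1 := one_class_dihedral D (not_index_two hG)
        have h2 := one_class_dihedral (DihBlock.swap D) (not_index_two hG)
        have hwS : w ∈ (S : Subgroup G) := hS hwC
        have hnot2 : w * w ≠ 1 := by
          intro h
          have hcz := DihBlock.isConj_z D h1 h2 (Invol.orderOf_two_of_mul_self h hw1)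
          have hle := Subgroup.card_le_of_le (DihBlock.sylow_le_centralizer_z D)
          rw [card_centralizer_conj hcz, ← hCdef, hc, D.card] at hle
          have := DihBlock.two_le D
          omega
        have hwz := DihBlock.mem_zpowers_of_orderOf D hwS hnot2
        have hσC : Subgroup.zpowers σ ≤ C := Subgroup.zpowers_le.mpr
          (Subgroup.mem_centralizer_singleton_iff.mpr (by
            obtain ⟨i, rfl⟩ := hwz; exact (Commute.self_zpow σ i).eq))
        have hle := Subgroup.card_le_of_le hσC
        rw [Nat.card_zpowers, D.ordσ, hc] at hle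
        have hk0 : k = 0 := by
          rcases k with _ | k
          · rfl
          · exfalso
            have : 2 ^ 2 ≤ 2 ^ (k + 1 + 1) := Nat.pow_le_pow_right two_pos (by omega)
            omega
        subst hk0
        have hwo : orderOf w = 4 := by
          have hd : orderOf w ∣ 2 ^ 2 := by
            have := hord; norm_num; exact this
          obtain ⟨i, hi, hio⟩ := (Nat.dvd_prime_pow Nat.prime_two).mp hd
          rcases Nat.lt_or_ge i 2 with h | h
          · exfalso
            refine hnot2 ?_
            rw [← pow_two]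
            exact orderOf_dvd_iff_pow_eq_one.mp (hio ▸ pow_dvd_pow 2 (show i ≤ 1 by omega))
          · rw [hio, show i = 2 by omega]; norm_num
        obtain ⟨τ', D'⟩ := DihBlock.data_of_iso S (k := 1) one_pos (by norm_num) e hwS hwo
        refine Or.inr (Or.inr ⟨S, τ', D', ?_, one_class_dihedral D' (not_index_two hG),
          one_class_dihedral (DihBlock.swap D') (not_index_two hG)⟩)
        exact (Subgroup.eq_of_le_of_card_ge (Subgroup.zpowers_le.mpr hwC)
          (by rw [hc, Nat.card_zpowers, hwo])).symm
      · -- semidihedral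
        exfalso
        have d : CfsgLib.SmallTwo.QD (S : Subgroup G) (k + 3) :=
          ⟨by omega, hk4, a, b, ha, hb, by simpa using hba⟩
        obtain ⟨-, -, ⟨eQ⟩, hQS⟩ := d.four_spec
        have h6 := d.six_six_of_no_index_two (not_index_two hG)
        have h4class := d.one_class_four (d.xq_xy_isConj fun i hi => d.oddConj_quat hQS eQ h6.2 hi)
        have hwS : w ∈ (S : Subgroup G) := hS hwC
        have hwo : orderOf w = 2 ∨ orderOf w = 4 := by
          obtain ⟨i, hi, hio⟩ := (Nat.dvd_prime_pow Nat.prime_two).mp
            (show orderOf w ∣ 2 ^ 2 by norm_num; exact hord)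
          rcases i with _ | _ | _ | i
          · exact absurd (by simpa using hio) hord1
          · exact Or.inl (by simpa using hio)
          · exact Or.inr (by simpa using hio)
          · omega
        -- a conjugate of `w` with a large centralizer
        obtain ⟨s, hs, hbig⟩ : ∃ s, IsConj w s ∧ ∃ T : Subgroup G, T ≤ Subgroup.centralizer ({s} : Set G) ∧
            8 ≤ Nat.card T := by
          rcases hwo with h | h
          · refine ⟨_, d.one_class_of_no_index_two (not_index_two hG) h, (S : Subgroup G),
              le_centralizer_of_central fun x hx => ?_, ?_⟩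
            · have hcz : Commute (d.x ^ (2 * d.q)) (⟨x, hx⟩ : (S : Subgroup G)) := by
                obtain ⟨i, e | e⟩ := d.cases' ⟨x, hx⟩
                · rw [e]; exact (Commute.refl d.x).zpow_zpow _ _
                · rw [e]; exact d.commute_r_ry.mpr dvd_rfl
              exact congrArg Subtype.val hcz.eq
            · rw [d.card]
              calc 8 = 2 ^ 3 := by norm_num
                _ ≤ 2 ^ (k + 3 + 1) := Nat.pow_le_pow_right two_pos (by omega)
          · refine ⟨((d.x ^ d.q : (S : Subgroup G)) : G), ?_, Subgroup.zpowers (d.x : G), ?_, ?_⟩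
            · obtain ⟨C0, hC0⟩ := Nat.card_eq_one_iff_exists.mp h4class
              have e1 := hC0 ⟨ConjClasses.mk w, w, h, rfl⟩
              have e2 := hC0 ⟨ConjClasses.mk _, _, d.orderOf_xq, rfl⟩
              exact ConjClasses.mk_eq_mk_iff_isConj.mp (congrArg Subtype.val (e1.trans e2.symm))
            · rw [Subgroup.zpowers_le, Subgroup.mem_centralizer_singleton_iff, ← Subgroup.coe_mul,
                ← Subgroup.coe_mul, (Commute.self_zpow d.x _).eq]
            · rw [Nat.card_zpowers, Subgroup.orderOf_coe, d.hx]
              calc 8 = 2 ^ 3 := by norm_num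
                _ ≤ 2 ^ (k + 3) := Nat.pow_le_pow_right two_pos (by omega)
        obtain ⟨T, hT, hT8⟩ := hbig
        have := Subgroup.card_le_of_le hT
        rw [← card_centralizer_conj hs, ← hCdef, hc] at this
        omega
      · -- quaternion
        exfalso
        have h2 := Cfsg.Agent.S0201.result S k e fun N hN hodd => by
          refine hN.eq_bot_or_eq_top.resolve_right ?_
          rintro rfl
          rw [Subgroup.card_top] at hodd
          have h2 : 2 ∣ Nat.card G := (dvd_pow_self 2 (by omega : n ≠ 0)).trans
            (hn ▸ Subgroup.card_subgroup_dvd_card _)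
          exact Nat.not_even_iff_odd.mpr hodd (even_iff_two_dvd.mpr h2)
        rw [center_eq_bot' hG, Subgroup.card_bot] at h2
        norm_num at h2

end CfsgLib.SmallCent
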