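import Cfsg.Agent.Lib.SmallCent.OrderEight
import Cfsg.Agent.Lib.SmallCent.SylowShape
import Cfsg.Agent.Lib.SixtyFour.Eight
import Cfsg.Agent.S0219
import Mathlib.RingTheory.RootsOfUnity.Complex

/-!
# Simple groups of order 2520: an element of order four with centralizer of order four
-/

set_option autoImplicit false
set_option linter.unusedSectionVars false
set_option linter.style.haveILetI false

namespace CfsgLib.SmallCent

open Cfsg DihBlock
open scoped CfsgLib.Char

/-- The integer solutions of the order formula. -/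
theorem formula_solutions (c A B : ℕ) (X : ℤ) (hc : c ∣ 45) (hA : A ∣ c) (hB : B ∣ c)
    (h : 2520 * (X - 1) ^ 2 = 64 * c * ((A : ℤ) + B) ^ 2 * X * (X + 1)) :
    (c = 3 ∧ A ≠ B) ∨ (c = 15 ∧ A = 1 ∧ B = 1) := by
  have hX : X ∣ 315 := by
    refine ⟨8 * c * ((A : ℤ) + B) ^ 2 * (X + 1) - 315 * (X - 2), ?_⟩
    have : 315 * (X - 1) ^ 2 = 8 * c * ((A : ℤ) + B) ^ 2 * X * (X + 1) := by linarith
    linear_combination this
  have hd : X.natAbs ∈ Nat.divisors 315 :=
    Nat.mem_divisors.mpr ⟨by simpa using Int.natAbs_dvd_natAbs.mpr hX, by norm_num⟩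
  have key : ∀ c ∈ Nat.divisors 45, ∀ A ∈ Nat.divisors c, ∀ B ∈ Nat.divisors c, ∀ d ∈ Nat.divisors 315,
      ∀ X ∈ [(d : ℤ), -(d : ℤ)], 2520 * (X - 1) ^ 2 = 64 * c * ((A : ℤ) + B) ^ 2 * X * (X + 1) →
        (c = 3 ∧ A ≠ B) ∨ (c = 15 ∧ A = 1 ∧ B = 1) := by decide +kernel
  have hcm : c ∈ Nat.divisors 45 := Nat.mem_divisors.mpr ⟨hc, by norm_num⟩
  have hc0 : c ≠ 0 := fun e => by rw [e] at hc; norm_num at hc
  refine key c hcm A (Nat.mem_divisors.mpr ⟨hA, hc0⟩) B (Nat.mem_divisors.mpr ⟨hB, hc0⟩) _ hd X ?_ h
  rcases Int.natAbs_eq X with e | e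
  · exact List.mem_cons.mpr (Or.inl e)
  · exact List.mem_cons.mpr (Or.inr (List.mem_singleton.mpr e))

variable {G : Type*} [Group G] [Finite G] [IsSimpleGroup G]
variable (hg : Nat.card G = 2520) (hG : ¬ IsMulCommutative G)
include hg hG

/-- The Sylow 2-subgroup is dihedral. -/
theorem exists_data : ∃ (P : Sylow 2 G) (w τ : G), Data P w τ 2 := by
  classical
  haveI := Fact.mk Nat.prime_two
  have hnc : ¬ IsCyclic G := fun h => hG (IsCyclic.isMulCommutative)
  obtain ⟨S⟩ : Nonempty (Sylow 2 G) := inferInstance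
  have hS8 := card_sylow_two_eq_eight hg S
  have heven : Even (Nat.card G) := by rw [hg]; exact ⟨1260, rfl⟩
  have hncyc : ¬ IsCyclic (S : Subgroup G) := fun h => by
    obtain ⟨H, hH⟩ := Cfsg.Agent.S0219.result heven S h
    exact not_index_two hnc H hH
  by_cases hab : IsMulCommutative (S : Subgroup G)
  · exfalso
    letI : CommGroup (S : Subgroup G) :=
      { (inferInstance : Group (S : Subgroup G)) with mul_comm := fun a b => hab.is_comm.comm a b }
    set f : (S : Subgroup G) →* (S : Subgroup G) := powMonoidHom 2 with hf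
    have h4 : ∀ x : (S : Subgroup G), x ^ 4 = 1 := by
      intro x
      by_contra hx
      refine hncyc (isCyclic_of_orderOf_eq_card x ?_)
      have hd : orderOf x ∣ 2 ^ 3 := by
        have := orderOf_dvd_natCard x; rw [hS8] at this; exact this
      obtain ⟨i, hi, hio⟩ := (Nat.dvd_prime_pow Nat.prime_two).mp hd
      rcases Nat.lt_or_ge i 3 with h | h
      · exact absurd (orderOf_dvd_iff_pow_eq_one.mp (hio ▸ pow_dvd_pow 2 (show i ≤ 2 by omega))) hx
      · rw [hio, hS8, show i = 3 by omega]; norm_num
    have hle : f.range ≤ f.ker := by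
      rintro _ ⟨x, rfl⟩
      rw [MonoidHom.mem_ker]
      show (x ^ 2) ^ 2 = 1
      rw [← pow_mul]; exact h4 x
    have hr : Nat.card f.range ≤ 2 := by
      have h1 := f.ker.card_mul_index
      rw [Subgroup.index_ker, hS8] at h1
      have h2 := Subgroup.card_le_of_le hle
      nlinarith
    have hsq : ∀ x : (S : Subgroup G), x ^ 2 = 1 := by
      intro x
      by_contra hx
      have hxG : ((x ^ 2 : (S : Subgroup G)) : G) ≠ 1 := fun e => hx (Subtype.ext e)
      refine hxG (Transfer.eq_one_of_abelian_sylow S hab (x ^ 2 : (S : Subgroup G)).2 (fun n hn => ?_) ?_)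
      · set y : (S : Subgroup G) := ⟨n * x * n⁻¹, (Subgroup.mem_normalizer_iff.mp hn x).mp x.2⟩
        have hy : ((y ^ 2 : (S : Subgroup G)) : G) = n * ((x ^ 2 : (S : Subgroup G)) : G) * n⁻¹ := by
          simp [y, conj_pow]
        have hyx : y ^ 2 = x ^ 2 := by
          by_contra hne
          have hy1 : y ^ 2 ≠ 1 := fun e => hx (Subtype.ext (by
            rw [e] at hy
            exact conj_eq_one_iff.mp hy.symm))
          have h3 : ({⟨1, one_mem _⟩, ⟨x ^ 2, x, rfl⟩, ⟨y ^ 2, y, rfl⟩} : Finset f.range).card = 3 := by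
            rw [Finset.card_eq_three]
            exact ⟨_, _, _, fun e => hx (congrArg Subtype.val e).symm, fun e => hy1 (congrArg Subtype.val e).symm,
              fun e => hne (congrArg Subtype.val e).symm, rfl⟩
          letI := Fintype.ofFinite f.range
          have := Finset.card_le_univ ({⟨1, one_mem _⟩, ⟨x ^ 2, x, rfl⟩, ⟨y ^ 2, y, rfl⟩} : Finset f.range)
          rw [h3, ← Nat.card_eq_fintype_card] at this
          omega
        rw [hyx] at hy
        exact (eq_mul_inv_iff_mul_eq.mp hy).symm
      · rcases (show (commutator G).Normal from inferInstance).eq_bot_or_eq_top with h | h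
        · exact absurd ((commutator_eq_bot_iff G).mp h) hG
        · rw [h]; exact Subgroup.mem_top _
    exact not_elementary hg hG S ⟨hab, fun a ha => congrArg Subtype.val (hsq ⟨a, ha⟩)⟩
  · rcases SixtyFour.eight_dihedral_or_quaternion hS8 hab with ⟨⟨e⟩⟩ | ⟨⟨e⟩⟩
    · obtain ⟨τ, D⟩ := DihBlock.data_of_iso S (k := 1) one_pos (by norm_num : 4 = 2 * 2 ^ 1) e
        (σ := (e.symm (DihedralGroup.r 1) : G)) (Subtype.coe_prop _)
        (by rw [Subgroup.orderOf_coe, MulEquiv.orderOf_eq, DihedralGroup.orderOf_r_one])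
      exact ⟨S, _, τ, by simpa using D⟩
    · exfalso
      have h2 := Cfsg.Agent.S0201.result S 0 e fun N hN hodd => by
        refine hN.eq_bot_or_eq_top.resolve_right ?_
        rintro rfl
        rw [Subgroup.card_top] at hodd
        exact Nat.not_even_iff_odd.mpr hodd heven
      rw [center_eq_bot' hnc, Subgroup.card_bot] at h2
      norm_num at h2

/-- Some element has centralizer of order four. -/
theorem exists_small_centralizer : ∃ w : G, Nat.card (Subgroup.centralizer ({w} : Set G)) ≤ 4 := by
  classical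
  letI := Fintype.ofFinite G
  haveI := Fact.mk Nat.prime_two
  haveI h5 : Fact (Nat.Prime 5) := ⟨by norm_num⟩
  have hnc : ¬ IsCyclic G := fun h => hG (IsCyclic.isMulCommutative)
  obtain ⟨P, w, τ, D⟩ := exists_data hg hG
  refine ⟨w, ?_⟩
  have hc1 := one_class_dihedral D (not_index_two hnc)
  have hc2 := one_class_dihedral (DihBlock.swap D) (not_index_two hnc)
  set c := Nat.card (core w 2) with hc
  set A := (invs w 2 τ).card with hA
  set B := (invs w 2 (w * τ)).card with hB
  have hcz : Nat.card (cz w 2) = c * 8 := by rw [hc, card_cz D]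
  -- the core
  have hc45 : c ∣ 45 := by
    have h1 : c * 8 ∣ 315 * 8 := by
      rw [← hcz, show 315 * 8 = Nat.card G by rw [hg]]; exact Subgroup.card_subgroup_dvd_card _
    have h2 : c ∣ 315 := Nat.dvd_of_mul_dvd_mul_right (by norm_num) h1
    have h7 : ¬ 7 ∣ c := fun h => no_seven hg hG Nat.prime_two (by norm_num) (orderOf_z D)
      (h.trans (hc ▸ Subgroup.card_dvd_of_le core_le))
    exact ((show Nat.Coprime 7 c from (Nat.Prime.coprime_iff_not_dvd (by norm_num)).mpr h7).symm.dvd_of_dvd_mul_left
      (show c ∣ 7 * 45 from h2))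
  have hdvd : ∀ t : G, Data P w t 2 → (invs w 2 t).card ∣ c := by
    intro t D'
    have h := invs_card D' D'.memτ
    have h4 := card_centralizer_refl D' 0
    rw [pow_zero, one_mul] at h4
    obtain ⟨k, hk⟩ : 4 ∣ Nat.card ↥(cz w 2 ⊓ Subgroup.centralizer ({t} : Set G)) := by
      rw [← h4]
      exact Subgroup.card_dvd_of_le (inf_le_inf_right _ (sylow_le_centralizer_z D'))
    rw [hk] at h
    exact ⟨k, by linarith⟩
  have hAc : A ∣ c := hdvd τ D
  have hBc : B ∣ c := hdvd _ (DihBlock.swap D)
  -- the order formula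
  obtain ⟨M, hM⟩ := Blocks.exists_isPModular Nat.prime_two
  haveI := Blocks.isPrime_of_isPModular hM
  have hI4 : IsPrimitiveRoot Complex.I (2 * 2) := by simpa using Complex.isPrimitiveRoot_I
  obtain ⟨R⟩ := exists_rotations D hM hI4
  obtain ⟨hE, hsum⟩ := sum_char D hM R hI4
  have key := congrArg (Nat.cast : ℕ → ℂ) (sum_invs_products D)
  rw [Nat.cast_add, pairs_character D hM hc1 hc2 (l := 2) (by norm_num) (by norm_num),
    pairs_character D hM hc1 hc2 (l := 1) one_pos (by norm_num), ← mul_add, ← mul_add, hsum,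
    (Blocks.irr_degree_eq R.a).1] at key
  rw [(Blocks.irr_degree_eq R.a).1] at hE
  set d := charDegree (R.a : G → ℂ) with hd
  have hd0 : (d : ℂ) ≠ 0 := Nat.cast_ne_zero.mpr (Blocks.irr_degree_eq R.a).2.ne'
  set I := (cz w 2).index with hI
  have hIc : (I : ℂ) * (8 * (c : ℂ)) = 2520 := by
    have h := (cz w 2).card_mul_index
    rw [hcz, hg] at h
    have h' : ((I * (8 * c) : ℕ) : ℂ) = ((2520 : ℕ) : ℂ) := by rw [← h]; congr 1; ring
    exact_mod_cast h'
  rw [hg, ← hc] at key
  have hX : 2520 * ((R.δ * d : ℤ) - 1) ^ 2 =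
      64 * (c : ℤ) * ((A : ℤ) + B) ^ 2 * (R.δ * d : ℤ) * ((R.δ * d : ℤ) + 1) := by
    apply Int.cast_injective (α := ℂ)
    have hc0 : (c : ℂ) ≠ 0 := Nat.cast_ne_zero.mpr Nat.card_pos.ne'
    have hI0 : (I : ℂ) ≠ 0 := fun e => by rw [e, zero_mul] at hIc; norm_num at hIc
    push_cast at key ⊢
    rw [← hIc] at key ⊢
    field_simp at key ⊢
    rcases R.signδ with e | e <;> rw [e] at key hE ⊢ <;> push_cast at key ⊢
    · linear_combination 4 * key
    · linear_combination (-4) * key
  -- elements of odd prime order centralizing `w`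
  have hodd : ∀ r : ℕ, r.Prime → r ≠ 2 → ¬ r ∣ Nat.card (Subgroup.centralizer ({w} : Set G)) := by
    intro r hr hr2 hrd
    haveI := Fact.mk hr
    obtain ⟨⟨x, hxC⟩, hx⟩ := exists_prime_orderOf_dvd_card' r hrd
    rw [Subgroup.orderOf_mk] at hx
    have hxw : Commute x w := Subgroup.mem_centralizer_singleton_iff.mp hxC
    have hxcore : x ∈ core w 2 := mem_core D
      (Subgroup.mem_centralizer_singleton_iff.mpr (hxw.pow_right 2).eq)
      (by rw [hx]; exact fun h => hr2 ((Nat.prime_dvd_prime_iff_eq Nat.prime_two hr).mp h).symm)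
    rcases formula_solutions c A B _ hc45 hAc hBc hX with ⟨h3, hne⟩ | ⟨h15, hA1, hB1⟩
    · -- the core is centralized by `w`
      refine hne ?_
      have hr3 : r = 3 := by
        have h := Subgroup.orderOf_dvd_natCard _ hxcore
        rw [hx, ← hc, h3] at h
        exact (Nat.prime_dvd_prime_iff_eq hr Nat.prime_three).mp h
      have hgen : core w 2 = Subgroup.zpowers x :=
        (Subgroup.eq_of_le_of_card_ge (Subgroup.zpowers_le.mpr hxcore)
          (by rw [Nat.card_zpowers, hx, ← hc, h3, hr3])).symm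
      have hcw : ∀ o ∈ core w 2, Commute o w := fun o ho => by
        rw [hgen] at ho
        obtain ⟨i, rfl⟩ := Subgroup.mem_zpowers_iff.mp ho
        exact hxw.zpow_left i
      have hmap : ∀ (s t : G), ∀ v : G, v ∈ invs w 2 t →
          (∀ o ∈ core w 2, Commute o s) → orderOf t = 2 → orderOf (s * t) = 2 →
          s * v ∈ invs w 2 (s * t) := by
        intro s t v hv hs ht hst
        obtain ⟨hv2, hvt⟩ := mem_invs.mp hv
        set o := v * t⁻¹ with ho
        have hv' : v = o * t := by rw [ho]; group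
        have hot : o * t * (o * t) = 1 := by rw [← hv']; exact Invol.mul_self_of_orderOf_two hv2
        have hso := (hs o hvt).eq
        have e : s * v * (s * t)⁻¹ = o := by
          rw [hv', mul_inv_rev, show s * (o * t) * (t⁻¹ * s⁻¹) = s * o * s⁻¹ by group, ← hso]; group
        refine mem_invs.mpr ⟨Invol.orderOf_two_of_mul_self ?_ ?_, by rw [e]; exact hvt⟩
        · have hsts : s * t * s = t := by
            have h1 := Invol.mul_self_of_orderOf_two hst
            have h2 := Invol.mul_self_of_orderOf_two ht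
            calc s * t * s = s * t * (s * t) * t⁻¹ := by group
              _ = t := by rw [h1, one_mul, inv_eq_of_mul_eq_one_left h2]
          have hto : t * o * t⁻¹ = o⁻¹ := by
            refine eq_inv_of_mul_eq_one_right ?_
            rw [inv_eq_of_mul_eq_one_left (Invol.mul_self_of_orderOf_two ht)]
            simpa [mul_assoc] using hot
          have hst' : (s * t)⁻¹ = s * t := inv_eq_of_mul_eq_one_left (Invol.mul_self_of_orderOf_two hst)
          have hsoi : s * o⁻¹ * s⁻¹ = o⁻¹ :=
            mul_inv_eq_iff_eq_mul.mpr ((show Commute o s from hs o hvt).inv_left.eq).symm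
          have hkey : s * t * o * (s * t) = o⁻¹ := by
            calc s * t * o * (s * t) = s * t * o * (s * t)⁻¹ := by rw [hst']
              _ = s * (t * o * t⁻¹) * s⁻¹ := by group
              _ = o⁻¹ := by rw [hto, hsoi]
          calc s * v * (s * v) = (s * o) * t * ((s * o) * t) := by rw [hv']; group
            _ = (o * s) * t * ((o * s) * t) := by rw [← hso]
            _ = o * (s * t * o * (s * t)) := by group
            _ = 1 := by rw [hkey, mul_inv_cancel]
        · intro h1
          have : s * t ∈ core w 2 := by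
            have h2 : o = (s * t)⁻¹ := by rw [← e, h1, one_mul]
            rw [← inv_mem_iff, ← h2]; exact hvt
          exact core_regular this (hst ▸ dvd_rfl)
      have hτ := orderOf_tau D
      have hwτ : orderOf (w * τ) = 2 := by simpa using orderOf_refl D 1
      refine Finset.card_bij' (fun v _ => w * v) (fun v _ => w⁻¹ * v)
        (fun v hv => hmap w τ v hv hcw hτ hwτ) (fun v hv => ?_)
        (fun v _ => inv_mul_cancel_left w v) (fun v _ => mul_inv_cancel_left w v)
      have := hmap w⁻¹ (w * τ) v hv (fun o ho => (hcw o ho).inv_right) hwτ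
        (by rw [inv_mul_cancel_left]; exact hτ)
      rwa [inv_mul_cancel_left] at this
    · -- the core is centralized by `P`
      have hfix : ∀ t, orderOf t = 2 → t ∈ cz w 2 → (invs w 2 t).card = 1 → ∀ o ∈ core w 2, o * t = t * o := by
        intro t ht htC h1 o ho
        have hmem1 : t ∈ invs w 2 t := mem_invs.mpr ⟨ht, by rw [mul_inv_cancel]; exact one_mem _⟩
        have hmem2 : o * t * o⁻¹ ∈ invs w 2 t := mem_invs.mpr ⟨Invol.conj_orderOf_two ht o, by
          rw [show o * t * o⁻¹ * t⁻¹ = o * (t * o⁻¹ * t⁻¹) by group]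
          exact mul_mem ho (core_conj htC (inv_mem ho))⟩
        exact mul_inv_eq_iff_eq_mul.mp (Finset.card_le_one.mp h1.le _ hmem2 _ hmem1)
      obtain ⟨q, hq⟩ := exists_prime_orderOf_dvd_card' 5 (show 5 ∣ Nat.card (core w 2) by
        rw [← hc, h15]; norm_num)
      rw [← Subgroup.orderOf_coe] at hq
      have hτC := sylow_le_centralizer_z D D.memτ
      have h1 := hfix τ (orderOf_tau D) hτC hA1 q q.2
      have h2 := hfix (w * τ) (by simpa using orderOf_refl D 1)
        (sylow_le_centralizer_z D (mul_mem D.memσ D.memτ)) hB1 q q.2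
      have hqw : Commute (q : G) w := by
        have h3 : Commute (q : G) (w * τ * τ) := (show Commute (q : G) (w * τ) from h2).mul_right h1
        rwa [mul_assoc, D.sqτ, mul_one] at h3
      -- the Sylow 5-subgroup is centralized by `P`
      have hQ : IsPGroup 5 (Subgroup.zpowers (q : G)) :=
        IsPGroup.of_card (n := 1) (by rw [Nat.card_zpowers, hq, pow_one])
      obtain ⟨Q, hQle⟩ := hQ.exists_le_sylow
      have hQc : Nat.card (Q : Subgroup G) = 5 := by
        obtain ⟨n, hn⟩ := IsPGroup.iff_card.mp Q.2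
        have h1 := Q.dvd_card_of_dvd_card (show 5 ∣ Nat.card G by rw [hg]; norm_num)
        have h2 := (Q : Subgroup G).card_subgroup_dvd_card
        rw [hg, hn] at h2
        rcases n with _ | _ | n
        · rw [hn] at h1; norm_num at h1
        · simpa using hn
        · exfalso
          have : 5 ^ 2 ∣ 2520 := (pow_dvd_pow 5 (show 2 ≤ n + 2 by omega)).trans h2
          norm_num at this
      have hQeq : Subgroup.zpowers (q : G) = (Q : Subgroup G) :=
        Subgroup.eq_of_le_of_card_ge hQle (by rw [Nat.card_zpowers, hq, hQc])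
      set C := Subgroup.centralizer ((Q : Subgroup G) : Set G) with hCdef
      set N := Subgroup.normalizer ((Q : Subgroup G) : Set G) with hNdef
      have hCN : C ≤ N := Subgroup.centralizer_le_normalizer _
      have hPC : (P : Subgroup G) ≤ C := by
        intro y hy
        rw [hCdef, ← hQeq, Subgroup.mem_centralizer_iff]
        intro z hz
        obtain ⟨i, rfl⟩ := Subgroup.mem_zpowers_iff.mp hz
        refine (Commute.zpow_left ?_ i).eq
        obtain ⟨j, rfl | rfl⟩ := D.cases y hy
        · exact hqw.pow_right j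
        · exact (hqw.pow_right j).mul_right h1
      haveI : IsCyclic (Q : Subgroup G) := isCyclic_of_prime_card hQc
      have hQC : (Q : Subgroup G) ≤ C := fun x hx y hy => by
        letI := IsCyclic.commGroup (α := (Q : Subgroup G))
        exact congrArg Subtype.val (mul_comm (⟨y, hy⟩ : (Q : Subgroup G)) ⟨x, hx⟩)
      have h8C : 8 ∣ Nat.card C := (show Nat.card (P : Subgroup G) = 8 by rw [D.card]) ▸ Subgroup.card_dvd_of_le hPC
      have h5C : 5 ∣ Nat.card C := hQc ▸ Subgroup.card_dvd_of_le hQC
      have hNC : Nat.card N ∣ Nat.card C * 4 := by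
        have h1 : (C.subgroupOf N).index ∣ 4 := by
          rw [← Subgroup.normalizerMonoidHom_ker (Q : Subgroup G), Subgroup.index_ker]
          refine (Subgroup.card_subgroup_dvd_card _).trans ?_
          rw [IsCyclic.card_mulAut, hQc, Nat.totient_prime h5.out]
        have h2 := (C.subgroupOf N).card_mul_index
        rw [Nat.card_congr (Subgroup.subgroupOfEquivOfLe hCN).toEquiv] at h2
        rw [← h2]
        exact Nat.mul_dvd_mul_left _ h1
      have hCdN : Nat.card C ∣ Nat.card N := Subgroup.card_dvd_of_le hCN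
      have hidx := N.card_mul_index
      rw [hg, ← (show Nat.card (Sylow 5 G) = N.index from Sylow.card_eq_index_normalizer Q)] at hidx
      have hmod := card_sylow_modEq_one 5 G
      have hn1 := SmallOrder.card_sylow_ne_one (p := 5) hG (show 5 ∣ Nat.card G by rw [hg]; norm_num)
      have hNd : Nat.card N ∈ Nat.divisors 2520 :=
        Nat.mem_divisors.mpr ⟨Dvd.intro _ hidx, by norm_num⟩
      have h40 : 40 ∣ Nat.card C := Nat.Coprime.mul_dvd_of_dvd_of_dvd (by norm_num : Nat.Coprime 8 5) h8C h5C
      have hkey : ∀ N ∈ Nat.divisors 2520, 40 ∣ N → 2520 / N % 5 = 1 → 2520 / N ≠ 1 → N = 120 := by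
        decide +kernel
      have hN120 : Nat.card N = 120 := by
        have hdiv : 2520 / Nat.card N = Nat.card (Sylow 5 G) := by
          rw [← hidx, Nat.mul_div_cancel_left _ Nat.card_pos]
        exact hkey _ hNd (h40.trans hCdN) (hdiv ▸ hmod) (hdiv ▸ hn1)
      rw [hN120] at hNC hCdN
      have hkey2 : ∀ C ∈ Nat.divisors 120, 40 ∣ C → 120 ∣ C * 4 → C = 120 := by decide +kernel
      have hC120 := hkey2 _ (Nat.mem_divisors.mpr ⟨hCdN, by norm_num⟩) h40 hNC
      exact SmallOrder.not_normalizer_le_centralizer hG (show 5 ∣ Nat.card G by rw [hg]; norm_num) Q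
        (Subgroup.eq_of_le_of_card_ge hCN (by rw [hC120, hN120])).ge
  obtain ⟨Q, hQ, -⟩ := rot_centralizer D (Subgroup.mem_zpowers w) (fun h => by
    have := (pow_sq_eq_one_iff D (l := 1) one_pos (by norm_num)).mp (by simpa using h)
    norm_num at this)
  have h := (Q : Subgroup (Subgroup.centralizer ({w} : Set G))).card_mul_index
  rw [hQ] at h
  have hq1 : (Q : Subgroup (Subgroup.centralizer ({w} : Set G))).index = 1 := by
    by_contra hne
    obtain ⟨r, hr, hrd⟩ := Nat.exists_prime_and_dvd hne
    exact hodd r hr (fun e => Q.not_dvd_index (e ▸ hrd)) (hrd.trans (Subgroup.index_dvd_card _))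
  omega

end CfsgLib.SmallCent
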