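import Cfsg.Agent.S3335
import Mathlib.GroupTheory.SpecificGroups.Alternating.Simple

/-!
# A group of order 2520 with the generators of the alternating group of degree 7
-/

set_option autoImplicit false
set_option linter.unusedSectionVars false

namespace CfsgLib.SmallCent

variable {G : Type*} [Group G] [Finite G]

/-- Three commuting conjugates cannot all make products of order three with one involution. -/
theorem eq_of_three {s v w : G} (hs : s * s = 1) (hv : v * v = 1) (hw : w * w = 1) (hvw : Commute v w)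
    (e1 : (s * v) ^ 3 = 1) (e2 : (s * w) ^ 3 = 1) (e3 : (s * (v * w)) ^ 3 = 1) : s = w := by
  have braid : ∀ {u : G}, u * u = 1 → (s * u) ^ 3 = 1 → s * u * s = u * s * u := by
    intro u hu e
    have e' : s * u * s * (u * s * u) = 1 := by
      rw [← e]; simp [pow_succ, mul_assoc]
    rw [eq_inv_of_mul_eq_one_left e', mul_inv_rev, mul_inv_rev, inv_eq_of_mul_eq_one_left hu,
      inv_eq_of_mul_eq_one_left hs, mul_assoc]
  have b1 := braid hv e1
  have b2 := braid hw e2
  have b3 := braid (u := v * w) (by rw [mul_assoc, ← mul_assoc w, ← hvw.eq, mul_assoc, hw, mul_one, hv]) e3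
  -- expand `s v w s` in two ways
  have h : v * s * v * w * s * w = v * w * s * v * w := by
    calc v * s * v * w * s * w = (v * s * v) * (w * s * w) := by group
      _ = (s * v * s) * (s * w * s) := by rw [b1, b2]
      _ = s * v * (s * s) * w * s := by group
      _ = s * (v * w) * s := by rw [hs]; group
      _ = v * w * s * (v * w) := b3
      _ = v * w * s * v * w := by group
  have h4 : s * (v * w) * s * w = w * s * (v * w) := by
    have := congrArg (fun z => v * z) h
    simpa [← mul_assoc, hv] using this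
  rw [b3] at h4
  have h5 : v * w * s * v = w * s * v * w := by
    have e : v * w * s * (v * w) * w = v * w * s * v := by
      simp [mul_assoc, hw]
    rw [← e, h4]; group
  have h6 : v * s * v = s * v * w := by
    have := congrArg (fun z => w * z) h5
    rw [← mul_assoc, ← mul_assoc, ← mul_assoc, ← hvw.eq, mul_assoc v w w, hw, mul_one, ← mul_assoc, ← mul_assoc,
      ← mul_assoc, hw, one_mul] at this
    exact this
  rw [← b1] at h6
  exact mul_left_cancel h6

/-- The generators and relations of the alternating group of degree 7. -/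
theorem iso_of_generators (hG : Nat.card G = 2520) {a s₁ s₂ s₃ s₄ : G} (ha : a ≠ 1) (ha3 : a ^ 3 = 1)
    (h1 : s₁ ^ 2 = 1) (h2 : s₂ ^ 2 = 1) (h3 : s₃ ^ 2 = 1) (h4 : s₄ ^ 2 = 1)
    (ha1 : (a * s₁) ^ 3 = 1) (h12 : (s₁ * s₂) ^ 3 = 1) (h23 : (s₂ * s₃) ^ 3 = 1) (h34 : (s₃ * s₄) ^ 3 = 1)
    (ha2 : (a * s₂) ^ 2 = 1) (ha3' : (a * s₃) ^ 2 = 1) (ha4 : (a * s₄) ^ 2 = 1)
    (h13 : (s₁ * s₃) ^ 2 = 1) (h14 : (s₁ * s₄) ^ 2 = 1) (h24 : (s₂ * s₄) ^ 2 = 1) :
    Nonempty (G ≃* ↥(alternatingGroup (Fin 7))) := by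
  classical
  obtain ⟨e⟩ := Cfsg.Agent.S3335.result 7 (by norm_num)
  set rels := ({g : FreeGroup (Fin (7 - 2)) | ∃ i : Fin (7 - 2), i.val = 0 ∧ g = FreeGroup.of i ^ 3} ∪
       {g | ∃ i : Fin (7 - 2), 1 ≤ i.val ∧ g = FreeGroup.of i ^ 2} ∪
       {g | ∃ i j : Fin (7 - 2), j.val = i.val + 1 ∧ g = (FreeGroup.of i * FreeGroup.of j) ^ 3} ∪
       {g | ∃ i j : Fin (7 - 2), i.val + 1 < j.val ∧ g = (FreeGroup.of i * FreeGroup.of j) ^ 2})
  let f : Fin (7 - 2) → G := ![a, s₁, s₂, s₃, s₄]
  have hrel : ∀ r ∈ rels, FreeGroup.lift f r = 1 := by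
    rintro r (((⟨i, hi, rfl⟩ | ⟨i, hi, rfl⟩) | ⟨i, j, hij, rfl⟩) | ⟨i, j, hij, rfl⟩) <;>
      simp only [map_pow, map_mul, FreeGroup.lift_apply_of]
    · fin_cases i <;> simp at hi <;> assumption
    · fin_cases i <;> simp at hi <;> assumption
    · fin_cases i <;> fin_cases j <;> simp at hij <;> assumption
    · fin_cases i <;> fin_cases j <;> simp at hij <;> assumption
  haveI : IsSimpleGroup ↥(alternatingGroup (Fin 7)) := alternatingGroup.isSimpleGroup (by simp)
  set F : ↥(alternatingGroup (Fin 7)) →* G := (PresentedGroup.toGroup hrel).comp e.symm.toMonoidHom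
  have hinj : Function.Injective F := by
    rw [← MonoidHom.ker_eq_bot_iff]
    refine F.normal_ker.eq_bot_or_eq_top.resolve_right fun h => ha ?_
    have h0 : F (e (PresentedGroup.of (0 : Fin (7 - 2)))) = 1 := MonoidHom.mem_ker.mp (h ▸ Subgroup.mem_top _)
    have : PresentedGroup.toGroup hrel (PresentedGroup.of (0 : Fin (7 - 2))) = 1 := by
      simpa [F] using h0
    rwa [PresentedGroup.toGroup.of] at this
  have hcard : Nat.card ↥(alternatingGroup (Fin 7)) = Nat.card G := by
    rw [nat_card_alternatingGroup, Nat.card_fin, hG]; rfl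
  exact ⟨(MulEquiv.ofBijective F ((Nat.bijective_iff_injective_and_card F).mpr ⟨hinj, hcard⟩)).symm⟩

end CfsgLib.SmallCent
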