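import Cfsg.Agent.Lib.SmallCent.Orders
import Cfsg.Agent.Lib.SmallCent.AltSeven

/-!
# The case of order 2520
-/

set_option autoImplicit false
set_option linter.unusedSectionVars false
set_option linter.style.haveILetI false

namespace CfsgLib.SmallCent

open DihBlock

variable {G : Type*} [Group G] [Fintype G] [IsSimpleGroup G]

theorem conj_fix_inv {g u v : G} (h : g * u * g⁻¹ = v) : g⁻¹ * v * g = u := by rw [← h]; group

/-- An element with a given orbit on a three element set permutes it cyclically or fixes it. -/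
theorem cycle_or_fix {z t r x : G} (hz : x * z * x⁻¹ ≠ z)
    (hzc : x * z * x⁻¹ = z ∨ x * z * x⁻¹ = t ∨ x * z * x⁻¹ = r)
    (htc : x * t * x⁻¹ = z ∨ x * t * x⁻¹ = t ∨ x * t * x⁻¹ = r)
    (hrc : x * r * x⁻¹ = z ∨ x * r * x⁻¹ = t ∨ x * r * x⁻¹ = r)
    (hzt : z ≠ t) (hzr : z ≠ r) (htr : t ≠ r) (h3 : x ^ 3 = 1) :
    (x * z * x⁻¹ = t ∧ x * t * x⁻¹ = r ∧ x * r * x⁻¹ = z) ∨
      (x * z * x⁻¹ = r ∧ x * r * x⁻¹ = t ∧ x * t * x⁻¹ = z) := by
  have inj : ∀ {u v : G}, x * u * x⁻¹ = x * v * x⁻¹ → u = v := fun e => mul_left_cancel (mul_right_cancel e)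
  have cyc : ∀ u : G, x * (x * (x * u * x⁻¹) * x⁻¹) * x⁻¹ = u := fun u => by
    calc x * (x * (x * u * x⁻¹) * x⁻¹) * x⁻¹ = x ^ 3 * u * (x ^ 3)⁻¹ := by
          simp only [pow_succ, pow_zero, one_mul, mul_inv_rev, mul_assoc]
      _ = u := by rw [h3]; group
  rcases hzc with e | e | e
  · exact absurd e hz
  · rcases htc with e' | e' | e'
    · have := cyc z
      rw [e, e', e] at this
      exact absurd this.symm hzt
    · exact absurd (inj (e.trans e'.symm)) hzt
    · refine Or.inl ⟨e, e', ?_⟩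
      have := cyc z
      rwa [e, e'] at this
  · rcases hrc with e' | e' | e'
    · have := cyc z
      rw [e, e', e] at this
      exact absurd this.symm hzr
    · refine Or.inr ⟨e, e', ?_⟩
      have := cyc z
      rwa [e, e'] at this
    · exact absurd (inj (e.trans e'.symm)) hzr

variable {P : Sylow 2 G} {w τ : G} (D : Data P w τ 2)
  (hC : Subgroup.centralizer ({w} : Set G) = Subgroup.zpowers w)
  (h1 : IsConj (w ^ 2) τ) (h2 : IsConj (w ^ 2) (w * τ))
  (hA : Nat.card (fix w τ) = 3) (hB : Nat.card (fix w (w * τ)) = 1)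
include D hC h1 h2 hA hB

theorem core_eq : core w 2 = fix w τ :=
  (Subgroup.eq_of_le_of_card_ge (inf_le_left : fix w τ ≤ core w 2)
    (by rw [card_core D hC, hB, mul_one]; exact le_of_eq rfl)).symm

theorem card_centralizer_four : Nat.card (Subgroup.centralizer (four P τ : Set G)) = 12 := by
  rw [centralizer_four D hC h1 h2, card_pair D hC, hA]

theorem fix_cases {a : G} (ha : a ∈ fix w τ) (ha1 : a ≠ 1) {x : G} (hx : x ∈ fix w τ) :
    x = 1 ∨ x = a ∨ x = a⁻¹ := by
  haveI := Fact.mk Nat.prime_three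
  have hgen : Subgroup.zpowers (⟨a, ha⟩ : fix w τ) = ⊤ :=
    zpowers_eq_top_of_prime_card hA (fun e => ha1 (congrArg Subtype.val e))
  obtain ⟨k, hk⟩ := hgen ▸ Subgroup.mem_top (⟨x, hx⟩ : fix w τ)
  have h3 : a ^ 3 = 1 := hA ▸ orderOf_dvd_iff_pow_eq_one.mp (Subgroup.orderOf_dvd_natCard _ ha)
  have hk' : a ^ k = x := congrArg Subtype.val hk
  have e : a ^ k = a ^ (k % 3) := by
    conv_lhs => rw [← Int.emod_add_mul_ediv k 3]
    rw [zpow_add, zpow_mul, show a ^ (3 : ℤ) = 1 by exact_mod_cast h3, one_zpow, mul_one]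
  rw [e] at hk'
  have h0 := Int.emod_nonneg k (show (3 : ℤ) ≠ 0 by norm_num)
  have h3' := Int.emod_lt_of_pos k (show (0 : ℤ) < 3 by norm_num)
  interval_cases hr : k % 3
  · exact Or.inl (by rw [← hk', zpow_zero])
  · exact Or.inr (Or.inl (by rw [← hk', zpow_one]))
  · refine Or.inr (Or.inr ?_)
    rw [← hk', eq_inv_iff_mul_eq_one, zpow_two, ← h3]; simp [pow_succ]

/-- The centralizer of the fixed points has index at most seven or order 36. -/
theorem index_or_card (hG : ¬ IsCyclic G) (hg : Nat.card G = 2520) :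
    Nonempty (G ≃* ↥(alternatingGroup (Fin 7))) ∨
      Nat.card (Subgroup.centralizer (fix w τ : Set G)) = 36 ∧
      Nat.card (Subgroup.normalizer (fix w τ : Set G)) = 72 := by
  classical
  have ha : Nat.card (fix w τ) ≠ 1 := by omega
  obtain ⟨a, haA, ha1'⟩ := exists_fix_ne D hC h1 h2 ha
  have ha1 : a ≠ 1 := fun e => ha1' (by rw [e, one_mul])
  set H := Subgroup.centralizer (fix w τ : Set G) with hH
  set K := Subgroup.normalizer (fix w τ : Set G) with hK
  set M := Subgroup.centralizer (four P τ : Set G) with hM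
  have hHK : H ≤ K := Subgroup.centralizer_le_normalizer (fix w τ : Set G)
  -- the index in the normalizer
  have hKle : Nat.card K = 2 * Nat.card H := by
    refine le_antisymm ?_ (two_mul_le D hC h1 h2 hG ha)
    have hcase : ∀ x ∈ K, x ∈ H ∨ w * x ∈ H := by
      intro x hx
      have hxa : x * a * x⁻¹ ∈ fix w τ := (Subgroup.mem_normalizer_iff.mp hx a).mp haA
      have hall : ∀ z : G, (z * a * z⁻¹ = a) → z ∈ H := fun z hz => Subgroup.mem_centralizer_iff.mpr fun b hb => by
        have hza : Commute z a := mul_inv_eq_iff_eq_mul.mp hz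
        rcases fix_cases D hC h1 h2 hA hB haA ha1 hb with rfl | rfl | rfl
        exacts [by simp, hza.eq.symm, hza.inv_right.eq.symm]
      rcases fix_cases D hC h1 h2 hA hB haA ha1 hxa with e | e | e
      · exact absurd (conj_eq_one_iff.mp e) ha1
      · exact Or.inl (hall x e)
      · refine Or.inr (hall _ ?_)
        rw [show w * x * a * (w * x)⁻¹ = w * (x * a * x⁻¹) * w⁻¹ by group, e,
          inverts D hC (inv_mem (mem_fix.mp haA).1), inv_inv]
    let f : K → H ⊕ H := fun x => if h : (x : G) ∈ H then Sum.inl ⟨x, h⟩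
      else Sum.inr ⟨w * x, (hcase x x.2).resolve_left h⟩
    have hf : Function.Injective f := by
      intro x y e
      simp only [f] at e
      by_cases hx : (x : G) ∈ H <;> by_cases hy : (y : G) ∈ H <;> simp [hx, hy] at e <;> first | exact e | exact Subtype.ext e
    have := Nat.card_le_card_of_injective f hf
    rw [Nat.card_sum] at this
    omega
  -- thirty-six divides the centralizer
  have h36 : 36 ∣ Nat.card H := by
    obtain ⟨g, hgH, hg1, hg2, hg3⟩ := exists_cycle D hC h1 h2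
    set N := H ⊓ Subgroup.normalizer (four P τ : Set G) with hN
    have hMN : M ≤ N := le_inf (centralizer_four_le D hC h1 h2) (Subgroup.centralizer_le_normalizer _)
    have hgN : g ∈ N := by
      refine ⟨hgH, Subgroup.mem_normalizer_iff.mpr fun v => ⟨fun hv => ?_, fun hv => ?_⟩⟩
      · rcases four_cases D hC h1 h2 hv with rfl | rfl | rfl | rfl
        exacts [by simp, by rw [hg1]; exact mul_mem (z_mem_four D hC h1 h2) (tau_mem_four D hC h1 h2),
          by rw [hg2]; exact z_mem_four D hC h1 h2, by rw [hg3]; exact tau_mem_four D hC h1 h2]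
      · rcases four_cases D hC h1 h2 hv with e | e | e | e
        · rw [conj_eq_one_iff.mp e]; exact one_mem _
        · rw [mul_left_cancel (mul_right_cancel (e.trans hg2.symm))]; exact tau_mem_four D hC h1 h2
        · rw [mul_left_cancel (mul_right_cancel (e.trans hg3.symm))]
          exact mul_mem (z_mem_four D hC h1 h2) (tau_mem_four D hC h1 h2)
        · rw [mul_left_cancel (mul_right_cancel (e.trans hg1.symm))]; exact z_mem_four D hC h1 h2
    haveI : (M.subgroupOf N).Normal := by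
      refine ⟨fun m hm x => ?_⟩
      rw [Subgroup.mem_subgroupOf, hM, Subgroup.mem_centralizer_iff] at hm ⊢
      intro v hv
      have hxn := Subgroup.mem_normalizer_iff.mp x.2.2
      have hv' : (x : G)⁻¹ * v * x ∈ four P τ := (hxn _).mpr (by
        rwa [show (x : G) * ((x : G)⁻¹ * v * x) * (x : G)⁻¹ = v by group])
      have e := hm _ hv'
      show v * ((x : G) * m * (x : G)⁻¹) = (x : G) * m * (x : G)⁻¹ * v
      calc v * ((x : G) * m * (x : G)⁻¹) = (x : G) * ((x : G)⁻¹ * v * x * m) * (x : G)⁻¹ := by group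
        _ = (x : G) * (m * ((x : G)⁻¹ * v * x)) * (x : G)⁻¹ := by rw [e]
        _ = _ := by group
    have hpow : ∀ k : ℕ, 0 < k → k < 3 → (g : G) ^ k ∉ M := by
      intro k hk hk3 hmem
      have e := Subgroup.mem_centralizer_iff.mp hmem _ (z_mem_four D hC h1 h2)
      have hzt : w ^ 2 * τ ≠ w ^ 2 := fun e => tau_ne_one D (mul_eq_left.mp e)
      interval_cases k
      · rw [pow_one] at e
        exact hzt (hg1.symm.trans (mul_inv_eq_iff_eq_mul.mpr e.symm))
      · have e' : g ^ 2 * w ^ 2 * (g ^ 2)⁻¹ = w ^ 2 := mul_inv_eq_iff_eq_mul.mpr e.symm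
        rw [show g ^ 2 * w ^ 2 * (g ^ 2)⁻¹ = g * (g * w ^ 2 * g⁻¹) * g⁻¹ by
          simp only [pow_two, mul_inv_rev, mul_assoc], hg1, hg3] at e'
        exact tau_not_mem D (e' ▸ pow_mem (Subgroup.mem_zpowers w) 2)
    have h3 : g ^ 3 ∈ M := by
      refine Subgroup.mem_centralizer_iff.mpr fun v hv => ?_
      refine (mul_inv_eq_iff_eq_mul.mp ?_).symm
      rw [show g ^ 3 * v * (g ^ 3)⁻¹ = g * (g * (g * v * g⁻¹) * g⁻¹) * g⁻¹ by
        simp only [pow_succ, pow_zero, one_mul, mul_inv_rev, mul_assoc]]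
      rcases four_cases D hC h1 h2 hv with rfl | rfl | rfl | rfl
      · simp
      · rw [hg1, hg3, hg2]
      · rw [hg2, hg1, hg3]
      · rw [hg3, hg2, hg1]
    haveI := Fact.mk Nat.prime_three
    have ho : orderOf ((⟨g, hgN⟩ : N) : N ⧸ M.subgroupOf N) = 3 := by
      refine orderOf_eq_prime ?_ ?_
      · rw [← QuotientGroup.mk_pow, QuotientGroup.eq_one_iff]; exact h3
      · rw [Ne, QuotientGroup.eq_one_iff]
        intro h
        exact hpow 1 one_pos (by norm_num) (by rw [pow_one]; exact h)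
    have hd : 3 ∣ Nat.card (N ⧸ M.subgroupOf N) := ho ▸ orderOf_dvd_natCard _
    have hcN := Subgroup.card_eq_card_quotient_mul_card_subgroup (M.subgroupOf N)
    rw [Nat.card_congr (Subgroup.subgroupOfEquivOfLe hMN).toEquiv,
      card_centralizer_four D hC h1 h2 hA hB] at hcN
    obtain ⟨l, hl⟩ := hd
    exact (show 36 ∣ Nat.card N from ⟨l, by rw [hcN, hl]; ring⟩).trans (Subgroup.card_dvd_of_le inf_le_left)
  obtain ⟨l, hl⟩ := h36
  have hidx := K.card_mul_index
  rw [hKle, hl, hg] at hidx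
  set n := K.index
  have hln : l * n = 35 := by nlinarith
  have hGna : ¬ IsMulCommutative G := fun hc => not_comm hG fun a b => hc.is_comm.comm a b
  have hKtop := fix_ne_top D hC h1 h2 hG ha
  have h7 : 7 ≤ n := by
    by_contra hlt
    have hd := SmallOrder.two_mul_card_dvd_factorial hGna hKtop
    have h720 : 2 * Nat.card G ∣ Nat.factorial 6 :=
      hd.trans (Nat.factorial_dvd_factorial (show n ≤ 6 by omega))
    rw [hg] at h720
    norm_num [Nat.factorial] at h720
  have hnd : n ∣ 35 := ⟨l, by rw [mul_comm]; exact hln.symm⟩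
  by_cases hn : n = 7
  · left
    obtain ⟨f, hf⟩ := SmallOrder.exists_injective_alternating hGna K hKtop
    have hcard : Nat.card G = Nat.card ↥(alternatingGroup (Fin K.index)) := by
      rw [show K.index = 7 from hn, nat_card_alternatingGroup, Nat.card_fin, hg]; rfl
    have e := MulEquiv.ofBijective f ((Nat.bijective_iff_injective_and_card f).mpr ⟨hf, hcard⟩)
    rw [show K.index = 7 from hn] at e
    exact ⟨e⟩
  · right
    have hn35 : n = 35 := by
      have := Nat.le_of_dvd (by norm_num) hnd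
      interval_cases n <;> omega
    rw [hn35] at hln
    have : l = 1 := by omega
    constructor
    · rw [hl, this]
    · rw [hKle, hl, this]

/-- The alternating group of degree seven. -/
theorem iso_seven (hG : ¬ IsCyclic G) (hg : Nat.card G = 2520) :
    Nonempty (G ≃* ↥(alternatingGroup (Fin 7))) := by
  classical
  rcases index_or_card D hC h1 h2 hA hB hG hg with h | ⟨hH36, hK72⟩
  · exact h
  haveI := Fact.mk Nat.prime_three
  have ha : Nat.card (fix w τ) ≠ 1 := by omega
  obtain ⟨a, haA, ha2⟩ := exists_fix_ne D hC h1 h2 ha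
  have ha1 : a ≠ 1 := fun e => ha2 (by rw [e, one_mul])
  have ha3 : a ^ 3 = 1 := hA ▸ orderOf_dvd_iff_pow_eq_one.mp (Subgroup.orderOf_dvd_natCard _ haA)
  set H := Subgroup.centralizer (fix w τ : Set G) with hH
  set M := Subgroup.centralizer (four P τ : Set G) with hM
  have hMH : M ≤ H := centralizer_four_le D hC h1 h2
  have hz := z_mem_four D hC h1 h2
  have ht := tau_mem_four D hC h1 h2
  have haM : a ∈ M := Subgroup.mem_centralizer_iff.mpr fun v hv => (four_commute_fix D hC h1 h2 hv haA).eq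
  obtain ⟨g, hgH, hg1, hg2, hg3⟩ := exists_cycle D hC h1 h2
  -- the whole of `H` normalizes the four group
  have hHV : ∀ x ∈ H, ∀ v ∈ four P τ, x * v * x⁻¹ ∈ four P τ := by
    set N := H ⊓ Subgroup.normalizer (four P τ : Set G)
    have hMN : M ≤ N := le_inf hMH (Subgroup.centralizer_le_normalizer _)
    have hgN : g ∈ N := by
      refine ⟨hgH, Subgroup.mem_normalizer_iff.mpr fun v => ⟨fun hv => ?_, fun hv => ?_⟩⟩
      · rcases four_cases D hC h1 h2 hv with rfl | rfl | rfl | rfl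
        exacts [by simp, by rw [hg1]; exact mul_mem hz ht, by rw [hg2]; exact hz, by rw [hg3]; exact ht]
      · rcases four_cases D hC h1 h2 hv with e | e | e | e
        · rw [conj_eq_one_iff.mp e]; exact one_mem _
        · rw [mul_left_cancel (mul_right_cancel (e.trans hg2.symm))]; exact ht
        · rw [mul_left_cancel (mul_right_cancel (e.trans hg3.symm))]; exact mul_mem hz ht
        · rw [mul_left_cancel (mul_right_cancel (e.trans hg1.symm))]; exact hz
    have hne : M ≠ N := by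
      intro e
      rw [← e] at hgN
      have := Subgroup.mem_centralizer_iff.mp hgN _ hz
      have h' : g * w ^ 2 * g⁻¹ = w ^ 2 := mul_inv_eq_iff_eq_mul.mpr this.symm
      rw [hg1] at h'
      exact tau_ne_one D (mul_eq_left.mp h')
    -- the orders 12 and 36 leave no room
    have hd1 : Nat.card M ∣ Nat.card N := Subgroup.card_dvd_of_le hMN
    have hd2 : Nat.card N ∣ Nat.card H := Subgroup.card_dvd_of_le inf_le_left
    have hlt : Nat.card M < Nat.card N := by
      by_contra hlt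
      exact hne (Subgroup.eq_of_le_of_card_ge hMN (by omega))
    rw [hM, card_centralizer_four D hC h1 h2 hA hB] at hd1 hlt
    rw [hH36] at hd2
    have h36 : Nat.card N = 36 := by
      obtain ⟨l, hl⟩ := hd1
      rw [hl] at hd2 hlt ⊢
      have : l ∣ 3 := (Nat.mul_dvd_mul_iff_left (by norm_num : 0 < 12)).mp hd2
      rcases (Nat.dvd_prime Nat.prime_three).mp this with rfl | rfl <;> omega
    intro x hx v hv
    have e : N = H := Subgroup.eq_of_le_of_card_ge inf_le_left (by rw [h36, hH36])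
    exact (Subgroup.mem_normalizer_iff.mp (e.symm ▸ hx : x ∈ N).2 v).mp hv
  have hVne : w ^ 2 ≠ τ ∧ w ^ 2 ≠ w ^ 2 * τ ∧ τ ≠ w ^ 2 * τ :=
    ⟨fun e => tau_not_mem D (e ▸ pow_mem (Subgroup.mem_zpowers w) 2),
      fun e => tau_ne_one D (mul_eq_left.mp e.symm),
      fun e => Invol.ne_one_of_orderOf_two (orderOf_z D) (mul_eq_right.mp e.symm)⟩
  have hVcomm : ∀ u ∈ four P τ, ∀ v ∈ four P τ, Commute u v := by
    intro u hu v hv
    have hzt : Commute (w ^ 2) τ := z_commute D D.memτ
    rcases four_cases D hC h1 h2 hu with e | e | e | e <;>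
      rcases four_cases D hC h1 h2 hv with e' | e' | e' | e' <;> rw [e, e'] <;>
      first
        | exact Commute.one_left _
        | exact Commute.one_right _
        | exact Commute.refl _
        | exact hzt
        | exact hzt.symm
        | exact (Commute.refl (w ^ 2)).mul_right hzt
        | exact ((Commute.refl (w ^ 2)).mul_right hzt).symm
        | exact hzt.symm.mul_right (Commute.refl τ)
        | exact (hzt.symm.mul_right (Commute.refl τ)).symm
  -- the inverting involution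
  obtain ⟨s, hsdef⟩ : ∃ s, s = w * τ := ⟨_, rfl⟩
  have hso : orderOf s = 2 := by rw [hsdef]; exact orderOf_tau (DihBlock.swap D)
  have hs2 : s * s = 1 := Invol.mul_self_of_orderOf_two hso
  have hsinv : s⁻¹ = s := inv_eq_of_mul_eq_one_left hs2
  have hsa : s * a * s⁻¹ = a⁻¹ := by
    rw [hsdef, show w * τ * a * (w * τ)⁻¹ = w * (τ * a * τ⁻¹) * w⁻¹ by group,
      ← (four_commute_fix D hC h1 h2 ht haA).eq.symm, mul_inv_cancel_right]
    exact inverts D hC (mem_fix.mp haA).1
  have hsz : s * w ^ 2 * s⁻¹ = w ^ 2 :=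
    mul_inv_eq_iff_eq_mul.mpr (hsdef ▸ (z_commute D (mul_mem D.memσ D.memτ)).eq.symm)
  have hst : s * τ * s⁻¹ = w ^ 2 * τ := by
    rw [hsdef, show w * τ * τ * (w * τ)⁻¹ = w * τ * w⁻¹ by group, w_conj_tau D]
  have hsr : s * (w ^ 2 * τ) * s⁻¹ = τ := by
    rw [show s * (w ^ 2 * τ) * s⁻¹ = (s * w ^ 2 * s⁻¹) * (s * τ * s⁻¹) by group, hsz, hst, ← mul_assoc,
      z_mul_self D, one_mul]
  have hsH : ∀ x ∈ H, s * x * s⁻¹ ∈ H := by
    intro x hx
    rw [hsdef, show w * τ * x * (w * τ)⁻¹ = w * (τ * x * τ⁻¹) * w⁻¹ by group]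
    exact w_normalizes_centralizer D hC h1 h2
      (mul_mem (mul_mem (four_le D hC h1 h2 ht) hx) (inv_mem (four_le D hC h1 h2 ht)))
  -- elements of `H` outside `M` cycle the four group
  have hcycle : ∀ x ∈ H, x ^ 3 = 1 → x ∉ M →
      (x * w ^ 2 * x⁻¹ = τ ∧ x * τ * x⁻¹ = w ^ 2 * τ ∧ x * (w ^ 2 * τ) * x⁻¹ = w ^ 2) ∨
      (x * w ^ 2 * x⁻¹ = w ^ 2 * τ ∧ x * (w ^ 2 * τ) * x⁻¹ = τ ∧ x * τ * x⁻¹ = w ^ 2) := by
    intro x hx hx3 hxM
    have him : ∀ v ∈ four P τ, v ≠ 1 →
        x * v * x⁻¹ = w ^ 2 ∨ x * v * x⁻¹ = τ ∨ x * v * x⁻¹ = w ^ 2 * τ := fun v hv hv1 => by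
      rcases four_cases D hC h1 h2 (hHV x hx v hv) with e | e | e | e
      exacts [absurd (conj_eq_one_iff.mp e) hv1, Or.inl e, Or.inr (Or.inl e), Or.inr (Or.inr e)]
    refine cycle_or_fix (fun e => ?_) (him _ hz (Invol.ne_one_of_orderOf_two (orderOf_z D)))
      (him _ ht (tau_ne_one D)) (him _ (mul_mem hz ht) (Invol.ne_one_of_orderOf_two (orderOf_refl D 2)))
      hVne.1 hVne.2.1 hVne.2.2 hx3
    -- fixing `t` means centralizing
    have hcz : Commute x (w ^ 2) := mul_inv_eq_iff_eq_mul.mp e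
    have hxd : ¬ 2 ∣ orderOf x := fun h => by
      have := h.trans (orderOf_dvd_of_pow_eq_one hx3); norm_num at this
    have hxA : x ∈ core w 2 := mem_core D (Subgroup.mem_centralizer_singleton_iff.mpr hcz.eq) hxd
    rw [core_eq D hC h1 h2 hA hB] at hxA
    refine hxM (Subgroup.mem_centralizer_iff.mpr fun v hv => (four_commute_fix D hC h1 h2 hv hxA).eq)
  -- a Sylow 3-subgroup of `H` inverted by `s`
  obtain ⟨y, hyH, hys, hyM, hy9⟩ : ∃ y ∈ H, s * y * s⁻¹ = y⁻¹ ∧ y ∉ M ∧ y ^ 9 = 1 := by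
    set y0 := g * s * g⁻¹ * s⁻¹ with hy0
    have hy0H : y0 ∈ H := by
      rw [hy0, show g * s * g⁻¹ * s⁻¹ = g * (s * g⁻¹ * s⁻¹) by group]
      exact mul_mem hgH (hsH _ (inv_mem hgH))
    have hy0s : s * y0 * s⁻¹ = y0⁻¹ := by
      rw [hy0, mul_inv_rev, mul_inv_rev, mul_inv_rev, inv_inv, inv_inv, hsinv]
      simp only [mul_assoc, hs2, mul_one]
    refine ⟨y0 ^ 4, pow_mem hy0H 4, by rw [← conj_pow, hy0s, inv_pow], fun hmem => ?_, ?_⟩
    · have e := Subgroup.mem_centralizer_iff.mp hmem _ hz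
      have e' : y0 ^ 4 * w ^ 2 * (y0 ^ 4)⁻¹ = w ^ 2 := mul_inv_eq_iff_eq_mul.mpr e.symm
      have hsi : ∀ {u v : G}, s * u * s⁻¹ = v → s⁻¹ * v * s = u := fun h => conj_fix_inv h
      have hgi : ∀ {u v : G}, g * u * g⁻¹ = v → g⁻¹ * v * g = u := fun h => conj_fix_inv h
      have hy : ∀ u v₁ v₂ v₃ : G, s⁻¹ * u * s = v₁ → g⁻¹ * v₁ * g = v₂ → s * v₂ * s⁻¹ = v₃ →
          y0 * u * y0⁻¹ = g * v₃ * g⁻¹ := by
        intro u v₁ v₂ v₃ h₁ h₂ h₃
        rw [← h₃, ← h₂, ← h₁, hy0]; group
      have c1 : y0 * w ^ 2 * y0⁻¹ = τ := (hy _ _ _ _ (hsi hsz) (hgi hg2) hst).trans hg3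
      have c2 : y0 * τ * y0⁻¹ = w ^ 2 * τ := (hy _ _ _ _ (hsi hsr) (hgi hg1) hsz).trans hg1
      have c3 : y0 * (w ^ 2 * τ) * y0⁻¹ = w ^ 2 := (hy _ _ _ _ (hsi hst) (hgi hg3) hsr).trans hg2
      rw [show y0 ^ 4 * w ^ 2 * (y0 ^ 4)⁻¹ = y0 * (y0 * (y0 * (y0 * w ^ 2 * y0⁻¹) * y0⁻¹) * y0⁻¹) * y0⁻¹ by
        simp only [pow_succ, pow_zero, one_mul, mul_inv_rev, mul_assoc], c1, c2, c3, c1] at e'
      exact hVne.1 e'.symm
    · rw [← pow_mul, show 4 * 9 = 36 by norm_num, ← hH36]
      exact orderOf_dvd_iff_pow_eq_one.mp (Subgroup.orderOf_dvd_natCard _ hy0H)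
  have hay : Commute a y := Subgroup.mem_centralizer_iff.mp hyH a haA
  obtain ⟨P₃, hP₃⟩ : ∃ P₃ : Subgroup G, P₃ = Subgroup.zpowers y ⊔ Subgroup.zpowers a := ⟨_, rfl⟩
  have hyP : y ∈ P₃ := hP₃ ▸ Subgroup.mem_sup_left (Subgroup.mem_zpowers y)
  have haP : a ∈ P₃ := hP₃ ▸ Subgroup.mem_sup_right (Subgroup.mem_zpowers a)
  have hP₃H : P₃ ≤ H := hP₃ ▸ sup_le (Subgroup.zpowers_le.mpr hyH)
    (Subgroup.zpowers_le.mpr (hMH haM))
  have hpgroup : IsPGroup 3 P₃ := by
    rw [hP₃]
    refine IsPGroup.to_sup_of_normal_left' ?_ ?_ ?_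
    · exact Transfer.isPGroup_zpowers (by
        obtain ⟨i, -, hi⟩ := (Nat.dvd_prime_pow Nat.prime_three).mp
          (show orderOf y ∣ 3 ^ 2 by norm_num; exact orderOf_dvd_of_pow_eq_one hy9)
        exact ⟨i, hi⟩)
    · exact Transfer.isPGroup_zpowers ⟨1, by rw [pow_one]; exact orderOf_eq_prime ha3 ha1⟩
    · refine Subgroup.zpowers_le.mpr (Subgroup.mem_normalizer_iff.mpr fun u => ?_)
      constructor
      · rintro ⟨i, rfl⟩
        rw [(hay.zpow_right i).eq, mul_inv_cancel_right]; exact Subgroup.zpow_mem_zpowers y i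
      · rintro ⟨i, hi⟩
        have hi' : y ^ i = a * u * a⁻¹ := hi
        have e : u = y ^ i := by
          calc u = a⁻¹ * (a * u * a⁻¹) * a := by group
            _ = a⁻¹ * y ^ i * a := by rw [hi']
            _ = y ^ i := by rw [mul_assoc, ← (hay.zpow_right i).eq, inv_mul_cancel_left]
        rw [e]; exact Subgroup.zpow_mem_zpowers y i
  have h9 : Nat.card P₃ = 9 := by
    obtain ⟨i, hi⟩ := IsPGroup.iff_card.mp hpgroup
    have hd : Nat.card P₃ ∣ 36 := hH36 ▸ Subgroup.card_dvd_of_le hP₃H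
    rw [hi] at hd ⊢
    have hile : i ≤ 2 := by
      by_contra h
      have := ((pow_dvd_pow 3 (show 3 ≤ i by omega)).trans hd)
      norm_num at this
    have hne : i ≠ 0 ∧ i ≠ 1 := by
      constructor
      · rintro rfl
        have := (Subgroup.eq_bot_of_card_eq _ (by rw [hi, pow_zero])) ▸ haP
        exact ha1 (Subgroup.mem_bot.mp this)
      · rintro rfl
        have hAle : fix w τ ≤ P₃ := fun x hx => by
          rcases fix_cases D hC h1 h2 hA hB haA ha1 hx with rfl | rfl | rfl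
          exacts [one_mem _, haP, inv_mem haP]
        have e := Subgroup.eq_of_le_of_card_ge hAle (by rw [hA, hi, pow_one])
        exact hyM (Subgroup.mem_centralizer_iff.mpr fun v hv =>
          (four_commute_fix D hC h1 h2 hv (e ▸ hyP)).eq)
    obtain rfl : i = 2 := by omega
    norm_num
  have hPcomm : ∀ u ∈ P₃, ∀ v ∈ P₃, Commute u v := fun u hu v hv =>
    congrArg Subtype.val ((IsPGroup.isMulCommutative_of_card_eq_prime_sq (p := 3) (G := P₃)
      (by rw [h9]; norm_num)).is_comm.comm ⟨u, hu⟩ ⟨v, hv⟩)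
  have hPinv : ∀ u ∈ P₃, s * u * s⁻¹ = u⁻¹ := by
    intro u hu
    rw [hP₃, Subgroup.sup_eq_closure] at hu
    induction hu using Subgroup.closure_induction with
    | mem u hu =>
      rcases hu with ⟨i, rfl⟩ | ⟨i, rfl⟩
      · show s * y ^ i * s⁻¹ = (y ^ i)⁻¹
        rw [← conj_zpow, hys, inv_zpow]
      · show s * a ^ i * s⁻¹ = (a ^ i)⁻¹
        rw [← conj_zpow, hsa, inv_zpow]
    | one => group
    | mul u v hu hv ihu ihv =>
      rw [← Subgroup.sup_eq_closure, ← hP₃] at hu hv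
      rw [show s * (u * v) * s⁻¹ = (s * u * s⁻¹) * (s * v * s⁻¹) by group, ihu, ihv, ← mul_inv_rev,
        (hPcomm v hv u hu).eq]
    | inv u _ ihu => rw [show s * u⁻¹ * s⁻¹ = (s * u * s⁻¹)⁻¹ by group, ihu]
  -- `P₃` is Sylow and its normalizer moves the fixed points
  obtain ⟨S₃, hS₃⟩ := hpgroup.exists_le_sylow
  have hSP : (S₃ : Subgroup G) = P₃ := by
    refine (Subgroup.eq_of_le_of_card_ge hS₃ ?_).symm
    rw [h9]
    obtain ⟨i, hi⟩ := IsPGroup.iff_card.mp S₃.2
    have hd : Nat.card (S₃ : Subgroup G) ∣ 2520 := hg ▸ Subgroup.card_subgroup_dvd_card _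
    rw [hi] at hd ⊢
    have hile : i ≤ 2 := by
      by_contra h
      have := ((pow_dvd_pow 3 (show 3 ≤ i by omega)).trans hd)
      norm_num at this
    calc 3 ^ i ≤ 3 ^ 2 := Nat.pow_le_pow_right (by norm_num) hile
      _ = 9 := by norm_num
  obtain ⟨n, hn, hnA⟩ : ∃ n ∈ Subgroup.normalizer (P₃ : Set G), n * a * n⁻¹ ∉ fix w τ := by
    by_contra hall
    push Not at hall
    set NP := Subgroup.normalizer (P₃ : Set G)
    have hsub : ∀ n ∈ NP, n ∈ Subgroup.normalizer (fix w τ : Set G) := by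
      intro n hn
      have hin : ∀ z : G, z ∈ NP → ∀ x ∈ fix w τ, z * x * z⁻¹ ∈ fix w τ := by
        intro z hz' x hx
        rcases fix_cases D hC h1 h2 hA hB haA ha1 hx with rfl | rfl | rfl
        · simp
        · exact hall z hz'
        · rw [show z * a⁻¹ * z⁻¹ = (z * a * z⁻¹)⁻¹ by group]; exact inv_mem (hall z hz')
      refine Subgroup.mem_normalizer_iff.mpr fun x => ⟨hin n hn x, fun h => ?_⟩
      have := hin n⁻¹ (inv_mem hn) _ h
      rwa [show n⁻¹ * (n * x * n⁻¹) * n⁻¹⁻¹ = x by group] at this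
    -- the part inside `H` is `P₃`
    have hinH : ∀ x ∈ H, x ∈ NP → x ∈ P₃ := by
      intro x hx hxn
      -- split `x` as an element of `M` times one of `P₃`
      have hcov : ∀ z ∈ H, ∃ m ∈ M, ∃ p ∈ P₃, z = m * p := by
        intro z hz'
        have hfi : ∀ v : H, ∃ m ∈ M, ∃ p ∈ P₃, (v : G) = m * p := by
          let F : (four P τ) × P₃ → H := fun v =>
            ⟨(v.1 : G) * v.2, mul_mem (four_le D hC h1 h2 v.1.2) (hP₃H v.2.2)⟩
          have hF : Function.Injective F := by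
            intro v v' e
            have e' : (v.1 : G) * v.2 = v'.1 * v'.2 := congrArg Subtype.val e
            have e1 : (v'.1 : G)⁻¹ * v.1 = (v'.2 : G) * (v.2 : G)⁻¹ := by
              rw [eq_mul_inv_iff_mul_eq, mul_assoc, e', inv_mul_cancel_left]
            have hone : (v'.1 : G)⁻¹ * v.1 = 1 := by
              by_contra hne
              have h2o := four_orderOf D hC h1 h2 (mul_mem (inv_mem v'.1.2) v.1.2) hne
              have h3o : orderOf ((v'.1 : G)⁻¹ * v.1) ∣ 9 :=
                h9 ▸ Subgroup.orderOf_dvd_natCard _ (e1 ▸ mul_mem v'.2.2 (inv_mem v.2.2))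
              rw [h2o] at h3o
              norm_num at h3o
            have hv1 : (v.1 : G) = v'.1 := (inv_mul_eq_one.mp hone).symm
            rw [hv1] at e'
            exact Prod.ext (Subtype.ext hv1) (Subtype.ext (mul_left_cancel e'))
          have hbij : Function.Bijective F := (Nat.bijective_iff_injective_and_card F).mpr
            ⟨hF, by rw [Nat.card_prod, card_four D hC h1 h2, h9, hH36]⟩
          intro v
          obtain ⟨⟨m, p⟩, e⟩ := hbij.2 v
          exact ⟨m, Subgroup.mem_centralizer_iff.mpr fun u hu => (hVcomm u hu m m.2).eq, p, p.2,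
            (congrArg Subtype.val e).symm⟩
        exact hfi ⟨z, hz'⟩
      obtain ⟨m, hm, p, hp, rfl⟩ := hcov x hx
      have hmn : m ∈ NP := (NP.mul_mem_cancel_right (Subgroup.le_normalizer hp)).mp hxn
      -- `m` commutes with `y` modulo `M ⊓ P₃ ≤ A`
      obtain ⟨b, hb, v, hv, rfl⟩ := pair_cases D hC h1 h2 (y := m)
        (by rw [hM, centralizer_four D hC h1 h2] at hm; exact hm.1)
        (by rw [hM, centralizer_four D hC h1 h2] at hm; exact Subgroup.mem_centralizer_singleton_iff.mp hm.2)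
      have hbP : b ∈ P₃ := by
        rcases fix_cases D hC h1 h2 hA hB haA ha1 hb with rfl | rfl | rfl
        exacts [one_mem _, haP, inv_mem haP]
      have hvn : v ∈ NP := (NP.mul_mem_cancel_left (Subgroup.le_normalizer hbP)).mp hmn
      by_cases hv1 : v = 1
      · rw [hv1, mul_one]; exact mul_mem hbP hp
      exfalso
      have hcom : v * y * v⁻¹ * y⁻¹ ∈ P₃ :=
        mul_mem ((Subgroup.mem_normalizer_iff.mp hvn y).mp hyP) (inv_mem hyP)
      have hcV : v * y * v⁻¹ * y⁻¹ ∈ four P τ := by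
        rw [show v * y * v⁻¹ * y⁻¹ = v * (y * v⁻¹ * y⁻¹) by group]
        exact mul_mem hv (hHV y hyH _ (inv_mem hv))
      have he : v * y * v⁻¹ * y⁻¹ = 1 := by
        by_contra hne
        have h2o := four_orderOf D hC h1 h2 hcV hne
        have h3o : orderOf (v * y * v⁻¹ * y⁻¹) ∣ 9 := h9 ▸ Subgroup.orderOf_dvd_natCard _ hcom
        rw [h2o] at h3o
        norm_num at h3o
      have hcy : Commute y v := (mul_inv_eq_iff_eq_mul.mp (mul_inv_eq_one.mp he)).symm
      -- `y` then fixes a point of the three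
      apply hyM
      refine Subgroup.mem_centralizer_iff.mpr ?_
      have hvfix : y * v * y⁻¹ = v := mul_inv_eq_iff_eq_mul.mpr hcy.eq
      have hy3 : y ^ 3 ∈ M := by
        have ho : orderOf (y ^ 3) ∣ 3 := orderOf_dvd_of_pow_eq_one (by rw [← pow_mul]; exact hy9)
        refine Subgroup.mem_centralizer_iff.mpr fun u hu => ?_
        obtain rfl | hu1 := eq_or_ne u 1
        · simp
        -- `y ^ 3` fixes `v` and permutes the other two, with odd order
        have hfix3 : ∀ u ∈ four P τ, y ^ 3 * u * (y ^ 3)⁻¹ ∈ four P τ := hHV _ (pow_mem hyH 3)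
        by_contra hne
        have hxM : y ^ 3 ∉ M := fun h => hne (Subgroup.mem_centralizer_iff.mp h u hu)
        have hc := hcycle (y ^ 3) (pow_mem hyH 3) (orderOf_dvd_iff_pow_eq_one.mp ho) hxM
        have hv3 : y ^ 3 * v * (y ^ 3)⁻¹ = v := mul_inv_eq_iff_eq_mul.mpr (hcy.pow_left 3).eq
        rcases four_cases D hC h1 h2 hv with rfl | rfl | rfl | rfl
        · exact hv1 rfl
        · rcases hc with ⟨c, -, -⟩ | ⟨c, -, -⟩
          · exact hVne.1 (hv3.symm.trans c)
          · exact hVne.2.1 (hv3.symm.trans c)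
        · rcases hc with ⟨-, c, -⟩ | ⟨-, -, c⟩
          · exact hVne.2.2 (hv3.symm.trans c)
          · exact hVne.1 (c.symm.trans hv3)
        · rcases hc with ⟨-, -, c⟩ | ⟨-, c, -⟩
          · exact hVne.2.1 (c.symm.trans hv3)
          · exact hVne.2.2 (c.symm.trans hv3)
      intro u hu
      by_contra hne
      -- the permutation of `y` has order dividing three
      have hcube : ∀ u ∈ four P τ, y * (y * (y * u * y⁻¹) * y⁻¹) * y⁻¹ = u := by
        intro u hu
        calc y * (y * (y * u * y⁻¹) * y⁻¹) * y⁻¹ = y ^ 3 * u * (y ^ 3)⁻¹ := by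
              simp only [pow_succ, pow_zero, one_mul, mul_inv_rev, mul_assoc]
          _ = u := mul_inv_eq_iff_eq_mul.mpr (Subgroup.mem_centralizer_iff.mp hy3 u hu).symm
      have hu1 : u ≠ 1 := fun e => hne (by rw [e]; simp)
      have huv : u ≠ v := fun e => hne (by rw [e]; exact hcy.eq.symm)
      set u' := y * u * y⁻¹ with hu'
      have hu'u : u' ≠ u := fun e => hne ((mul_inv_eq_iff_eq_mul.mp (hu'.symm.trans e)).symm)
      have inj : ∀ {p q : G}, y * p * y⁻¹ = y * q * y⁻¹ → p = q := fun e =>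
        mul_left_cancel (mul_right_cancel e)
      have hu'v : u' ≠ v := fun e => huv (inj (e.trans hvfix.symm))
      have hu'V := hHV y hyH u hu
      have hu'1 : u' ≠ 1 := fun e => hu1 (conj_eq_one_iff.mp e)
      set u'' := y * u' * y⁻¹ with hu''
      have hu''V := hHV y hyH u' hu'V
      have hu''1 : u'' ≠ 1 := fun e => hu'1 (conj_eq_one_iff.mp e)
      have hu''v : u'' ≠ v := fun e => hu'v (inj (e.trans hvfix.symm))
      have hu''u' : u'' ≠ u' := fun e => hu'u (inj e)
      have hu''u : u'' ≠ u := by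
        intro e
        have h3 := hcube u hu
        rw [← hu', ← hu'', e, ← hu'] at h3
        exact hu'u h3
      have hfour : ({1, v, u, u', u''} : Finset G).card ≤ 4 := by
        rw [← card_four D hC h1 h2, Nat.card_eq_fintype_card, ← Finset.card_univ,
          ← Finset.card_map ⟨Subtype.val, Subtype.val_injective⟩]
        refine Finset.card_le_card fun x hx => ?_
        simp only [Finset.mem_insert, Finset.mem_singleton] at hx
        simp only [Finset.mem_map, Finset.mem_univ, true_and, Function.Embedding.coeFn_mk]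
        rcases hx with rfl | rfl | rfl | rfl | rfl
        exacts [⟨⟨1, one_mem _⟩, rfl⟩, ⟨⟨_, hv⟩, rfl⟩, ⟨⟨_, hu⟩, rfl⟩, ⟨⟨_, hu'V⟩, rfl⟩, ⟨⟨_, hu''V⟩, rfl⟩]
      rw [Finset.card_insert_of_notMem, Finset.card_insert_of_notMem, Finset.card_insert_of_notMem,
        Finset.card_pair hu''u'.symm] at hfour
      · omega
      · simp [hu'u.symm, hu''u.symm]
      · simp [huv.symm, hu'v.symm, hu''v.symm]
      · simp [Ne.symm hv1, hu1.symm, hu'1.symm, hu''1.symm]
    have hsN : s ∈ NP := by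
      refine Subgroup.mem_normalizer_iff.mpr fun x => ⟨fun hx => by rw [hPinv x hx]; exact inv_mem hx, fun hx => ?_⟩
      have e := hPinv _ hx
      rw [show s * (s * x * s⁻¹) * s⁻¹ = (s * s) * x * (s * s)⁻¹ by group, hs2, one_mul, inv_one, mul_one] at e
      rw [e]; exact inv_mem hx
    have h18 : Nat.card NP = 18 := by
      have hsP : s ∉ P₃ := fun h => by
        have := h9 ▸ Subgroup.orderOf_dvd_natCard _ h
        rw [hso] at this; norm_num at this
      have hidx : (P₃.subgroupOf NP).index = 2 := by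
        rw [Subgroup.index_eq_two_iff]
        refine ⟨⟨s, hsN⟩, fun b => ?_⟩
        have hb := hsub _ b.2
        rcases Classical.em ((b : G) ∈ H) with hbH | hbH
        · have hbP := hinH _ hbH b.2
          exact Or.inr ⟨hbP, fun h => hsP ((P₃.mul_mem_cancel_left hbP).mp h)⟩
        · refine Or.inl ⟨?_, fun h => hbH (hP₃H h)⟩
          -- both invert the fixed points
          have hba : (b : G) * a * (b : G)⁻¹ = a⁻¹ := by
            rcases fix_cases D hC h1 h2 hA hB haA ha1 ((Subgroup.mem_normalizer_iff.mp hb a).mp haA) with e | e | e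
            · exact absurd (conj_eq_one_iff.mp e) ha1
            · exfalso
              refine hbH (Subgroup.mem_centralizer_iff.mpr fun c hc => ?_)
              have hba' : Commute (b : G) a := mul_inv_eq_iff_eq_mul.mp e
              rcases fix_cases D hC h1 h2 hA hB haA ha1 hc with rfl | rfl | rfl
              exacts [by simp, hba'.eq.symm, hba'.inv_right.eq.symm]
            · exact e
          refine hinH _ (Subgroup.mem_centralizer_iff.mpr fun c hc => ?_) (mul_mem b.2 hsN)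
          have hbs : Commute ((b : G) * s) a := by
            refine mul_inv_eq_iff_eq_mul.mp ?_
            rw [show (b : G) * s * a * ((b : G) * s)⁻¹ = b * (s * a * s⁻¹) * (b : G)⁻¹ by group, hsa,
              show (b : G) * a⁻¹ * (b : G)⁻¹ = ((b : G) * a * (b : G)⁻¹)⁻¹ by group, hba, inv_inv]
          rcases fix_cases D hC h1 h2 hA hB haA ha1 hc with rfl | rfl | rfl
          exacts [by simp, hbs.eq.symm, hbs.inv_right.eq.symm]
      have h := (P₃.subgroupOf NP).card_mul_index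
      rw [Nat.card_congr (Subgroup.subgroupOfEquivOfLe Subgroup.le_normalizer).toEquiv, h9, hidx] at h
      omega
    have hmod := card_sylow_modEq_one 3 G
    rw [Sylow.card_eq_index_normalizer S₃] at hmod
    have hi := NP.card_mul_index
    rw [h18, hg] at hi
    rw [show Subgroup.normalizer (S₃ : Set G) = NP from
      congrArg (fun Q : Subgroup G => Subgroup.normalizer (Q : Set G)) hSP] at hmod
    have : NP.index = 140 := by omega
    rw [this] at hmod
    exact absurd hmod (by decide)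
  set x := n * a * n⁻¹ with hx
  have hxP : x ∈ P₃ := (Subgroup.mem_normalizer_iff.mp hn a).mp haP
  have hxH : x ∈ H := hP₃H hxP
  have hx3 : x ^ 3 = 1 := by rw [hx, conj_pow, ha3]; group
  have hxM : x ∉ M := by
    intro h
    obtain ⟨b, hb, v, hv, e⟩ := pair_cases D hC h1 h2 (y := x)
      (by rw [hM, centralizer_four D hC h1 h2] at h; exact h.1)
      (by rw [hM, centralizer_four D hC h1 h2] at h; exact Subgroup.mem_centralizer_singleton_iff.mp h.2)
    refine hnA ?_
    have hcb : Commute b v := (four_commute_fix D hC h1 h2 hv hb).symm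
    have hv2 : v * v = 1 := by
      rcases eq_or_ne v 1 with rfl | hv1
      · exact one_mul 1
      · exact Invol.mul_self_of_orderOf_two (four_orderOf D hC h1 h2 hv hv1)
    have h3b : b ^ 3 = 1 := hA ▸ orderOf_dvd_iff_pow_eq_one.mp (Subgroup.orderOf_dvd_natCard _ hb)
    have : v = 1 := by
      have := hcb.mul_pow 3
      rw [← e, hx3, h3b, one_mul, pow_succ, pow_two, hv2, one_mul] at this
      exact this.symm
    rw [show x = b by rw [e, this, mul_one]]
    exact hb
  have hsx : s * x * s⁻¹ = x⁻¹ := hPinv x hxP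
  have hxa : Commute a x := hPcomm a haP x hxP
  -- the four involutions
  set s₄ := s * x with hs₄
  have hs4 : s₄ * s₄ = 1 := by
    rw [hs₄, show s * x * (s * x) = (s * x * s⁻¹) * (s * s) * x by group, hsx, hs2]; group
  have hs4a : s₄ * a * s₄⁻¹ = a⁻¹ := by
    rw [hs₄, show s * x * a * (s * x)⁻¹ = s * (x * a * x⁻¹) * s⁻¹ by group, ← hxa.eq, mul_inv_cancel_right, hsa]
  set v := x * w ^ 2 * x⁻¹ with hv
  have hvV : v ∈ four P τ := hHV x hxH _ hz
  have hv1 : v ≠ 1 := fun e => Invol.ne_one_of_orderOf_two (orderOf_z D) (conj_eq_one_iff.mp e)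
  have hvo : orderOf v = 2 := four_orderOf D hC h1 h2 hvV hv1
  have hv2 : v * v = 1 := Invol.mul_self_of_orderOf_two hvo
  have hcyc := hcycle x hxH hx3 hxM
  have hvfix : s₄ * v * s₄⁻¹ = v := by
    rw [hs₄, show s * x * v * (s * x)⁻¹ = s * (x * v * x⁻¹) * s⁻¹ by group]
    rcases hcyc with ⟨c1, c2, -⟩ | ⟨c1, c2, -⟩
    · rw [hv, c1, c2, hsr]
    · rw [hv, c1, c2, hst]
  have hv4 : Commute v s₄ := (mul_inv_eq_iff_eq_mul.mp hvfix).symm
  set V' := (four P τ).map (MulAut.conj n).toMonoidHom with hV'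
  obtain ⟨s₁, hs1V, hs1ne, hs1s⟩ : ∃ s₁ ∈ V', s₁ ≠ 1 ∧ Commute s₁ s := by
    -- an involution inverting `a` fixes one of the three
    set u := n⁻¹ * s * n with hu
    have hu2 : u * u = 1 := by
      rw [hu, show n⁻¹ * s * n * (n⁻¹ * s * n) = n⁻¹ * (s * s) * n by group, hs2]; group
    have hua : u * a * u⁻¹ = a⁻¹ := by
      rw [hu, show n⁻¹ * s * n * a * (n⁻¹ * s * n)⁻¹ = n⁻¹ * (s * (n * a * n⁻¹) * s⁻¹) * n by group,
        ← hx, hsx, hx]; group
    have hwu : w * u ∈ H := by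
      refine Subgroup.mem_centralizer_iff.mpr fun c hc => ?_
      have hwua : Commute (w * u) a := by
        refine mul_inv_eq_iff_eq_mul.mp ?_
        rw [show w * u * a * (w * u)⁻¹ = w * (u * a * u⁻¹) * w⁻¹ by group, hua,
          inverts D hC (inv_mem (mem_fix.mp haA).1), inv_inv]
      rcases fix_cases D hC h1 h2 hA hB haA ha1 hc with rfl | rfl | rfl
      exacts [by simp, hwua.eq.symm, hwua.inv_right.eq.symm]
    have huV : ∀ z ∈ four P τ, u * z * u⁻¹ ∈ four P τ := by
      intro z hz'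
      rw [show u * z * u⁻¹ = w⁻¹ * (w * u * z * (w * u)⁻¹) * w⁻¹⁻¹ by group]
      exact four_normal D (inv_mem D.memσ) (hHV _ hwu z hz')
    have huinv : ∀ z : G, u * (u * z * u⁻¹) * u⁻¹ = z := fun z => by
      rw [show u * (u * z * u⁻¹) * u⁻¹ = (u * u) * z * (u * u)⁻¹ by group, hu2]; group
    have hzne := Invol.ne_one_of_orderOf_two (orderOf_z D)
    obtain ⟨e, heV, he1, hee⟩ : ∃ e ∈ four P τ, e ≠ 1 ∧ u * e * u⁻¹ = e := by
      rcases four_cases D hC h1 h2 (huV _ hz) with e | e | e | e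
      · exact absurd (conj_eq_one_iff.mp e) hzne
      · exact ⟨_, hz, hzne, e⟩
      · refine ⟨w ^ 2 * τ, mul_mem hz ht, Invol.ne_one_of_orderOf_two (orderOf_refl D 2), ?_⟩
        have e' : u * τ * u⁻¹ = w ^ 2 := by rw [← e, huinv]
        rw [show u * (w ^ 2 * τ) * u⁻¹ = (u * w ^ 2 * u⁻¹) * (u * τ * u⁻¹) by group, e, e']
        exact (z_commute D D.memτ).eq.symm
      · refine ⟨τ, ht, tau_ne_one D, ?_⟩
        have e' : u * (w ^ 2 * τ) * u⁻¹ = w ^ 2 := by rw [← e, huinv]
        rw [show u * (w ^ 2 * τ) * u⁻¹ = (u * w ^ 2 * u⁻¹) * (u * τ * u⁻¹) by group, e] at e'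
        have : w ^ 2 * τ * (u * τ * u⁻¹) = w ^ 2 * τ * τ := by
          rw [e', mul_assoc, D.sqτ, mul_one]
        exact mul_left_cancel this
    refine ⟨n * e * n⁻¹, ⟨e, heV, rfl⟩, fun h => he1 (conj_eq_one_iff.mp h), ?_⟩
    refine (mul_inv_eq_iff_eq_mul.mp ?_ : s * (n * e * n⁻¹) = n * e * n⁻¹ * s).symm
    rw [show s * (n * e * n⁻¹) * s⁻¹ = n * (u * e * u⁻¹) * n⁻¹ by rw [hu]; group, hee]
  obtain ⟨e₁, he₁, he₁'⟩ := Subgroup.mem_map.mp hs1V
  have he₁'' : n * e₁ * n⁻¹ = s₁ := he₁'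
  have he₁1 : e₁ ≠ 1 := fun h => hs1ne (by rw [← he₁'', h]; group)
  have hs1o : orderOf s₁ = 2 := by
    rw [← he₁'', Transfer.orderOf_conj, four_orderOf D hC h1 h2 he₁ he₁1]
  have hs12 : s₁ * s₁ = 1 := Invol.mul_self_of_orderOf_two hs1o
  have hs1x : Commute s₁ x := by
    rw [← he₁'', hx]
    exact (four_commute_fix D hC h1 h2 he₁ haA).map (MulAut.conj n)
  have hs14 : Commute s₁ s₄ := hs1s.mul_right hs1x
  -- `a` cycles the second four group
  have haV' : n⁻¹ * a * n ∉ M := by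
    intro h
    obtain ⟨b, hb, c, hc, e⟩ := pair_cases D hC h1 h2 (y := n⁻¹ * a * n)
      (by rw [hM, centralizer_four D hC h1 h2] at h; exact h.1)
      (by rw [hM, centralizer_four D hC h1 h2] at h; exact Subgroup.mem_centralizer_singleton_iff.mp h.2)
    have hc1 : c = 1 := by
      have hcb : Commute b c := (four_commute_fix D hC h1 h2 hc hb).symm
      have h3b : b ^ 3 = 1 := hA ▸ orderOf_dvd_iff_pow_eq_one.mp (Subgroup.orderOf_dvd_natCard _ hb)
      have hc2 : c * c = 1 := by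
        rcases eq_or_ne c 1 with rfl | hc1
        · exact one_mul 1
        · exact Invol.mul_self_of_orderOf_two (four_orderOf D hC h1 h2 hc hc1)
      have := hcb.mul_pow 3
      rw [← e, show (n⁻¹ * a * n) ^ 3 = n⁻¹ * a ^ 3 * n⁻¹⁻¹ by
        rw [← conj_pow, inv_inv], ha3, h3b, one_mul, pow_succ, pow_two, hc2, one_mul] at this
      simpa using this.symm
    rw [hc1, mul_one] at e
    have hab : a = n * b * n⁻¹ := by rw [← e]; group
    rcases fix_cases D hC h1 h2 hA hB haA ha1 hb with e' | e' | e' <;> rw [e'] at hab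
    · exact ha1 (hab.trans (by group))
    · exact hnA (by rw [hx, ← hab]; exact haA)
    · refine hnA ?_
      rw [hx, show n * a * n⁻¹ = (n * a⁻¹ * n⁻¹)⁻¹ by group, ← hab]
      exact inv_mem haA
  have hanH : n⁻¹ * a * n ∈ H := by
    refine hP₃H ?_
    have := (Subgroup.mem_normalizer_iff.mp (inv_mem hn) a).mp haP
    rwa [inv_inv] at this
  have han3 : (n⁻¹ * a * n) ^ 3 = 1 := by
    rw [show n⁻¹ * a * n = n⁻¹ * a * n⁻¹⁻¹ by group, conj_pow, ha3]; group
  have hcyc' := hcycle _ hanH han3 haV'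
  have hprod : ∀ {p : G}, (p * w ^ 2 * p⁻¹ = τ ∧ p * τ * p⁻¹ = w ^ 2 * τ ∧ p * (w ^ 2 * τ) * p⁻¹ = w ^ 2) ∨
      (p * w ^ 2 * p⁻¹ = w ^ 2 * τ ∧ p * (w ^ 2 * τ) * p⁻¹ = τ ∧ p * τ * p⁻¹ = w ^ 2) →
      ∀ e ∈ four P τ, (p * e * p⁻¹) * (p * (p * e * p⁻¹) * p⁻¹) * e = 1 := by
    intro p hp e he
    have hzt : Commute (w ^ 2) τ := z_commute D D.memτ
    have hzz := z_mul_self D
    have htt := D.sqτ
    have hzl : ∀ q, τ * (w ^ 2 * q) = w ^ 2 * (τ * q) := fun q => by
      rw [← mul_assoc, ← hzt.eq, mul_assoc]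
    have hzzl : ∀ q, w ^ 2 * (w ^ 2 * q) = q := fun q => by rw [← mul_assoc, hzz, one_mul]
    have httl : ∀ q, τ * (τ * q) = q := fun q => by rw [← mul_assoc, htt, one_mul]
    rcases four_cases D hC h1 h2 he with h | h | h | h <;> rw [h]
    · simp
    all_goals rcases hp with ⟨c1, c2, c3⟩ | ⟨c1, c2, c3⟩
    all_goals simp only [c1, c2, c3, mul_assoc, hzl, ← hzt.eq, hzzl, httl, hzz, htt, mul_one]
  have hcube : ∀ p q : G, p ^ 3 = 1 → q * q = 1 →
      (p * q * p⁻¹) * (p * (p * q * p⁻¹) * p⁻¹) * q = 1 → (p * q) ^ 3 = 1 := by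
    intro p q hp3 hq h
    calc (p * q) ^ 3 = (p * q * p⁻¹) * (p * (p * q * p⁻¹) * p⁻¹) * (p ^ 3 * q * (p ^ 3)⁻¹) * p ^ 3 := by
          simp only [pow_succ, pow_zero, one_mul, mul_inv_rev, mul_assoc, inv_mul_cancel_left, inv_mul_cancel,
            mul_one]
      _ = 1 := by rw [hp3, one_mul, inv_one, mul_one, mul_one, h]
  have ha_s1 : (a * s₁) ^ 3 = 1 := by
    have h := hcube _ e₁ han3 (Invol.mul_self_of_orderOf_two (four_orderOf D hC h1 h2 he₁ he₁1))
      (hprod hcyc' e₁ he₁)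
    rw [show a * s₁ = n * (n⁻¹ * a * n * e₁) * n⁻¹ by rw [← he₁'']; group, conj_pow, h]; group
  -- relations
  have hsa2 : (a * s) ^ 2 = 1 := by
    rw [pow_two, show a * s * (a * s) = a * (s * a * s⁻¹) * (s * s) by group, hsa, hs2]; group
  have hs4a2 : (a * s₄) ^ 2 = 1 := by
    rw [pow_two, show a * s₄ * (a * s₄) = a * (s₄ * a * s₄⁻¹) * (s₄ * s₄) by group, hs4a, hs4]; group
  set s₂ := v * s₄ with hs₂
  have hs22 : s₂ * s₂ = 1 := by
    rw [hs₂, mul_assoc, ← mul_assoc s₄, ← hv4.eq, mul_assoc v s₄ s₄, hs4, mul_one, hv2]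
  have hva : Commute v a := four_commute_fix D hC h1 h2 hvV haA
  have hs2a2 : (a * s₂) ^ 2 = 1 := by
    rw [pow_two, hs₂, ← mul_assoc a v, ← hva.eq, show v * a * s₄ * (v * a * s₄) = v * (a * s₄ * v * s₄⁻¹) * (s₄ * a * s₄⁻¹) * (s₄ * s₄) by group,
      show a * s₄ * v * s₄⁻¹ = a * (s₄ * v * s₄⁻¹) by group, hvfix, hs4a, hs4, ← hva.eq, ← mul_assoc, hv2]
    group
  have h23 : (s₂ * s) ^ 3 = 1 := by
    rw [show s₂ * s = v * (s * x * s⁻¹) * (s * s) by rw [hs₂, hs₄]; group, hsx, hs2, mul_one]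
    have hxi : x⁻¹ ^ 3 = 1 := by rw [inv_pow, hx3, inv_one]
    have hxiM : x⁻¹ ∉ M := fun h => hxM (by simpa using inv_mem h)
    have h := hcube x⁻¹ v hxi hv2 (hprod (hcycle _ (inv_mem hxH) hxi hxiM) v hvV)
    rw [show v * x⁻¹ = v * (x⁻¹ * v) * v⁻¹ by group, conj_pow, h]; group
  have h34 : (s * s₄) ^ 3 = 1 := by
    rw [hs₄, ← mul_assoc, hs2, one_mul, hx3]
  have h13 : (s₁ * s) ^ 2 = 1 := by rw [hs1s.mul_pow, pow_two, pow_two, hs12, hs2, one_mul]
  have h14 : (s₁ * s₄) ^ 2 = 1 := by rw [hs14.mul_pow, pow_two, pow_two, hs12, hs4, one_mul]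
  have h24 : (s₂ * s₄) ^ 2 = 1 := by rw [hs₂, mul_assoc, hs4, mul_one, pow_two, hv2]
  -- the remaining relation, inside the centralizer of `s₄`
  have hs4o : orderOf s₄ = 2 := Invol.orderOf_two_of_mul_self hs4 fun e => by
    rw [e] at hs4a
    have : a = a⁻¹ := by simpa using hs4a
    exact ha2 (eq_inv_iff_mul_eq_one.mp this)
  have h12 : (s₁ * s₂) ^ 3 = 1 := by
    obtain ⟨c, hc⟩ := isConj_iff.mp (isConj_z D h1 h2 hs4o)
    have hcc : c⁻¹ * s₄ * c = w ^ 2 := by rw [← hc]; group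
    set e := c * a * c⁻¹ with he
    have hcore : core w 2 = fix w τ := core_eq D hC h1 h2 hA hB
    have haz : Commute (w ^ 2) a :=
      (Subgroup.mem_centralizer_singleton_iff.mp (core_le (hcore ▸ haA))).symm
    have hes : Commute e s₄ := by rw [← hc, he]; exact (haz.symm).map (MulAut.conj c)
    have hodd : ∀ {z : G}, Commute (w ^ 2) z → z ^ 3 = 1 → z ∈ fix w τ := by
      intro z hz' hz3
      rw [← hcore]
      refine mem_core D (Subgroup.mem_centralizer_singleton_iff.mpr hz'.symm.eq) fun h => ?_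
      have := h.trans (orderOf_dvd_of_pow_eq_one hz3)
      norm_num at this
    have he3 : e ^ 3 = 1 := by rw [he, conj_pow, ha3]; group
    have he1 : e ≠ 1 := fun h => ha1 (conj_eq_one_iff.mp h)
    -- neither involution centralizes `e`
    have hnot : ∀ {u q : G}, Commute u e → q * (w ^ 2) * q⁻¹ = u → s₄ * (q * a * q⁻¹) * s₄⁻¹ = (q * a * q⁻¹)⁻¹ →
        False := by
      intro u q hue hqu hinv
      have hq : q⁻¹ * e * q ∈ fix w τ := by
        refine hodd ?_ ?_
        · have := hue.map (MulAut.conj q⁻¹)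
          simp only [MulAut.conj_apply, inv_inv] at this
          rwa [conj_fix_inv hqu] at this
        · rw [show q⁻¹ * e * q = q⁻¹ * e * q⁻¹⁻¹ by group, conj_pow, he3]; group
      have hs4e : s₄ * e * s₄⁻¹ = e := mul_inv_eq_iff_eq_mul.mpr hes.symm.eq
      have hboth : e = q * a * q⁻¹ ∨ e = (q * a * q⁻¹)⁻¹ := by
        rcases fix_cases D hC h1 h2 hA hB haA ha1 hq with h | h | h
        · exact absurd (by
            calc e = q * (q⁻¹ * e * q) * q⁻¹ := by group
              _ = 1 := by rw [h]; group) he1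
        · left; rw [← h]; group
        · right; rw [show (q * a * q⁻¹)⁻¹ = q * a⁻¹ * q⁻¹ by group, ← h]; group
      have hinv' : s₄ * e * s₄⁻¹ = e⁻¹ := by
        rcases hboth with h | h <;> rw [h]
        · exact hinv
        · rw [show s₄ * (q * a * q⁻¹)⁻¹ * s₄⁻¹ = (s₄ * (q * a * q⁻¹) * s₄⁻¹)⁻¹ by group, hinv]
      rw [hs4e, eq_inv_iff_mul_eq_one] at hinv'
      refine he1 ?_
      rw [pow_succ, pow_two, hinv', one_mul] at he3
      exact he3
    have hsx4 : s₄ * x * s₄⁻¹ = x⁻¹ := by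
      rw [hs₄, show s * x * x * (s * x)⁻¹ = s * x * s⁻¹ by group, hsx]
    have hne1 : ¬ Commute s₁ e := by
      intro hcom
      -- a conjugation of `t` to `s₁` fixing `a` up to `n`
      obtain ⟨p, hpH, hp⟩ : ∃ p ∈ H, p * w ^ 2 * p⁻¹ = e₁ := by
        rcases four_cases D hC h1 h2 he₁ with h | h | h | h
        · exact absurd h he₁1
        · exact ⟨1, one_mem _, by rw [h]; group⟩
        · refine ⟨g⁻¹, inv_mem hgH, ?_⟩
          rw [h, inv_inv]; exact conj_fix_inv hg2
        · exact ⟨g, hgH, by rw [h]; exact hg1⟩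
      have hpa : p * a * p⁻¹ = a :=
        mul_inv_eq_iff_eq_mul.mpr (Subgroup.mem_centralizer_iff.mp hpH a haA).symm
      refine hnot (q := n * p) hcom ?_ ?_
      · rw [show n * p * w ^ 2 * (n * p)⁻¹ = n * (p * w ^ 2 * p⁻¹) * n⁻¹ by group, hp, he₁'']
      · rw [show n * p * a * (n * p)⁻¹ = n * (p * a * p⁻¹) * n⁻¹ by group, hpa, ← hx, hsx4]
    have hne2 : ¬ Commute v e := by
      intro hcom
      refine hnot (q := x) hcom hv.symm ?_
      rw [show x * a * x⁻¹ = a by rw [← hxa.eq, mul_inv_cancel_right], hs4a]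
    -- reflections of the dihedral quotient
    have key : ∀ {u : G}, orderOf u = 2 → Commute u s₄ → ¬ Commute u e →
        ∃ i : G, ∃ k : ℕ, i ∈ fix w τ ∧ c⁻¹ * u * c = i * ((w ^ 2) ^ k * (w * τ)) := by
      intro u hu hus hue
      set z := c⁻¹ * u * c with hzdef
      have hzC : z ∈ cz w 2 := by
        refine Subgroup.mem_centralizer_singleton_iff.mpr ?_
        rw [← hcc, hzdef, show c⁻¹ * u * c * (c⁻¹ * s₄ * c) = c⁻¹ * (u * s₄) * c by group,
          show c⁻¹ * s₄ * c * (c⁻¹ * u * c) = c⁻¹ * (s₄ * u) * c by group, hus.eq]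
      have hz2 : z * z = 1 := by
        rw [hzdef, show c⁻¹ * u * c * (c⁻¹ * u * c) = c⁻¹ * (u * u) * c by group,
          Invol.mul_self_of_orderOf_two hu]; group
      have hza : ¬ Commute z a := fun h => hue (by
        have := h.map (MulAut.conj c)
        simp only [MulAut.conj_apply] at this
        rwa [hzdef, show c * (c⁻¹ * u * c) * c⁻¹ = u by group, ← he] at this)
      obtain ⟨i, hi, p, hp, e'⟩ := fact_cz D hzC
      rw [hcore] at hi
      obtain ⟨j, hj | hj⟩ := D.cases p hp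
      · exfalso
        rcases Nat.even_or_odd' j with ⟨l, rfl | rfl⟩
        · refine hza ?_
          rw [e', hj, pow_mul]
          exact (show Commute i a from core_comm D hC (mem_fix.mp hi).1 (mem_fix.mp haA).1).mul_left
            (haz.pow_left l)
        · -- an odd power of `w` squares to `t`
          have hwi : w * i * w⁻¹ = i⁻¹ := inverts D hC (mem_fix.mp hi).1
          have hl : Commute ((w ^ 2) ^ l) i :=
            (Subgroup.mem_centralizer_singleton_iff.mp (core_le (mem_fix.mp hi).1)).symm |>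
              fun h => (show Commute (w ^ 2) i from h).pow_left l
          have hq : w ^ (2 * l + 1) = (w ^ 2) ^ l * w := by rw [pow_succ, pow_mul]
          have hqi : w ^ (2 * l + 1) * i * (w ^ (2 * l + 1))⁻¹ = i⁻¹ := by
            rw [hq, show (w ^ 2) ^ l * w * i * ((w ^ 2) ^ l * w)⁻¹ =
              (w ^ 2) ^ l * (w * i * w⁻¹) * ((w ^ 2) ^ l)⁻¹ by group, hwi]
            exact mul_inv_eq_iff_eq_mul.mpr hl.inv_right.eq
          have e2 : z * z = w ^ (2 * l + 1) * w ^ (2 * l + 1) := by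
            rw [e', hj, show i * w ^ (2 * l + 1) * (i * w ^ (2 * l + 1)) =
              i * (w ^ (2 * l + 1) * i * (w ^ (2 * l + 1))⁻¹) * (w ^ (2 * l + 1) * w ^ (2 * l + 1)) by group, hqi]
            group
          rw [hz2, ← pow_add, eq_comm, pow_eq_one_iff D] at e2
          omega
      · rcases Nat.even_or_odd' j with ⟨l, rfl | rfl⟩
        · exfalso
          refine hza ?_
          rw [e', hj, pow_mul]
          exact (show Commute i a from core_comm D hC (mem_fix.mp hi).1 (mem_fix.mp haA).1).mul_left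
            ((haz.pow_left l).mul_left (four_commute_fix D hC h1 h2 ht haA))
        · exact ⟨i, l, hi, by rw [e', hj, pow_succ, pow_mul]; group⟩
    obtain ⟨i, k, hi, ei⟩ := key hs1o hs14 hne1
    obtain ⟨i', k', hi', ei'⟩ := key hvo hv4 hne2
    have hzc : ∀ b ∈ fix w τ, Commute (w ^ 2) b := fun b hb =>
      (Subgroup.mem_centralizer_singleton_iff.mp (core_le (mem_fix.mp hb).1)).symm
    have hsb : ∀ b ∈ fix w τ, s * b * s⁻¹ = b⁻¹ := by
      intro b hb
      rw [hsdef, show w * τ * b * (w * τ)⁻¹ = w * (τ * b * τ⁻¹) * w⁻¹ by group,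
        (four_commute_fix D hC h1 h2 ht hb).eq, mul_inv_cancel_right]
      exact inverts D hC (mem_fix.mp hb).1
    have hzs : Commute (w ^ 2) s := by rw [hsdef]; exact z_commute D (mul_mem D.memσ D.memτ)
    have hprod' : c⁻¹ * (s₁ * v) * c = i * i'⁻¹ * (w ^ 2) ^ (k + k') := by
      rw [show c⁻¹ * (s₁ * v) * c = (c⁻¹ * s₁ * c) * (c⁻¹ * v * c) by group, ei, ei', ← hsdef, pow_add]
      calc i * ((w ^ 2) ^ k * s) * (i' * ((w ^ 2) ^ k' * s))
          = i * (w ^ 2) ^ k * (s * i' * s⁻¹) * (s * (w ^ 2) ^ k' * s) := by group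
        _ = i * ((w ^ 2) ^ k * i'⁻¹) * (s * ((w ^ 2) ^ k' * s)) := by rw [hsb i' hi']; group
        _ = i * (i'⁻¹ * (w ^ 2) ^ k) * ((s * s) * (w ^ 2) ^ k') := by
            rw [((hzc _ (inv_mem hi')).pow_left k).eq, (hzs.pow_left k').eq, ← mul_assoc s s]
        _ = i * i'⁻¹ * ((w ^ 2) ^ k * (w ^ 2) ^ k') := by rw [hs2]; group
    have hb : i * i'⁻¹ ∈ fix w τ := mul_mem hi (inv_mem hi')
    have hpow3 : c⁻¹ * (s₁ * v) ^ 3 * c = (w ^ 2) ^ (k + k') := by
      rw [show c⁻¹ * (s₁ * v) ^ 3 * c = (c⁻¹ * (s₁ * v) * c⁻¹⁻¹) ^ 3 by rw [conj_pow, inv_inv], inv_inv, hprod',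
        ((hzc _ hb).pow_left (k + k')).symm.mul_pow,
        show (i * i'⁻¹) ^ 3 = 1 from hA ▸ orderOf_dvd_iff_pow_eq_one.mp (Subgroup.orderOf_dvd_natCard _ hb),
        one_mul, ← pow_mul, mul_comm (k + k') 3, pow_mul,
        show (w ^ 2) ^ 3 = w ^ 2 by rw [pow_succ, pow_two (w ^ 2), z_mul_self D, one_mul]]
    have hor : (w ^ 2) ^ (k + k') = 1 ∨ (w ^ 2) ^ (k + k') = w ^ 2 := by
      rcases Nat.even_or_odd' (k + k') with ⟨l, h | h⟩
      · left; rw [h, pow_mul, pow_two (w ^ 2), z_mul_self D, one_pow]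
      · right; rw [h, pow_succ, pow_mul, pow_two (w ^ 2), z_mul_self D, one_pow, one_mul]
    have hvs : Commute (s₁ * v) s₄ := hs14.mul_left hv4
    rcases hor with h | h
    · exfalso
      have hbad : (s₁ * v) ^ 3 = 1 := by
        have := congrArg (fun z => c * z * c⁻¹) (hpow3.trans h)
        simpa [mul_assoc] using this
      have hcj : ∀ u ∈ four P τ, (s₁ * u) ^ 3 = 1 → (s₁ * (x * u * x⁻¹)) ^ 3 = 1 := by
        intro u _ hu
        have e1 : s₁ * (x * u * x⁻¹) = x * (s₁ * u) * x⁻¹ := by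
          rw [← mul_assoc x s₁ u, ← hs1x.eq]; group
        rw [e1, conj_pow, hu]; group
      have hv' := hcj v hvV hbad
      have hv'' := hcj _ (hHV x hxH v hvV) hv'
      have hall : (s₁ * w ^ 2) ^ 3 = 1 ∧ (s₁ * τ) ^ 3 = 1 ∧ (s₁ * (w ^ 2 * τ)) ^ 3 = 1 := by
        rw [hv] at hbad hv' hv''
        rcases hcyc with ⟨c1, c2, c3⟩ | ⟨c1, c2, c3⟩
        · rw [c1] at hbad
          rw [c1, c2] at hv'
          rw [c1, c2, c3] at hv''
          exact ⟨hv'', hbad, hv'⟩
        · rw [c1] at hbad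
          rw [c1, c2] at hv'
          rw [c1, c2, c3] at hv''
          exact ⟨hv'', hv', hbad⟩
      have hzt : Commute (w ^ 2) τ := z_commute D D.memτ
      have e1 := eq_of_three hs12 (z_mul_self D) D.sqτ hzt hall.1 hall.2.1 hall.2.2
      have e2 := eq_of_three hs12 D.sqτ (z_mul_self D) hzt.symm hall.2.1 hall.1
        (by rw [← hzt.eq]; exact hall.2.2)
      exact hVne.1 (e2.symm.trans e1)
    · have hgood : (s₁ * v) ^ 3 = s₄ := by
        have := congrArg (fun z => c * z * c⁻¹) (hpow3.trans h)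
        rw [hc] at this
        simpa [mul_assoc] using this
      rw [hs₂, ← mul_assoc, hvs.mul_pow, hgood, ← pow_succ', show 3 + 1 = 2 * 2 by norm_num, pow_mul,
        pow_two s₄, hs4, one_pow]
  exact iso_of_generators hg ha1 ha3 (by rw [pow_two, hs12]) (by rw [pow_two, hs22]) (by rw [pow_two, hs2])
    (by rw [pow_two, hs4]) ha_s1 h12 h23 h34 hs2a2 hsa2 hs4a2 h13 h14 h24

end CfsgLib.SmallCent
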