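import Cfsg.Agent.Lib.Invol.KleinCount
import Cfsg.Agent.Lib.Char.Kernel
import Cfsg.Agent.Lib.Blocks.BrauerFeit

/-!
# A lower bound for the order of a group with Klein four Sylow 2-subgroups
-/

set_option autoImplicit false
set_option linter.unusedSectionVars false
set_option linter.style.haveILetI false

namespace CfsgLib.SmallCent

open Cfsg CfsgLib
open scoped CfsgLib.Char

variable {H : Type*} [Group H] [Fintype H]

theorem count (P : Sylow 2 H) (hP : IsKleinFour (P : Subgroup H))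
    (hone : ∀ s t : H, orderOf s = 2 → orderOf t = 2 → IsConj s t) {J : H} (hJ : J ∈ (P : Subgroup H))
    (hJo : orderOf J = 2) {M : Ideal AlgInt} (hM : IsPModular 2 M) :
    ∃ (Z : Finset (IrrCharacter H)) (a : IrrCharacter H → ℤ), Z.card = 3 ∧
      (∀ χ ∈ Z, χ ≠ Blocks.trivIrr H) ∧ (∀ χ ∈ Z, a χ = 1 ∨ a χ = -1) ∧
      (∀ χ ∈ Z, (4 : ℤ) ∣ (charDegree (χ : H → ℂ) : ℤ) - a χ) ∧
      (∀ χ ∈ Z, ∀ g : H, 2 ∣ orderOf g → (χ : H → ℂ) g = a χ) ∧
      1 + ∑ χ ∈ Z, (a χ : ℤ) * (charDegree (χ : H → ℂ) : ℤ) = 0 ∧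
      (Nat.card H : ℚ) * (1 + ∑ χ ∈ Z, (a χ : ℚ) / (charDegree (χ : H → ℂ) : ℚ)) =
        8 * (Nat.card (Subgroup.centralizer ({J} : Set H)) : ℚ) ^ 3 /
          (Nat.card (Subgroup.centralizer ((P : Subgroup H) : Set H)) : ℚ) ^ 2 := by
  classical
  obtain ⟨Z, a, hcard, hmem, hT, hT1, hpm, hcong, hval, hrel⟩ := Invol.klein_block hM P hP hone
  set t := Blocks.trivIrr H
  have hsub : ∀ χ ∈ Z.erase t, χ ∈ Z := fun χ h => Finset.mem_of_mem_erase h
  refine ⟨Z.erase t, a, by rw [Finset.card_erase_of_mem hT, hcard], fun χ h => (Finset.mem_erase.mp h).1,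
    fun χ h => hpm χ (hsub χ h), fun χ h => hcong χ (hsub χ h), fun χ h => hval χ (hsub χ h), ?_, ?_⟩
  · have h := hrel 1 (by simp)
    rw [← Finset.add_sum_erase Z _ hT, hT1, show (t : H → ℂ) 1 = 1 from rfl] at h
    simp only [(Blocks.irr_degree_eq _).1] at h
    have h' : ((1 + ∑ χ ∈ Z.erase t, (a χ : ℤ) * (charDegree (χ : H → ℂ) : ℤ) : ℤ) : ℂ) = ((0 : ℤ) : ℂ) := by
      push_cast; linear_combination h
    exact_mod_cast h'
  · have h := Invol.klein_order_formula hM P hP hone hJ hJo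
    have hfil : (Finset.univ.filter fun χ : IrrCharacter H => χ ∈ principalBlock M H) = Z :=
      Finset.ext fun χ => by simp [hmem]
    rw [hfil, ← Finset.add_sum_erase Z _ hT, show (t : H → ℂ) J = 1 from rfl,
      show (t : H → ℂ) 1 = 1 from rfl, div_one,
      Finset.sum_congr rfl (g := fun χ : IrrCharacter H => (a χ : ℂ) / (charDegree (χ : H → ℂ) : ℂ))
        fun χ hχ => by rw [hval χ (hsub χ hχ) J (by rw [hJo]), (Blocks.irr_degree_eq χ).1]] at h
    apply Rat.cast_injective (α := ℂ)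
    push_cast
    exact h

/-- The reciprocal sum is below `1 + 2 * e` when the degrees of the positive members exceed `1 / e`. -/
theorem recip_bound {Z : Finset (IrrCharacter H)} {a : IrrCharacter H → ℤ} (hcard : Z.card = 3)
    (hpm : ∀ χ ∈ Z, a χ = 1 ∨ a χ = -1)
    (hsum : 1 + ∑ χ ∈ Z, (a χ : ℤ) * (charDegree (χ : H → ℂ) : ℤ) = 0)
    {e : ℚ} (he : ∀ χ ∈ Z, a χ = 1 → 1 / (charDegree (χ : H → ℂ) : ℚ) ≤ e) (he0 : 0 ≤ e) :
    1 + ∑ χ ∈ Z, (a χ : ℚ) / (charDegree (χ : H → ℂ) : ℚ) < 1 + 2 * e := by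
  obtain ⟨p, q, r, hpq, hpr, hqr, rfl⟩ := Finset.card_eq_three.mp hcard
  simp only [Finset.sum_insert (show p ∉ ({q, r} : Finset (IrrCharacter H)) by simp [hpq, hpr]),
    Finset.sum_pair hqr] at hsum ⊢
  have hpos : ∀ χ : IrrCharacter H, (0 : ℚ) < 1 / (charDegree (χ : H → ℂ) : ℚ) := fun χ =>
    div_pos one_pos (Nat.cast_pos.mpr (Blocks.irr_degree_eq χ).2)
  have hneg : ∀ χ : IrrCharacter H, ((-1 : ℤ) : ℚ) / (charDegree (χ : H → ℂ) : ℚ) =
      -(1 / (charDegree (χ : H → ℂ) : ℚ)) := fun χ => by push_cast; ring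
  have hp0 := (Blocks.irr_degree_eq p).2
  have hq0 := (Blocks.irr_degree_eq q).2
  have hr0 := (Blocks.irr_degree_eq r).2
  have := hpos p
  have := hpos q
  have := hpos r
  rcases hpm p (by simp) with hp | hp <;> rcases hpm q (by simp) with hq | hq <;>
    rcases hpm r (by simp) with hr | hr <;> rw [hp, hq, hr] at hsum ⊢
  · exfalso; omega
  all_goals simp only [hneg, Int.cast_one]
  · linarith [he p (by simp) hp, he q (by simp) hq]
  · linarith [he p (by simp) hp, he r (by simp) hr]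
  · linarith [he p (by simp) hp]
  · linarith [he q (by simp) hq, he r (by simp) hr]
  · linarith [he q (by simp) hq]
  · linarith [he r (by simp) hr]
  · linarith

theorem two_dvd_orderOf_mul {v c : H} (hv : orderOf v = 2) (hcom : Commute v c) (hc : ¬ 2 ∣ orderOf c) :
    2 ∣ orderOf (v * c) := by
  rw [hcom.orderOf_mul_eq_mul_orderOf_of_coprime (by
    rw [hv]; exact Nat.prime_two.coprime_iff_not_dvd.mpr hc), hv]
  exact dvd_mul_right 2 _

/-- Either the group is large or the odd part of the centralizers of the involutions generates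
a normal subgroup of odd order. -/
theorem klein_bound (P : Sylow 2 H) (hP : IsKleinFour (P : Subgroup H))
    (hone : ∀ s t : H, orderOf s = 2 → orderOf t = 2 → IsConj s t) {J : H} (hJ : J ∈ (P : Subgroup H))
    (hJo : orderOf J = 2) :
    50 * Nat.card (Subgroup.centralizer ({J} : Set H)) ^ 3 <
        9 * Nat.card H * Nat.card (Subgroup.centralizer ((P : Subgroup H) : Set H)) ^ 2 ∨
      ∃ N : Subgroup H, N.Normal ∧ Odd (Nat.card N) ∧
        ∀ v ∈ (P : Subgroup H), v ≠ 1 → ∀ c : H, Commute v c → Odd (orderOf c) → c ∈ N := by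
  classical
  haveI := Fact.mk Nat.prime_two
  haveI := hP
  obtain ⟨M, hM⟩ := Blocks.exists_isPModular Nat.prime_two
  obtain ⟨Z, a, hcard, hne, hpm, hcong, hval, hsum, hform⟩ := count P hP hone hJ hJo hM
  set C := Nat.card (Subgroup.centralizer ({J} : Set H))
  set c := Nat.card (Subgroup.centralizer ((P : Subgroup H) : Set H))
  have hc0 : (0 : ℚ) < c := Nat.cast_pos.mpr Nat.card_pos
  have hH0 : (0 : ℚ) < Nat.card H := Nat.cast_pos.mpr Nat.card_pos
  by_cases hlin : ∀ χ ∈ Z, a χ = 1 → charDegree (χ : H → ℂ) ≠ 1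
  · left
    have h5 := recip_bound hcard hpm hsum (e := 1 / 5) (fun χ hχ h1 => by
      have h4 := hcong χ hχ
      rw [h1] at h4
      have h0 := (Blocks.irr_degree_eq χ).2
      have h2 := hlin χ hχ h1
      have : (5 : ℚ) ≤ (charDegree (χ : H → ℂ) : ℚ) := by exact_mod_cast (by omega : 5 ≤ charDegree (χ : H → ℂ))
      exact one_div_le_one_div_of_le (by norm_num) this) (by norm_num)
    have h' : 8 * (C : ℚ) ^ 3 / (c : ℚ) ^ 2 < (Nat.card H : ℚ) * (7 / 5) := by
      rw [← hform]; exact mul_lt_mul_of_pos_left (h5.trans_eq (by norm_num)) hH0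
    rw [div_lt_iff₀ (by positivity)] at h'
    have : (50 : ℚ) * (C : ℚ) ^ 3 < 9 * Nat.card H * (c : ℚ) ^ 2 := by
      nlinarith [pow_pos hc0 2]
    exact_mod_cast this
  push Not at hlin
  obtain ⟨l, hl, hla, hl1⟩ := hlin
  have hlc : (l : H → ℂ) 1 = 1 := by rw [(Blocks.irr_degree_eq l).1, hl1, Nat.cast_one]
  obtain ⟨K, hKn, hK, hKmul⟩ := Char.exists_kernel (Char.isCharacter_of_isIrr l.2)
  have heven : ∀ g : H, 2 ∣ orderOf g → g ∈ K := fun g hg => (hK g).mpr (by
    rw [hval l hl g hg, hla, hlc, Int.cast_one])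
  have hvo : ∀ v ∈ (P : Subgroup H), v ≠ 1 → orderOf v = 2 := fun v hv hv1 =>
    Invol.orderOf_two_of_mul_self (congrArg Subtype.val (IsKleinFour.mul_self (⟨v, hv⟩ : (P : Subgroup H)))) hv1
  have hPK : (P : Subgroup H) ≤ K := fun v hv => by
    by_cases h : v = 1
    · exact h ▸ one_mem K
    · exact heven v (by rw [hvo v hv h])
  have hcent : ∀ v ∈ (P : Subgroup H), v ≠ 1 → Subgroup.centralizer ({v} : Set H) ≤ K := by
    intro v hv hv1 x hx
    by_cases h : 2 ∣ orderOf x
    · exact heven x h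
    · have hcom : Commute v x := (Subgroup.mem_centralizer_singleton_iff.mp hx).symm
      exact (K.mul_mem_cancel_left (hPK hv)).mp (heven _ (two_dvd_orderOf_mul (hvo v hv hv1) hcom h))
  have hKtop : K ≠ ⊤ := by
    intro h
    apply hne l hl
    exact Subtype.ext (funext fun g => ((hK g).mp (h ▸ Subgroup.mem_top g)).trans hlc)
  set Q : Sylow 2 K := P.subtype hPK with hQ
  have hQcoe : ∀ x : K, x ∈ (Q : Subgroup K) ↔ (x : H) ∈ (P : Subgroup H) := fun x => Iff.rfl
  have hQK : IsKleinFour (Q : Subgroup K) := by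
    have e := Subgroup.subgroupOfEquivOfLe hPK
    exact { card_four := (Nat.card_congr e.toEquiv).trans hP.card_four
            exponent_two := (Monoid.exponent_eq_of_mulEquiv e).trans hP.exponent_two }
  rcases Invol.klein_complement_or_one_class Q hQK with ⟨N, hN, hc⟩ | honeK
  · right
    haveI := hN
    haveI := hKn
    have hodd : Odd (Nat.card N) := by
      rw [← Nat.coprime_two_right, ← hc.index_eq_card]
      exact ((Nat.prime_two.coprime_iff_not_dvd).mpr Q.not_dvd_index).symm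
    have hmemN : ∀ x : K, Odd (orderOf x) → x ∈ N := by
      intro x hx
      rw [← QuotientGroup.eq_one_iff (N := N), ← orderOf_eq_one_iff]
      have h1 : orderOf (x : K ⧸ N) ∣ orderOf x := orderOf_map_dvd (QuotientGroup.mk' N) x
      have h4 : orderOf (x : K ⧸ N) ∣ 2 ^ 2 := by
        have := orderOf_dvd_natCard (x : K ⧸ N)
        rw [show Nat.card (K ⧸ N) = N.index from rfl, hc.symm.index_eq_card, hQK.card_four] at this
        norm_num; exact this
      exact Nat.eq_one_of_dvd_coprimes ((Nat.coprime_two_right.mpr hx).pow_right 2) h1 h4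
    refine ⟨N.map K.subtype, ⟨fun x hx g => ?_⟩, ?_, fun v hv hv1 x hcom hx => ?_⟩
    · obtain ⟨y, hy, rfl⟩ := hx
      refine ⟨⟨g * (y : H) * g⁻¹, hKn.conj_mem _ y.2 g⟩, hmemN _ ?_, rfl⟩
      rw [← Subgroup.orderOf_coe]
      show Odd (orderOf (g * (y : H) * g⁻¹))
      rw [Transfer.orderOf_conj, Subgroup.orderOf_coe]
      exact hodd.of_dvd_nat (Subgroup.orderOf_dvd_natCard N hy)
    · rw [Subgroup.card_map_of_injective K.subtype_injective]; exact hodd
    · exact ⟨⟨x, hcent v hv hv1 (Subgroup.mem_centralizer_singleton_iff.mpr hcom.eq.symm)⟩,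
        hmemN _ (by rw [← Subgroup.orderOf_coe]; exact hx), rfl⟩
  · left
    letI := Fintype.ofFinite K
    have hJ1 : J ≠ 1 := Invol.ne_one_of_orderOf_two hJo
    obtain ⟨Z', a', hcard', -, hpm', -, -, hsum', hform'⟩ := count Q hQK honeK
      (J := ⟨J, hPK hJ⟩) ((hQcoe _).mpr hJ) (by rw [← Subgroup.orderOf_coe]; exact hJo) hM
    have eC : Nat.card (Subgroup.centralizer ({(⟨J, hPK hJ⟩ : K)} : Set K)) = C := by
      refine Nat.card_congr
        { toFun := fun x => ⟨((x : K) : H), Subgroup.mem_centralizer_singleton_iff.mpr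
            (congrArg Subtype.val (Subgroup.mem_centralizer_singleton_iff.mp x.2))⟩
          invFun := fun x => ⟨⟨x, hcent J hJ hJ1 x.2⟩, Subgroup.mem_centralizer_singleton_iff.mpr
            (Subtype.ext (Subgroup.mem_centralizer_singleton_iff.mp x.2))⟩
          left_inv := fun x => rfl
          right_inv := fun x => rfl }
    have ec : Nat.card (Subgroup.centralizer ((Q : Subgroup K) : Set K)) = c := by
      refine Nat.card_congr
        { toFun := fun x => ⟨((x : K) : H), Subgroup.mem_centralizer_iff.mpr fun v hv =>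
            congrArg Subtype.val (Subgroup.mem_centralizer_iff.mp x.2 ⟨v, hPK hv⟩ hv)⟩
          invFun := fun x => ⟨⟨x, hcent J hJ hJ1 (Subgroup.mem_centralizer_singleton_iff.mpr
            (Subgroup.mem_centralizer_iff.mp x.2 J hJ).symm)⟩, Subgroup.mem_centralizer_iff.mpr fun v hv =>
            Subtype.ext (Subgroup.mem_centralizer_iff.mp x.2 (v : H) hv)⟩
          left_inv := fun x => rfl
          right_inv := fun x => rfl }
    rw [eC, ec] at hform'
    have h3 := recip_bound hcard' hpm' hsum' (e := 1) (fun χ _ _ => by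
      rw [div_le_one (Nat.cast_pos.mpr (Blocks.irr_degree_eq χ).2)]
      exact_mod_cast (Blocks.irr_degree_eq χ).2) zero_le_one
    have hK0 : (0 : ℚ) < Nat.card K := Nat.cast_pos.mpr Nat.card_pos
    have hi : 3 ≤ K.index := by
      have h2 : ¬ 2 ∣ K.index := fun h => P.not_dvd_index (h.trans (Subgroup.index_dvd_of_le hPK))
      have h1 : K.index ≠ 1 := fun h => hKtop (Subgroup.index_eq_one.mp h)
      have h0 : K.index ≠ 0 := Subgroup.index_ne_zero_of_finite
      omega
    have h' : 8 * (C : ℚ) ^ 3 / (c : ℚ) ^ 2 < (Nat.card K : ℚ) * 3 := by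
      rw [← hform']; exact mul_lt_mul_of_pos_left (h3.trans_eq (by norm_num)) hK0
    rw [div_lt_iff₀ (by positivity)] at h'
    have hh : (Nat.card K : ℚ) * 3 ≤ Nat.card H := by
      have h := K.card_mul_index
      exact_mod_cast (h ▸ Nat.mul_le_mul_left _ hi : Nat.card K * 3 ≤ Nat.card H)
    have : (50 : ℚ) * (C : ℚ) ^ 3 < 9 * Nat.card H * (c : ℚ) ^ 2 := by
      nlinarith [pow_pos hc0 2, pow_nonneg (Nat.cast_nonneg C : (0 : ℚ) ≤ C) 3]
    exact_mod_cast this

end CfsgLib.SmallCent
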