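import Cfsg.Agent.Lib.DihBlock.Columns
import Cfsg.Agent.Lib.Char.Basic
import Cfsg.Agent.Lib.Char.Orth

/-!
# A degree bound at a four group commuting with an element of odd order
-/

set_option autoImplicit false
set_option linter.unusedSectionVars false
set_option linter.style.haveILetI false

namespace CfsgLib.SmallCent

open Cfsg CfsgLib
open scoped ComplexConjugate CfsgLib.Char

variable {G : Type*} [Group G] [Fintype G]

/-- The trivial character has natural multiplicity in the restriction along a homomorphism, twisted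
by a linear character. -/
theorem exists_twisted_sum {X : Type*} [Group X] [Fintype X] (f : X →* G) (l : X →* ℂ)
    {χ : G → ℂ} (hχ : IsCharacter G χ) :
    ∃ n : ℕ, ∑ x : X, l x * χ (f x) = (Fintype.card X : ℂ) * n := by
  classical
  obtain ⟨d, ρ, rfl⟩ := hχ
  let ρ' : Representation ℂ X (Fin d → ℂ) :=
    { toFun := fun x => l x • ρ (f x)
      map_one' := by rw [map_one, map_one, map_one, one_smul]
      map_mul' := fun a b => by rw [map_mul, map_mul, map_mul, smul_mul_smul_comm] }
  have hc : ∀ x, ρ'.character x = l x * ρ.character (f x) := fun x => by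
    show LinearMap.trace ℂ _ (l x • ρ (f x)) = l x * LinearMap.trace ℂ _ (ρ (f x))
    rw [map_smul, smul_eq_mul]
  obtain ⟨m, hm⟩ := Char.exists_multiplicities (G := X) ⟨d, ρ', rfl⟩
  refine ⟨m (Blocks.trivIrr X), ?_⟩
  have h := congrArg (fun φ => classInner φ (Blocks.trivIrr X : X → ℂ)) hm
  simp only [Char.classInner_sum_smul_irr] at h
  have hcard : (Fintype.card X : ℂ) ≠ 0 := Nat.cast_ne_zero.mpr Fintype.card_ne_zero
  rw [classInner, Nat.card_eq_fintype_card, inv_mul_eq_iff_eq_mul₀ hcard] at h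
  rw [← h]
  exact Finset.sum_congr rfl fun x _ => by simp [Blocks.trivIrr, hc]

/-- A character that is constant on the sections of the involutions of a four group `V`, real and
nontrivial on a commuting element of odd order, has degree at least eight. -/
theorem eight_le_degree {χ : IrrCharacter G} {V : Subgroup G} (hV : Nat.card V = 4) {r : G}
    (hodd : Odd (orderOf r)) (hcom : ∀ v ∈ V, Commute v r)
    {s : ℂ} (hval : ∀ v ∈ V, v ≠ 1 → ∀ i : ℕ, (χ : G → ℂ) (v * r ^ i) = s)
    (hreal : ∀ i : ℕ, conj ((χ : G → ℂ) (r ^ i)) = (χ : G → ℂ) (r ^ i))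
    (hne : (χ : G → ℂ) r ≠ (χ : G → ℂ) 1) : 8 ≤ charDegree (χ : G → ℂ) := by
  classical
  set N := orderOf r with hN
  have hN0 : 0 < N := orderOf_pos r
  obtain ⟨d, ρ, hρ, hχ⟩ := χ.2
  obtain ⟨b, μ, hμ, hb⟩ := Char.exists_eigenBasis_of_pow_eq_one (ρ r) hN0.ne'
    (by rw [← map_pow, hN, pow_orderOf_eq_one, map_one])
  have hvalr : ∀ i : ℕ, (χ : G → ℂ) (r ^ i) = ∑ t, μ t ^ i := by
    intro i
    rw [← hχ]
    show LinearMap.trace ℂ _ (ρ (r ^ i)) = _
    refine Char.trace_eq_sum_of_diag b _ _ fun t => ?_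
    induction i with
    | zero => simp
    | succ i ih => rw [pow_succ', map_mul, Module.End.mul_apply, ih, map_smul, hb, smul_smul, pow_succ]
  have hdeg : charDegree (χ : G → ℂ) = Fintype.card (Fin (Module.finrank ℂ (Fin d → ℂ))) := by
    rw [← hχ]; simp [charDegree, Representation.char_one]
  -- the multiplicity of an eigenvalue
  set mult : ℂ → ℕ := fun c => (Finset.univ.filter fun t => μ t * c = 1).card with hmult
  have hsum : ∀ c : ℂ, c ^ N = 1 →
      ∑ i ∈ Finset.range N, (χ : G → ℂ) (r ^ i) * c ^ i = (N : ℂ) * mult c := by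
    intro c hc
    simp only [hvalr, Finset.sum_mul]
    rw [Finset.sum_comm]
    simp only [← mul_pow]
    rw [Finset.sum_congr rfl fun t _ => DihBlock.geom_sum_root
      (show (μ t * c) ^ N = 1 by rw [mul_pow, hμ, hc, one_mul]),
      ← Finset.sum_filter, Finset.sum_const, nsmul_eq_mul, mul_comm]
  have hfour : ∀ c : ℂ, c ^ N = 1 → c ≠ 1 → 4 ∣ mult c := by
    intro c hc hc1
    let cu : ℂˣ := Units.ofPowEqOne c N hc hN0.ne'
    have hcu : orderOf cu ∣ orderOf (⟨r, Subgroup.mem_zpowers r⟩ : Subgroup.zpowers r) := by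
      rw [Subgroup.orderOf_mk, orderOf_dvd_iff_pow_eq_one]
      exact Units.ext (by simpa [cu] using hc)
    have hgen : ∀ x : Subgroup.zpowers r, x ∈ Subgroup.zpowers (⟨r, Subgroup.mem_zpowers r⟩ : Subgroup.zpowers r) := by
      rintro ⟨x, k, rfl⟩; exact ⟨k, Subtype.ext (by simp)⟩
    let l0 := monoidHomOfForallMemZpowers hgen hcu
    let f : ↥V × ↥(Subgroup.zpowers r) →* G := MonoidHom.noncommCoprod V.subtype (Subgroup.zpowers r).subtype
      fun v x => by
        obtain ⟨k, hk⟩ := x.2
        show Commute (v : G) (x : G)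
        rw [← hk]; exact (hcom v v.2).zpow_right k
    let l : ↥V × ↥(Subgroup.zpowers r) →* ℂ :=
      (Units.coeHom ℂ).comp (l0.comp (MonoidHom.snd _ _))
    obtain ⟨n, hn⟩ := exists_twisted_sum f l (Char.isCharacter_of_isIrr χ.2)
    let e := finEquivZPowers (isOfFinOrder_of_finite r)
    have hl : ∀ (v : V) (i : Fin N), l (v, e i) = c ^ (i : ℕ) := fun v i => by
      show ((l0 (e i) : ℂˣ) : ℂ) = _
      have : e i = (⟨r, Subgroup.mem_zpowers r⟩ : Subgroup.zpowers r) ^ (i : ℕ) :=
        Subtype.ext (by simp [e, finEquivZPowers_apply])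
      rw [this, map_pow, monoidHomOfForallMemZpowers_apply_gen, Units.val_pow_eq_pow_val]
      rfl
    have hf : ∀ (v : V) (i : Fin N), f (v, e i) = (v : G) * r ^ (i : ℕ) := fun v i => by
      simp [f, e, finEquivZPowers_apply]
    have hz : ∑ i ∈ Finset.range N, c ^ i = 0 := by rw [DihBlock.geom_sum_root hc, if_neg hc1]
    have hrow : ∀ v : V, ∑ x : Subgroup.zpowers r, l (v, x) * (χ : G → ℂ) (f (v, x)) =
        if v = 1 then (N : ℂ) * mult c else 0 := by
      intro v
      rw [← e.sum_comp]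
      simp only [hl, hf]
      rw [Fin.sum_univ_eq_sum_range (fun i => c ^ i * (χ : G → ℂ) ((v : G) * r ^ i))]
      split_ifs with h
      · subst h
        rw [← hsum c hc]
        exact Finset.sum_congr rfl fun i _ => by simp [mul_comm]
      · rw [Finset.sum_congr rfl (g := fun i => c ^ i * s) fun i _ => by
          rw [hval v v.2 (fun e => h (Subtype.ext e)) i], ← Finset.sum_mul, hz, zero_mul]
    rw [Fintype.sum_prod_type, Finset.sum_congr rfl fun v _ => hrow v, Finset.sum_ite_eq',
      if_pos (Finset.mem_univ _), Fintype.card_prod, ← Nat.card_eq_fintype_card, hV,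
      ← Nat.card_eq_fintype_card, Nat.card_zpowers, ← hN] at hn
    refine ⟨n, ?_⟩
    have h' : (N : ℂ) * mult c = (N : ℂ) * ((4 * n : ℕ) : ℂ) := by rw [hn]; push_cast; ring
    exact Nat.cast_injective (mul_left_cancel₀ (Nat.cast_ne_zero.mpr hN0.ne') h')
  obtain ⟨t, ht⟩ : ∃ t, μ t ≠ 1 := by
    by_contra h
    push Not at h
    refine hne ?_
    rw [← pow_one r, hvalr 1, show (1 : G) = r ^ 0 from (pow_zero r).symm, hvalr 0]
    exact Finset.sum_congr rfl fun t _ => by simp [h t]
  have hμN := hμ t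
  have hμ0 : μ t ≠ 0 := fun h => by rw [h, zero_pow hN0.ne'] at hμN; exact zero_ne_one hμN
  set c := (μ t)⁻¹ with hc
  have hcN : c ^ N = 1 := by rw [hc, inv_pow, hμN, inv_one]
  have hc1 : c ≠ 1 := fun e => ht (by rw [← inv_inv (μ t), ← hc, e, inv_one])
  have hcj : conj c = μ t := by
    rw [hc, map_inv₀, ← Complex.inv_eq_conj (Complex.norm_eq_one_of_pow_eq_one hμN hN0.ne'), inv_inv]
  have h1 : 4 ≤ mult c := by
    refine Nat.le_of_dvd (Finset.card_pos.mpr ⟨t, Finset.mem_filter.mpr ⟨Finset.mem_univ _, ?_⟩⟩) (hfour c hcN hc1)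
    rw [hc, mul_inv_cancel₀ hμ0]
  have h2 : mult (conj c) = mult c := by
    have e1 := congrArg conj (hsum c hcN)
    simp only [map_sum, map_mul, map_pow, map_natCast, hreal] at e1
    rw [hsum (conj c) (by rw [← map_pow, hcN, map_one])] at e1
    exact Nat.cast_injective (mul_left_cancel₀ (Nat.cast_ne_zero.mpr hN0.ne') e1)
  have hdisj : Disjoint (Finset.univ.filter fun u => μ u * c = 1) (Finset.univ.filter fun u => μ u * conj c = 1) := by
    rw [Finset.disjoint_filter]
    intro u _ hu hu'
    have e : c = conj c := (inv_eq_of_mul_eq_one_right hu).symm.trans (inv_eq_of_mul_eq_one_right hu')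
    rw [hcj] at e
    have hsq : μ t ^ 2 = 1 := by
      rw [pow_two]
      calc μ t * μ t = c * μ t := by rw [← e]
        _ = 1 := by rw [hc, inv_mul_cancel₀ hμ0]
    apply ht
    obtain ⟨j, hj⟩ := hodd
    rw [hj, pow_add, pow_mul, hsq, one_pow, one_mul, pow_one] at hμN
    exact hμN
  have h3 := Finset.card_le_univ ((Finset.univ.filter fun u => μ u * c = 1) ∪
    (Finset.univ.filter fun u => μ u * conj c = 1))
  rw [Finset.card_union_of_disjoint hdisj] at h3
  rw [hdeg]
  have : mult c + mult (conj c) ≤ _ := h3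
  omega

end CfsgLib.SmallCent
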