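import Cfsg.Agent.Lib.SmallCent.Eight
import Cfsg.Agent.Lib.DihBlock.Formula
import Cfsg.Agent.Lib.Invol.KleinSylow

/-!
# The centralizer of the fixed points of a four group in the odd core
-/

set_option autoImplicit false
set_option linter.unusedSectionVars false
set_option linter.style.haveILetI false

namespace CfsgLib.SmallCent

open DihBlock

variable {G : Type*} [Group G] [Fintype G]
variable {P : Sylow 2 G} {w τ : G} (D : Data P w τ 2)
  (hC : Subgroup.centralizer ({w} : Set G) = Subgroup.zpowers w)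
  (h1 : IsConj (w ^ 2) τ) (h2 : IsConj (w ^ 2) (w * τ))
include D hC h1 h2

/-- The four group. -/
abbrev four (P : Sylow 2 G) (τ : G) : Subgroup G := (P : Subgroup G) ⊓ Subgroup.centralizer ({τ} : Set G)

theorem card_four : Nat.card (four P τ) = 4 := by simpa using card_centralizer_refl D 0

theorem four_cases {v : G} (hv : v ∈ four P τ) : v = 1 ∨ v = w ^ 2 ∨ v = τ ∨ v = w ^ 2 * τ := by
  simpa using centralizer_refl D 0 v (by simpa using hv)

theorem z_mem_four : w ^ 2 ∈ four P τ :=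
  ⟨pow_mem D.memσ 2, Subgroup.mem_centralizer_singleton_iff.mpr (z_commute D D.memτ).eq⟩

theorem tau_mem_four : τ ∈ four P τ := ⟨D.memτ, Subgroup.mem_centralizer_singleton_iff.mpr rfl⟩

theorem four_orderOf {v : G} (hv : v ∈ four P τ) (h : v ≠ 1) : orderOf v = 2 := by
  rcases four_cases D hC h1 h2 hv with rfl | rfl | rfl | rfl
  exacts [absurd rfl h, orderOf_z D, orderOf_tau D, orderOf_refl D 2]

theorem four_commute_fix {v a : G} (hv : v ∈ four P τ) (ha : a ∈ fix w τ) : Commute v a := by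
  obtain ⟨haO, haτ⟩ := mem_fix.mp ha
  have haz : Commute (w ^ 2) a := (Subgroup.mem_centralizer_singleton_iff.mp (core_le haO)).symm
  rcases four_cases D hC h1 h2 hv with rfl | rfl | rfl | rfl
  exacts [Commute.one_left a, haz, haτ.symm, haz.mul_left haτ.symm]

theorem four_le : four P τ ≤ Subgroup.centralizer (fix w τ : Set G) := fun _ hv =>
  Subgroup.mem_centralizer_iff.mpr fun _ ha => (four_commute_fix D hC h1 h2 hv ha).eq.symm

theorem core_le_centralizer : core w 2 ≤ Subgroup.centralizer (fix w τ : Set G) := fun _ hx =>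
  Subgroup.mem_centralizer_iff.mpr fun _ ha => core_comm D hC (mem_fix.mp ha).1 hx

/-- The decomposition of the centralizer of `t` and `τ`. -/
theorem pair_cases {y : G} (hy : y ∈ cz w 2) (hyτ : y * τ = τ * y) :
    ∃ a ∈ fix w τ, ∃ v ∈ four P τ, y = a * v := by
  have hτC : τ ∈ cz w 2 := sylow_le_centralizer_z D D.memτ
  obtain ⟨o, ho, q, hq, e⟩ := fact_cz D hy
  have e' : o * (q * τ) = τ * o * τ⁻¹ * (τ * q) := by
    rw [← mul_assoc o, ← e, hyτ, e]; group
  obtain ⟨e1, e2⟩ := fact_unique D ho (core_conj hτC ho) (mul_mem hq D.memτ) (mul_mem D.memτ hq) e'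
  exact ⟨o, mem_fix.mpr ⟨ho, eq_mul_inv_iff_mul_eq.mp e1⟩, q,
    ⟨hq, Subgroup.mem_centralizer_singleton_iff.mpr e2⟩, e⟩

omit hC h1 h2 in
theorem w_conj_tau : w * τ * w⁻¹ = w ^ 2 * τ := by
  have h := tau_mul_pow D 1
  rw [pow_one] at h
  have : τ * w⁻¹ = w * τ := by
    rw [mul_inv_eq_iff_eq_mul, mul_assoc w, h, mul_inv_cancel_left]
  rw [mul_assoc, this, ← mul_assoc, pow_two]

omit hC h1 h2 in
theorem four_normal {q v : G} (hq : q ∈ (P : Subgroup G)) (hv : v ∈ four P τ) :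
    q * v * q⁻¹ ∈ four P τ := by
  have hz : w ^ 2 ∈ four P τ :=
    ⟨pow_mem D.memσ 2, Subgroup.mem_centralizer_singleton_iff.mpr (z_commute D D.memτ).eq⟩
  have ht : τ ∈ four P τ := ⟨D.memτ, Subgroup.mem_centralizer_singleton_iff.mpr rfl⟩
  have hw : ∀ u ∈ four P τ, w * u * w⁻¹ ∈ four P τ := by
    intro u hu
    have h4 := centralizer_refl D 0 u (by simpa using hu)
    rw [pow_zero, one_mul] at h4
    rcases h4 with rfl | rfl | rfl | rfl
    · simp
    · rw [show w * w ^ 2 * w⁻¹ = w ^ 2 by group]; exact hz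
    · rw [w_conj_tau D]; exact mul_mem hz ht
    · rw [show w * (w ^ 2 * τ) * w⁻¹ = w ^ 2 * (w * τ * w⁻¹) by group, w_conj_tau D, ← mul_assoc,
        z_mul_self D, one_mul]
      exact ht
  have hwi : ∀ i : ℕ, ∀ u ∈ four P τ, w ^ i * u * (w ^ i)⁻¹ ∈ four P τ := by
    intro i
    induction i with
    | zero => intro u hu; simpa using hu
    | succ n ih =>
      intro u hu
      rw [show w ^ (n + 1) * u * (w ^ (n + 1))⁻¹ = w * (w ^ n * u * (w ^ n)⁻¹) * w⁻¹ by group]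
      exact hw _ (ih u hu)
  obtain ⟨i, rfl | rfl⟩ := D.cases q hq
  · exact hwi i v hv
  · rw [show w ^ i * τ * v * (w ^ i * τ)⁻¹ = w ^ i * (τ * v * τ⁻¹) * (w ^ i)⁻¹ by group,
      ← Subgroup.mem_centralizer_singleton_iff.mp hv.2, mul_inv_cancel_right]
    exact hwi i v hv

/-- A Sylow subgroup of the centralizer of a reflection contains its four group. -/
theorem exists_conj_sub : ∃ y : G, y * w ^ 2 * y⁻¹ = τ ∧
    four P τ ≤ (P : Subgroup G).map (MulAut.conj y).toMonoidHom := by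
  classical
  haveI := Fact.mk Nat.prime_two
  obtain ⟨x, hx⟩ := isConj_iff.mp h1
  set C := Subgroup.centralizer ({w ^ 2} : Set G) with hCdef
  obtain ⟨Q, -, hQ, -⟩ := z_centralizer D
  have hx' : ∀ v ∈ four P τ, x⁻¹ * v * x ∈ C := by
    intro v hv
    rw [Subgroup.mem_centralizer_singleton_iff]
    have e := Subgroup.mem_centralizer_singleton_iff.mp hv.2
    rw [← hx] at e
    calc x⁻¹ * v * x * w ^ 2 = x⁻¹ * (v * (x * w ^ 2 * x⁻¹)) * x := by group
      _ = x⁻¹ * (x * w ^ 2 * x⁻¹ * v) * x := by rw [e]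
      _ = w ^ 2 * (x⁻¹ * v * x) := by group
  set U : Subgroup C := ((four P τ).map (MulAut.conj x⁻¹).toMonoidHom).subgroupOf C
  have hU : IsPGroup 2 U := ((P.2.to_le inf_le_left).map _).comap_of_injective C.subtype C.subtype_injective
  obtain ⟨c, hc⟩ := Transfer.exists_map_conj_le_sylow hU Q
  refine ⟨x * (c : G)⁻¹, ?_, fun v hv => ?_⟩
  · have e := Subgroup.mem_centralizer_singleton_iff.mp (C.inv_mem c.2)
    rw [show x * (c : G)⁻¹ * w ^ 2 * (x * (c : G)⁻¹)⁻¹ = x * ((c : G)⁻¹ * w ^ 2 * (c : G)) * x⁻¹ by group, e]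
    rw [← hx]; group
  · have hm : (⟨x⁻¹ * v * x, hx' v hv⟩ : C) ∈ U :=
      Subgroup.mem_subgroupOf.mpr ⟨v, hv, by simp⟩
    have h3 : MulAut.conj c ⟨x⁻¹ * v * x, hx' v hv⟩ ∈ (Q : Subgroup C) := hc ⟨_, hm, rfl⟩
    have h4 : (c : G) * (x⁻¹ * v * x) * (c : G)⁻¹ ∈ (P : Subgroup G) := by
      rw [← hQ]; exact ⟨_, h3, by simp⟩
    refine ⟨_, h4, ?_⟩
    show x * (c : G)⁻¹ * ((c : G) * (x⁻¹ * v * x) * (c : G)⁻¹) * (x * (c : G)⁻¹)⁻¹ = v
    group

/-- The Sylow subgroup is its own normalizer. -/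
theorem mem_sylow_of_normalizes {n : G} (hn : ∀ q ∈ (P : Subgroup G), n * q * n⁻¹ ∈ (P : Subgroup G)) :
    n ∈ (P : Subgroup G) := by
  have hwn : orderOf (n * w * n⁻¹) = 4 := by rw [Transfer.orderOf_conj, D.ordσ]
  have hsq : n * w * n⁻¹ * (n * w * n⁻¹) ≠ 1 := fun e => by
    have := orderOf_dvd_of_pow_eq_one (x := n * w * n⁻¹) (n := 2) (by rw [pow_two]; exact e)
    rw [hwn] at this
    omega
  obtain ⟨j, hj⟩ := mem_zpowers_of_orderOf D (hn w D.memσ) hsq
  have hnz : n * w ^ 2 * n⁻¹ = w ^ 2 := by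
    refine eq_z_of_sq D ?_ ?_ ?_
    · rw [← conj_pow, ← hj]; exact pow_mem (Subgroup.zpow_mem_zpowers w j) 2
    · rw [show n * w ^ 2 * n⁻¹ * (n * w ^ 2 * n⁻¹) = n * (w ^ 2 * w ^ 2) * n⁻¹ by group, z_mul_self D]; group
    · exact Invol.ne_one_of_orderOf_two (Invol.conj_orderOf_two (orderOf_z D) n)
  obtain ⟨o, ho, p, hp, e⟩ := fact_cz D (x := n)
    (Subgroup.mem_centralizer_singleton_iff.mpr (mul_inv_eq_iff_eq_mul.mp hnz))
  have hq : o * w * o⁻¹ ∈ (P : Subgroup G) := by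
    have h := hn (p⁻¹ * w * p) (mul_mem (mul_mem (inv_mem hp) D.memσ) hp)
    rw [show n * (p⁻¹ * w * p) * n⁻¹ = o * w * o⁻¹ by rw [e]; group] at h
    exact h
  have h1' : o * w * o⁻¹ * w⁻¹ = 1 := by
    refine eq_one_of_core D (mul_mem hq (inv_mem D.memσ)) ?_
    rw [show o * w * o⁻¹ * w⁻¹ = o * (w * o⁻¹ * w⁻¹) by group]
    exact mul_mem ho (core_conj (sylow_le_centralizer_z D D.memσ) (inv_mem ho))
  have ho1 : o = 1 := fpf D hC ho (mul_inv_eq_iff_eq_mul.mp (mul_inv_eq_one.mp h1'))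
  rw [e, ho1, one_mul]
  exact hp

/-- A conjugation mapping `t` to `τ` and normalizing the four group. -/
theorem exists_move : ∃ y : G, y * w ^ 2 * y⁻¹ = τ ∧ ∀ v ∈ four P τ, y * v * y⁻¹ ∈ four P τ := by
  classical
  haveI := Fact.mk Nat.prime_two
  obtain ⟨y, hy, hsub⟩ := exists_conj_sub D hC h1 h2
  refine ⟨y, hy, ?_⟩
  have hz := z_mem_four D hC h1 h2
  have ht := tau_mem_four D hC h1 h2
  obtain ⟨p, hp, hpe⟩ := hsub hz
  have hpe' : y * p * y⁻¹ = w ^ 2 := hpe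
  have hpm : y * p * y⁻¹ ∈ four P τ := hpe' ▸ hz
  have hzp : y * (w ^ 2 * p) * y⁻¹ ∈ four P τ := by
    rw [show y * (w ^ 2 * p) * y⁻¹ = (y * w ^ 2 * y⁻¹) * (y * p * y⁻¹) by group, hy, hpe']
    exact mul_mem ht hz
  have hp2 : orderOf p = 2 := by
    have := Transfer.orderOf_conj y p
    rw [hpe', orderOf_z D] at this
    exact this.symm
  obtain ⟨i, hi | hi⟩ := D.cases p hp
  · exfalso
    rw [hi] at hp2
    have e := eq_z_of_sq D (pow_mem (Subgroup.mem_zpowers w) i) (Invol.mul_self_of_orderOf_two hp2)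
      (Invol.ne_one_of_orderOf_two hp2)
    rw [hi, e, hy] at hpe'
    exact tau_not_mem D (hpe' ▸ pow_mem (Subgroup.mem_zpowers w) 2)
  have hi4 : w ^ i = w ^ (i % 4) := by rw [← pow_mod_orderOf, D.ordσ]
  rw [hi4] at hi
  have hlt := Nat.mod_lt i (show 4 > 0 by norm_num)
  by_cases hτy : y * τ * y⁻¹ ∈ four P τ
  · intro v hv
    rcases four_cases D hC h1 h2 hv with rfl | rfl | rfl | rfl
    · simp
    · rw [hy]; exact ht
    · exact hτy
    · rw [show y * (w ^ 2 * τ) * y⁻¹ = (y * w ^ 2 * y⁻¹) * (y * τ * y⁻¹) by group, hy]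
      exact mul_mem ht hτy
  exfalso
  -- otherwise `y` carries the other four group to this one
  have hwτy : y * (w * τ) * y⁻¹ ∈ four P τ := by
    interval_cases hr : i % 4
    · rw [pow_zero, one_mul] at hi
      exact absurd (hi ▸ hpm) hτy
    · rw [pow_one] at hi
      exact hi ▸ hpm
    · rw [hi, ← mul_assoc (w ^ 2) (w ^ 2), z_mul_self D, one_mul] at hzp
      exact absurd hzp hτy
    · have e3 : p = w ^ 2 * (w * τ) := by rw [hi]; group
      rw [e3, ← mul_assoc (w ^ 2) (w ^ 2), z_mul_self D, one_mul] at hzp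
      exact hzp
  have hle : (four P (w * τ)).map (MulAut.conj y).toMonoidHom ≤ four P τ := by
    rintro _ ⟨u, hu, rfl⟩
    have h4 := centralizer_refl D 1 u (by rw [pow_one]; exact hu)
    rw [pow_one] at h4
    show y * u * y⁻¹ ∈ four P τ
    rcases h4 with rfl | rfl | rfl | rfl
    · simp
    · rw [hy]; exact ht
    · exact hwτy
    · rw [show y * (w ^ 2 * (w * τ)) * y⁻¹ = (y * w ^ 2 * y⁻¹) * (y * (w * τ) * y⁻¹) by group, hy]
      exact mul_mem ht hwτy
  have hcard2 : Nat.card (four P (w * τ)) = 4 := by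
    have h := card_centralizer_refl D 1
    rwa [pow_one] at h
  have heq : (four P (w * τ)).map (MulAut.conj y).toMonoidHom = four P τ :=
    Subgroup.eq_of_le_of_card_ge hle (by
      rw [Subgroup.card_map_of_injective (f := (MulAut.conj y).toMonoidHom) (MulAut.conj y).injective, hcard2,
        card_four D hC h1 h2])
  set N := Subgroup.normalizer (four P τ : Set G)
  have hmemN : ∀ n : G, (∀ v ∈ four P τ, n * v * n⁻¹ ∈ four P τ) → n ∈ N := by
    intro n hn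
    have e : (four P τ).map (MulAut.conj n).toMonoidHom = four P τ :=
      Subgroup.eq_of_le_of_card_ge (by rintro _ ⟨v, hv, rfl⟩; exact hn v hv)
        (Subgroup.card_map_of_injective (f := (MulAut.conj n).toMonoidHom) (MulAut.conj n).injective).ge
    rw [Subgroup.mem_normalizer_iff]
    refine fun v => ⟨hn v, fun hv => ?_⟩
    have hv' : n * v * n⁻¹ ∈ (four P τ).map (MulAut.conj n).toMonoidHom := by rw [e]; exact hv
    obtain ⟨u, hu, he⟩ := Subgroup.mem_map.mp hv'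
    have he' : n * u * n⁻¹ = n * v * n⁻¹ := he
    rwa [← mul_left_cancel (mul_right_cancel he')]
  have hPN : (P : Subgroup G) ≤ N := fun q hq => hmemN q fun v hv => four_normal D hq hv
  have hQN : ((MulAut.conj y • P : Sylow 2 G) : Subgroup G) ≤ N := by
    intro z hz'
    obtain ⟨q, hq, rfl⟩ := (Subgroup.mem_smul_pointwise_iff_exists _ (MulAut.conj y) _).mp hz'
    refine hmemN _ fun v hv => ?_
    have hv' : v ∈ (four P (w * τ)).map (MulAut.conj y).toMonoidHom := by rw [heq]; exact hv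
    obtain ⟨u, hu, rfl⟩ := Subgroup.mem_map.mp hv'
    refine hle ⟨q * u * q⁻¹, four_normal (DihBlock.swap D) hq hu, ?_⟩
    show y * (q * u * q⁻¹) * y⁻¹ = y * q * y⁻¹ * (y * u * y⁻¹) * (y * q * y⁻¹)⁻¹
    group
  obtain ⟨n, hn⟩ := MulAction.exists_smul_eq N ((MulAut.conj y • P : Sylow 2 G).subtype hQN) (P.subtype hPN)
  have hsw : ∀ q ∈ (P : Subgroup G), (n : G) * y * q * ((n : G) * y)⁻¹ ∈ (P : Subgroup G) := by
    intro q hq
    have hm : (⟨y * q * y⁻¹, hQN (Subgroup.smul_mem_pointwise_smul q (MulAut.conj y) _ hq)⟩ : N) ∈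
        (((MulAut.conj y • P : Sylow 2 G).subtype hQN : Sylow 2 N) : Subgroup N) :=
      Subgroup.smul_mem_pointwise_smul q (MulAut.conj y) _ hq
    have h : n * (⟨y * q * y⁻¹, hQN (Subgroup.smul_mem_pointwise_smul q (MulAut.conj y) _ hq)⟩ : N) * n⁻¹ ∈
        ((P.subtype hPN : Sylow 2 N) : Subgroup N) := by
      rw [← hn]
      exact Subgroup.smul_mem_pointwise_smul _ (MulAut.conj n) _ hm
    have h' : (n : G) * (y * q * y⁻¹) * (n : G)⁻¹ ∈ (P : Subgroup G) := h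
    rwa [show (n : G) * y * q * ((n : G) * y)⁻¹ = (n : G) * (y * q * y⁻¹) * (n : G)⁻¹ by group]
  have hnyP := mem_sylow_of_normalizes D hC h1 h2 hsw
  have hin : (n : G) * y * (w * τ) * ((n : G) * y)⁻¹ ∈ four P τ := by
    rw [show (n : G) * y * (w * τ) * ((n : G) * y)⁻¹ = (n : G) * (y * (w * τ) * y⁻¹) * (n : G)⁻¹ by group]
    exact (Subgroup.mem_normalizer_iff.mp n.2 _).mp hwτy
  have := four_normal D (inv_mem hnyP) hin
  rw [show ((n : G) * y)⁻¹ * ((n : G) * y * (w * τ) * ((n : G) * y)⁻¹) * ((n : G) * y)⁻¹⁻¹ = w * τ by group] at this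
  rcases four_cases D hC h1 h2 this with e | e | e | e
  · exact Invol.ne_one_of_orderOf_two (orderOf_tau (DihBlock.swap D)) e
  · exact tau_not_mem (DihBlock.swap D) (e ▸ pow_mem (Subgroup.mem_zpowers w) 2)
  · exact Invol.ne_one_of_orderOf_two (orderOf_z D) (by
      rw [pow_two, mul_eq_right.mp e, one_mul])
  · have e' := mul_right_cancel e
    exact pow_ne_one D (l := 1) one_pos (by norm_num) (by rw [pow_one]; rw [pow_two] at e'; exact right_eq_mul.mp e')

/-- A conjugation moving the four group cyclically and centralizing the fixed points. -/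
theorem exists_cycle : ∃ g : G, g ∈ Subgroup.centralizer (fix w τ : Set G) ∧
    g * (w ^ 2) * g⁻¹ = w ^ 2 * τ ∧ g * τ * g⁻¹ = w ^ 2 ∧ g * (w ^ 2 * τ) * g⁻¹ = τ := by
  classical
  obtain ⟨y, hy, hyV⟩ := exists_move D hC h1 h2
  have hz := z_mem_four D hC h1 h2
  have ht := tau_mem_four D hC h1 h2
  have hwz : w * w ^ 2 * w⁻¹ = w ^ 2 := by group
  have hwt := w_conj_tau D
  have hwzt : w * (w ^ 2 * τ) * w⁻¹ = τ := by
    rw [show w * (w ^ 2 * τ) * w⁻¹ = w ^ 2 * (w * τ * w⁻¹) by group, hwt, ← mul_assoc, z_mul_self D, one_mul]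
  -- a three-cycle
  obtain ⟨n, hn1, hn2⟩ : ∃ n : G, n * w ^ 2 * n⁻¹ = τ ∧ n * τ * n⁻¹ = w ^ 2 * τ := by
    rcases four_cases D hC h1 h2 (hyV τ ht) with h | h | h | h
    · exact absurd (conj_eq_one_iff.mp h) (tau_ne_one D)
    · refine ⟨y * w, ?_, ?_⟩
      · rw [show y * w * w ^ 2 * (y * w)⁻¹ = y * (w * w ^ 2 * w⁻¹) * y⁻¹ by group, hwz, hy]
      · rw [show y * w * τ * (y * w)⁻¹ = y * (w * τ * w⁻¹) * y⁻¹ by group, hwt,
          show y * (w ^ 2 * τ) * y⁻¹ = (y * w ^ 2 * y⁻¹) * (y * τ * y⁻¹) by group, hy, h]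
        exact (z_commute D D.memτ).eq.symm
    · exfalso
      have e := h.trans hy.symm
      exact tau_not_mem D (mul_left_cancel (mul_right_cancel e) ▸ pow_mem (Subgroup.mem_zpowers w) 2)
    · exact ⟨y, hy, h⟩
  have hn3 : n * (w ^ 2 * τ) * n⁻¹ = w ^ 2 := by
    rw [show n * (w ^ 2 * τ) * n⁻¹ = (n * w ^ 2 * n⁻¹) * (n * τ * n⁻¹) by group, hn1, hn2,
      ← mul_assoc, ← (z_commute D D.memτ).eq, mul_assoc, D.sqτ, mul_one]
  have hnA : ∀ a ∈ fix w τ, n * a * n⁻¹ ∈ fix w τ := by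
    intro a ha
    have c1 := (four_commute_fix D hC h1 h2 (mul_mem hz ht) ha).map (MulAut.conj n)
    have c2 := (four_commute_fix D hC h1 h2 hz ha).map (MulAut.conj n)
    simp only [MulAut.conj_apply, hn3, hn1] at c1 c2
    refine mem_fix.mpr ⟨mem_core D (Subgroup.mem_centralizer_singleton_iff.mpr c1.eq.symm) ?_, c2.eq.symm⟩
    rw [Transfer.orderOf_conj]
    exact core_regular (mem_fix.mp ha).1
  have hwA : ∀ a ∈ fix w τ, w * a * w⁻¹ = a⁻¹ := fun a ha => inverts D hC (mem_fix.mp ha).1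
  have e1 : n * (w * n * w⁻¹) * w ^ 2 * (n * (w * n * w⁻¹))⁻¹ = w ^ 2 := by
    rw [show n * (w * n * w⁻¹) * w ^ 2 * (n * (w * n * w⁻¹))⁻¹ =
      n * (w * (n * w ^ 2 * n⁻¹) * w⁻¹) * n⁻¹ by group, hn1, hwt, hn3]
  have e2 : n * (w * n * w⁻¹) * τ * (n * (w * n * w⁻¹))⁻¹ = τ := by
    have hinv : w⁻¹ * τ * w = w ^ 2 * τ := by
      calc w⁻¹ * τ * w = w⁻¹ * (w * (w ^ 2 * τ) * w⁻¹) * w := by rw [hwzt]
        _ = w ^ 2 * τ := by group
    rw [show n * (w * n * w⁻¹) * τ * (n * (w * n * w⁻¹))⁻¹ =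
      n * (w * (n * (w⁻¹ * τ * w) * n⁻¹) * w⁻¹) * n⁻¹ by group, hinv, hn3, hwz, hn1]
  refine ⟨n * n, Subgroup.mem_centralizer_iff.mpr fun a ha => ?_, ?_, ?_, ?_⟩
  · obtain ⟨b, hb, v, hv, e⟩ := pair_cases D hC h1 h2
      (Subgroup.mem_centralizer_singleton_iff.mpr (mul_inv_eq_iff_eq_mul.mp e1)) (mul_inv_eq_iff_eq_mul.mp e2)
    have hm : Commute a (n * (w * n * w⁻¹)) := by
      rw [e]
      exact (show Commute a b from core_comm D hC (mem_fix.mp ha).1 (mem_fix.mp hb).1).mul_right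
        (four_commute_fix D hC h1 h2 hv ha).symm
    have h3 : n * (w * n * w⁻¹) * a * (n * (w * n * w⁻¹))⁻¹ = a := mul_inv_eq_iff_eq_mul.mpr hm.eq.symm
    have hwinv : w⁻¹ * a * w = a⁻¹ := by
      calc w⁻¹ * a * w = w⁻¹ * (w * a⁻¹ * w⁻¹) * w := by rw [hwA _ (inv_mem ha), inv_inv]
        _ = a⁻¹ := by group
    rw [show n * (w * n * w⁻¹) * a * (n * (w * n * w⁻¹))⁻¹ =
      n * (w * (n * (w⁻¹ * a * w) * n⁻¹) * w⁻¹) * n⁻¹ by group, hwinv, hwA _ (hnA _ (inv_mem ha))] at h3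
    have h4 : n * n * a * (n * n)⁻¹ = a := by refine Eq.trans ?_ h3; group
    exact (mul_inv_eq_iff_eq_mul.mp h4).symm
  · rw [show n * n * w ^ 2 * (n * n)⁻¹ = n * (n * w ^ 2 * n⁻¹) * n⁻¹ by group, hn1, hn2]
  · rw [show n * n * τ * (n * n)⁻¹ = n * (n * τ * n⁻¹) * n⁻¹ by group, hn2, hn3]
  · rw [show n * n * (w ^ 2 * τ) * (n * n)⁻¹ = n * (n * (w ^ 2 * τ) * n⁻¹) * n⁻¹ by group, hn3, hn1]

end CfsgLib.SmallCent
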