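import Mathlib

/-!
# The arithmetic of the order formula
-/

set_option autoImplicit false

namespace CfsgLib.SmallCent

/-- The equations from the two counts of pairs of involutions. -/
structure Numbers (g a b : ℕ) (x y z : ℤ) : Prop where
  sum : 1 + x + y + z = 0
  xmod : x % 8 = 1
  ymod : y % 8 = 3
  zmod : z % 8 = 3
  xne : x ≠ 1
  order : (g : ℚ) * ((x : ℚ) - 1) ^ 2 = 64 * a * b * ((a : ℚ) + b) ^ 2 * x * (x + 1)
  pairs : (g : ℚ) * (1 + 1 / (x : ℚ) + 1 / y + 1 / z) = 256 * ((a : ℚ) * b) ^ 2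
  big : 8 ≤ |x| ∧ 8 ≤ |y| ∧ 8 ≤ |z|

variable {g a b : ℕ} {x y z : ℤ}

theorem x_range (N : Numbers g a b x y z) : 9 ≤ x ∨ x ≤ -15 := by
  have := N.xmod; have := N.xne; have h := N.big.1
  rcases le_abs.mp h with h | h <;> omega

theorem order_int (N : Numbers g a b x y z) :
    (g : ℤ) * (x - 1) ^ 2 = 64 * a * b * ((a : ℤ) + b) ^ 2 * x * (x + 1) := by
  exact_mod_cast N.order

theorem order_le (N : Numbers g a b x y z) : g ≤ 90 * (a * b * (a + b) ^ 2) := by
  have h := order_int N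
  have hx : 64 * (x * (x + 1)) ≤ 90 * (x - 1) ^ 2 := by rcases x_range N with h | h <;> nlinarith
  have hp : (0 : ℤ) < (x - 1) ^ 2 := by have := N.xne; positivity
  have : (g : ℤ) ≤ ((90 * (a * b * (a + b) ^ 2) : ℕ) : ℤ) := by
    push_cast
    refine le_of_mul_le_mul_right ?_ hp
    rw [h]
    nlinarith [mul_le_mul_of_nonneg_left hx (show (0 : ℤ) ≤ (a : ℤ) * b * ((a : ℤ) + b) ^ 2 by positivity)]
  exact_mod_cast this

theorem order_gt (N : Numbers g a b x y z) (ha : 3 ≤ a) (hb : 3 ≤ b) : 2520 < g := by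
  have h := order_int N
  have hx : 52 * (x - 1) ^ 2 ≤ 64 * (x * (x + 1)) := by rcases x_range N with h | h <;> nlinarith
  have hp : (0 : ℤ) < (x - 1) ^ 2 := by have := N.xne; positivity
  have hab : (324 : ℤ) ≤ (a : ℤ) * b * ((a : ℤ) + b) ^ 2 := by
    calc (324 : ℤ) = 3 * 3 * (3 + 3) ^ 2 := by norm_num
      _ ≤ _ := by gcongr <;> exact_mod_cast by omega
  have : (2520 : ℤ) < g := by
    refine lt_of_mul_lt_mul_right ?_ hp.le
    rw [h]
    nlinarith [mul_le_mul_of_nonneg_left hx (show (0 : ℤ) ≤ (a : ℤ) * b * ((a : ℤ) + b) ^ 2 by positivity),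
      mul_le_mul_of_nonneg_right hab hp.le]
  exact_mod_cast this

theorem index_le {n h : ℕ} (N : Numbers g a b x y z) (hab : a ≤ b) (ha : 0 < a) (hg : n * (2 * h) ≤ g)
    (hh : 200 * (a * b ^ 3) < 9 * h) : n ≤ 8 := by
  by_contra hn
  have h1 := order_le N
  have h2 : a * b * (a + b) ^ 2 ≤ 4 * (a * b ^ 3) := by
    calc a * b * (a + b) ^ 2 ≤ a * b * (b + b) ^ 2 := by gcongr
      _ = 4 * (a * b ^ 3) := by ring
  have h3 : 9 * (2 * h) ≤ n * (2 * h) := Nat.mul_le_mul_right _ (by omega)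
  omega

/-- The two equal degrees are impossible. -/
theorem not_equal (N : Numbers g a a x y z) (hdvd : a ^ 4 ∣ g) (ha : 0 < a) : False := by
  obtain ⟨k, rfl⟩ := hdvd
  obtain ⟨hx8, hy8, hz8⟩ := N.big
  have ha4 : ((a : ℤ) ^ 4) ≠ 0 := by positivity
  have hk : (k : ℤ) * (x - 1) ^ 2 = 256 * (x * (x + 1)) := by
    have h := order_int N
    push_cast at h
    refine mul_left_cancel₀ ha4 ?_
    linear_combination h
  have hx0 : x ≠ 0 := by intro e; simp [e] at hx8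
  have hy0 : y ≠ 0 := by intro e; simp [e] at hy8
  have hz0 : z ≠ 0 := by intro e; simp [e] at hz8
  have hx1 : x + 1 ≠ 0 := by intro e; rcases x_range N with h | h <;> omega
  have hyz : y = z := by
    have h := N.pairs
    push_cast at h
    have hk' : (k : ℚ) * ((x : ℚ) - 1) ^ 2 = 256 * ((x : ℚ) * (x + 1)) := by exact_mod_cast hk
    have ha' : ((a : ℚ) ^ 4) ≠ 0 := by positivity
    have h' : (k : ℚ) * (1 + 1 / (x : ℚ) + 1 / y + 1 / z) = 256 := by
      refine mul_left_cancel₀ ha' ?_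
      linear_combination h
    have hxq : (x : ℚ) ≠ 0 := Int.cast_ne_zero.mpr hx0
    have hyq : (y : ℚ) ≠ 0 := Int.cast_ne_zero.mpr hy0
    have hzq : (z : ℚ) ≠ 0 := Int.cast_ne_zero.mpr hz0
    field_simp at h'
    have hk0 : (k : ℚ) ≠ 0 := by
      intro e
      rw [e, zero_mul] at hk'
      have : (256 : ℚ) * ((x : ℚ) * (x + 1)) ≠ 0 :=
        mul_ne_zero (by norm_num) (mul_ne_zero hxq (by exact_mod_cast hx1))
      exact this hk'.symm
    have hs : (y : ℚ) + z = -((x : ℚ) + 1) := by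
      have : ((1 + x + y + z : ℤ) : ℚ) = 0 := by exact_mod_cast N.sum
      push_cast at this
      linarith
    have key : (k : ℚ) * ((x : ℚ) * (((y : ℚ) - z) ^ 2)) = 0 := by
      linear_combination (-((x : ℚ) + 1)) * h' + ((y : ℚ) * z) * hk' + ((k : ℚ) * x * (y + z)) * hs
    rcases mul_eq_zero.mp key with h0 | h0
    · exact absurd h0 hk0
    rcases mul_eq_zero.mp h0 with h1 | h1
    · exact absurd h1 hxq
    exact_mod_cast sub_eq_zero.mp (pow_eq_zero_iff two_ne_zero |>.mp h1)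
  obtain ⟨q, rfl⟩ : ∃ q, x = 8 * q + 1 := ⟨x / 8, by have := N.xmod; omega⟩
  have hq : q % 2 = 1 ∧ q ≠ 0 := by have := N.sum; have := N.ymod; omega
  have hdiv : q ∣ 8 := by
    have h4 : (k : ℤ) * q ^ 2 = 4 * ((8 * q + 1) * (8 * q + 1 + 1)) := by
      refine mul_left_cancel₀ (show (64 : ℤ) ≠ 0 by norm_num) ?_
      linear_combination hk
    exact ⟨(k : ℤ) * q - 256 * q - 96, by linear_combination -h4⟩
  have hle : q ≤ 8 := Int.le_of_dvd (by norm_num) hdiv
  have hge : -8 ≤ q := by have := Int.le_of_dvd (by norm_num) ((neg_dvd).mpr hdiv); omega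
  have := N.sum
  subst hyz
  rcases le_abs.mp hy8 with h | h <;> interval_cases q <;> first | omega | norm_num at hdiv

/-- With a trivial fixed point group on one side. -/
theorem one_side (N : Numbers g a 1 x y z) (ha : 3 ≤ a) (hodd : a % 2 = 1) : a = 3 ∧ g = 2520 := by
  obtain ⟨hx8, hy8, hz8⟩ := N.big
  have hx0 : x ≠ 0 := by intro e; simp [e] at hx8
  have hy0 : y ≠ 0 := by intro e; simp [e] at hy8
  have hz0 : z ≠ 0 := by intro e; simp [e] at hz8
  have hord := order_int N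
  push_cast at hord
  have hE : (1 + x) ^ 2 * (y * z - x) * ((a : ℤ) + 1) ^ 2 = 4 * a * (x - 1) ^ 2 * (y * z) := by
    have h := N.pairs
    have h0 := N.order
    push_cast at h h0
    have hxq : (x : ℚ) ≠ 0 := Int.cast_ne_zero.mpr hx0
    have hyq : (y : ℚ) ≠ 0 := Int.cast_ne_zero.mpr hy0
    have hzq : (z : ℚ) ≠ 0 := Int.cast_ne_zero.mpr hz0
    have hs : (y : ℚ) + z = -((x : ℚ) + 1) := by
      have : ((1 + x + y + z : ℤ) : ℚ) = 0 := by exact_mod_cast N.sum
      push_cast at this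
      linarith
    field_simp at h
    have ha0 : (a : ℚ) ≠ 0 := Nat.cast_ne_zero.mpr (by omega)
    have key : ((1 + x : ℚ) ^ 2 * ((y : ℚ) * z - x) * ((a : ℚ) + 1) ^ 2) * (64 * a * x) =
        (4 * (a : ℚ) * ((x : ℚ) - 1) ^ 2 * ((y : ℚ) * z)) * (64 * a * x) := by
      linear_combination (((x : ℚ) - 1) ^ 2) * h - ((1 + (x : ℚ)) * ((y : ℚ) * z - x)) * h0
        - ((g : ℚ) * ((x : ℚ) - 1) ^ 2 * x) * hs
    have := mul_right_cancel₀ (mul_ne_zero (mul_ne_zero (by norm_num) ha0) hxq) key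
    exact_mod_cast this
  have hsum := N.sum
  have hym := N.ymod
  have hzm := N.zmod
  have ha' : (3 : ℤ) ≤ a := by exact_mod_cast ha
  have hr : 16 * (a : ℤ) ≤ 3 * ((a : ℤ) + 1) ^ 2 := by nlinarith
  have hapos : (0 : ℤ) < ((a : ℤ) + 1) ^ 2 := by positivity
  rcases x_range N with hx | hx
  · exfalso
    -- `x / (y z)` would exceed `1 / 4`
    have hyzneg : y ≤ -13 ∧ z ≤ -13 := by
      rcases le_abs.mp hy8 with h | h <;> rcases le_abs.mp hz8 with h' | h'
      · omega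
      · exfalso
        have h1 : y * z < 0 := mul_neg_of_pos_of_neg (by omega) (by omega)
        nlinarith [mul_pos hapos (neg_pos.mpr h1), mul_nonneg (sub_nonneg.mpr hr) (sq_nonneg (x - 1)),
          mul_le_mul_of_nonneg_left (show (x - 1) ^ 2 ≤ (1 + x) ^ 2 by nlinarith) hapos.le]
      · exfalso
        have h1 : y * z < 0 := mul_neg_of_neg_of_pos (by omega) (by omega)
        nlinarith [mul_pos hapos (neg_pos.mpr h1), mul_nonneg (sub_nonneg.mpr hr) (sq_nonneg (x - 1)),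
          mul_le_mul_of_nonneg_left (show (x - 1) ^ 2 ≤ (1 + x) ^ 2 by nlinarith) hapos.le]
      · omega
    obtain ⟨hy, hz⟩ := hyzneg
    have h1 : 0 < y * z := mul_pos_of_neg_of_neg (by omega) (by omega)
    have h2 : 4 * x ≤ y * z := by
      nlinarith [mul_nonneg (show (0 : ℤ) ≤ -13 - y by omega) (show (0 : ℤ) ≤ -13 - z by omega)]
    -- so `yz - x ≥ (3/4) yz`
    have h3 : 3 * (y * z) ≤ 4 * (y * z - x) := by linarith
    have h4 : (x - 1) ^ 2 < (1 + x) ^ 2 := by nlinarith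
    have h5 : 3 * (y * z) * (1 + x) ^ 2 * ((a : ℤ) + 1) ^ 2 ≤ 4 * (y * z - x) * (1 + x) ^ 2 * ((a : ℤ) + 1) ^ 2 := by
      gcongr
    have h6 : 16 * (a : ℤ) * (x - 1) ^ 2 * (y * z) ≤ 3 * ((a : ℤ) + 1) ^ 2 * (x - 1) ^ 2 * (y * z) := by
      gcongr
    have h7 : 3 * ((a : ℤ) + 1) ^ 2 * (x - 1) ^ 2 * (y * z) < 3 * ((a : ℤ) + 1) ^ 2 * (1 + x) ^ 2 * (y * z) :=
      mul_lt_mul_of_pos_right (mul_lt_mul_of_pos_left h4 (by linarith)) h1
    nlinarith
  obtain ⟨X, rfl⟩ : ∃ X, x = -X := ⟨-x, by ring⟩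
  have hX : 15 ≤ X := by omega
  have hX2 : 16 * (X + 1) ^ 2 < 26 * (X - 1) ^ 2 := by nlinarith
  have hmix : ∀ p n : ℤ, p + (-n) = X - 1 → 8 ≤ |p| → 8 ≤ |-n| → p % 8 = 3 → (-n) % 8 = 3 →
      (1 + -X) ^ 2 * (p * (-n) - -X) * ((a : ℤ) + 1) ^ 2 = 4 * a * (-X - 1) ^ 2 * (p * (-n)) →
      0 < n → a = 3 ∧ X = 15 := by
    intro p n hs hp hn hpm hnm hE hn0
    have hn13 : 13 ≤ n := by rw [abs_neg, abs_of_pos hn0] at hn; omega
    have hp0 : X + 12 ≤ p := by omega
    have hpn : 13 * X < p * n := by nlinarith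
    have h1 : 12 * (p * n) < 13 * (p * n - X) := by linarith
    have hE' : (X - 1) ^ 2 * (p * n - X) * ((a : ℤ) + 1) ^ 2 = 4 * a * (X + 1) ^ 2 * (p * n) := by
      linear_combination -hE
    have hXpos : (0 : ℤ) < (X - 1) ^ 2 := pow_pos (by omega) 2
    have h2 : 12 * (p * n) * ((X - 1) ^ 2 * ((a : ℤ) + 1) ^ 2) < 13 * (p * n - X) * ((X - 1) ^ 2 * ((a : ℤ) + 1) ^ 2) :=
      mul_lt_mul_of_pos_right h1 (mul_pos hXpos hapos)
    have h3 : 12 * ((X - 1) ^ 2 * ((a : ℤ) + 1) ^ 2) < 52 * a * (X + 1) ^ 2 := by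
      refine lt_of_mul_lt_mul_left (a := p * n) ?_ (by nlinarith)
      linarith
    have hXs : X ≤ 22 := by
      by_contra hlt
      have : 39 * (X + 1) ^ 2 ≤ 48 * (X - 1) ^ 2 := by nlinarith
      nlinarith [mul_le_mul_of_nonneg_right hr (sq_nonneg (X + 1))]
    have hX15 : X = 15 := by have := N.xmod; omega
    subst hX15
    refine ⟨?_, rfl⟩
    have : (a : ℤ) < 5 := by nlinarith
    omega
  have hres : a = 3 ∧ X = 15 := by
    rcases le_abs.mp hy8 with h | h <;> rcases le_abs.mp hz8 with h' | h'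
    · exfalso
      have h1 : 0 < y * z := mul_pos (by omega) (by omega)
      have h2 : 16 * (a : ℤ) * (X + 1) ^ 2 * (y * z) ≤ 3 * ((a : ℤ) + 1) ^ 2 * (X + 1) ^ 2 * (y * z) := by
        gcongr
      have h3 : (X - 1) ^ 2 * (y * z) * ((a : ℤ) + 1) ^ 2 < (X - 1) ^ 2 * (y * z - -X) * ((a : ℤ) + 1) ^ 2 := by
        refine mul_lt_mul_of_pos_right (mul_lt_mul_of_pos_left ?_ (pow_pos (by omega) 2)) hapos
        linarith
      have h4 : 3 * (X + 1) ^ 2 < 4 * (X - 1) ^ 2 := by nlinarith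
      have h5 := mul_lt_mul_of_pos_right h4 (mul_pos h1 hapos)
      nlinarith
    · exact hmix y (-z) (by omega) hy8 (by simpa using hz8) hym (by simpa using hzm)
        (by simpa using hE) (by omega)
    · exact hmix z (-y) (by omega) hz8 (by simpa using hy8) hzm (by simpa using hym)
        (by linear_combination hE) (by omega)
    · omega
  obtain ⟨rfl, rfl⟩ := hres
  refine ⟨rfl, ?_⟩
  norm_num at hord
  omega

end CfsgLib.SmallCent
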