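import Cfsg.Agent.Lib.SmallCent.Block
import Cfsg.Agent.Lib.SmallCent.FourFixed
import Cfsg.Agent.Lib.SmallCent.Klein
import Cfsg.Agent.Lib.SmallCent.Numeric
import Cfsg.Agent.Lib.SmallCent.Local
import Cfsg.Agent.Lib.SmallOrder.Basic

/-!
# The fixed point groups in the odd core are small
-/

set_option autoImplicit false
set_option linter.unusedSectionVars false
set_option linter.style.haveILetI false

namespace CfsgLib.SmallCent

open DihBlock

variable {G : Type*} [Group G] [Fintype G]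
variable {P : Sylow 2 G} {w τ : G} (D : Data P w τ 2)
  (hC : Subgroup.centralizer ({w} : Set G) = Subgroup.zpowers w)
  (h1 : IsConj (w ^ 2) τ) (h2 : IsConj (w ^ 2) (w * τ))
  (ha : Nat.card (fix w τ) ≠ 1)
include D hC h1 h2

theorem conj_to_other : IsConj (w ^ 2) (w * (w * τ)) := by
  refine isConj_z D h1 h2 ?_
  rw [← mul_assoc, ← pow_two]
  exact orderOf_refl D 2

theorem centralizer_four :
    Subgroup.centralizer (four P τ : Set G) = cz w 2 ⊓ Subgroup.centralizer ({τ} : Set G) := by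
  ext x
  simp only [Subgroup.mem_inf, cz, Subgroup.mem_centralizer_singleton_iff]
  constructor
  · intro hx
    exact ⟨(Subgroup.mem_centralizer_iff.mp hx _ (z_mem_four D hC h1 h2)).symm,
      (Subgroup.mem_centralizer_iff.mp hx _ (tau_mem_four D hC h1 h2)).symm⟩
  · rintro ⟨e1, e2⟩
    refine Subgroup.mem_centralizer_iff.mpr fun v hv => ?_
    rcases four_cases D hC h1 h2 hv with rfl | rfl | rfl | rfl
    exacts [by simp, e1.symm, e2.symm, ((show Commute x (w ^ 2) from e1).mul_right e2).eq.symm]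

theorem centralizer_four_le :
    Subgroup.centralizer (four P τ : Set G) ≤ Subgroup.centralizer (fix w τ : Set G) := by
  intro x hx
  rw [centralizer_four D hC h1 h2] at hx
  obtain ⟨a, ha', v, hv, rfl⟩ := pair_cases D hC h1 h2 hx.1 (Subgroup.mem_centralizer_singleton_iff.mp hx.2)
  exact mul_mem (core_le_centralizer D hC h1 h2 (mem_fix.mp ha').1) (four_le D hC h1 h2 hv)

theorem w_normalizes_fix {a : G} (h : a ∈ fix w τ) : w * a * w⁻¹ ∈ fix w τ := by
  rw [inverts D hC (mem_fix.mp h).1]; exact inv_mem h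

theorem w_normalizes_centralizer {x : G} (hx : x ∈ Subgroup.centralizer (fix w τ : Set G)) :
    w * x * w⁻¹ ∈ Subgroup.centralizer (fix w τ : Set G) := by
  refine Subgroup.mem_centralizer_iff.mpr fun a ha' => ?_
  have e := (show Commute a⁻¹ x from (Subgroup.mem_centralizer_iff.mp hx a⁻¹ (inv_mem ha'))).map (MulAut.conj w)
  simp only [MulAut.conj_apply, inverts D hC ((core w 2).inv_mem (mem_fix.mp ha').1), inv_inv] at e
  exact e.eq

include ha

theorem exists_fix_ne : ∃ a ∈ fix w τ, a * a ≠ 1 := by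
  haveI : Nontrivial (fix w τ) := Finite.one_lt_card_iff_nontrivial.mp (by
    have := Nat.card_pos (α := fix w τ); omega)
  obtain ⟨⟨a, ha'⟩, hne⟩ := exists_ne (1 : fix w τ)
  refine ⟨a, ha', fun e => ?_⟩
  have h2' : orderOf a = 2 := Invol.orderOf_two_of_mul_self e fun e' => hne (Subtype.ext e')
  exact core_regular (mem_fix.mp ha').1 (by rw [h2'])

theorem w_not_mem : w ∉ Subgroup.centralizer (fix w τ : Set G) := by
  intro h
  obtain ⟨a, ha', hne⟩ := exists_fix_ne D hC h1 h2 ha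
  have e := inverts D hC (mem_fix.mp ha').1
  rw [← Subgroup.mem_centralizer_iff.mp h a ha', mul_inv_cancel_right] at e
  exact hne (eq_inv_iff_mul_eq_one.mp e)

theorem no_conj_w {y : G} : y * w * y⁻¹ ∉ Subgroup.centralizer (fix w τ : Set G) := by
  intro h
  have hle : fix w τ ≤ Subgroup.centralizer ({y * w * y⁻¹} : Set G) := fun a ha' =>
    Subgroup.mem_centralizer_singleton_iff.mpr (Subgroup.mem_centralizer_iff.mp h a ha')
  have hd := Subgroup.card_dvd_of_le hle
  rw [← show Nat.card (Subgroup.centralizer ({w} : Set G)) =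
      Nat.card (Subgroup.centralizer ({y * w * y⁻¹} : Set G)) from ?_, hC, Nat.card_zpowers, D.ordσ] at hd
  · have h' : Nat.card (fix w τ) ∣ 1 := by
      refine Nat.Coprime.dvd_of_dvd_mul_left ?_ (show Nat.card (fix w τ) ∣ 4 * 1 by simpa using hd)
      rw [show (4 : ℕ) = 2 ^ 2 by norm_num]
      exact (Nat.coprime_two_right.mpr (odd_fix D hC τ)).pow_right 2
    exact ha (Nat.eq_one_of_dvd_one h')
  · refine Nat.card_congr ((Subgroup.equivMapOfInjective _ (MulAut.conj y).toMonoidHom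
      (MulAut.conj y).injective).toEquiv.trans (Equiv.setCongr (congrArg _ ?_)))
    ext x
    simp only [Subgroup.mem_map_equiv, Subgroup.mem_centralizer_singleton_iff, MulAut.conj_symm_apply]
    constructor
    · intro e
      calc x * (y * w * y⁻¹) = y * (y⁻¹ * x * y * w) * y⁻¹ := by group
        _ = y * w * y⁻¹ * x := by rw [e]; group
    · intro e
      calc y⁻¹ * x * y * w = y⁻¹ * (x * (y * w * y⁻¹)) * y := by group
        _ = w * (y⁻¹ * x * y) := by rw [e]; group

theorem exists_sylow : ∃ Q : Sylow 2 (Subgroup.centralizer (fix w τ : Set G)),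
    (Q : Subgroup (Subgroup.centralizer (fix w τ : Set G))) =
      (four P τ).subgroupOf (Subgroup.centralizer (fix w τ : Set G)) ∧
    IsKleinFour (Q : Subgroup (Subgroup.centralizer (fix w τ : Set G))) := by
  classical
  haveI := Fact.mk Nat.prime_two
  set H := Subgroup.centralizer (fix w τ : Set G)
  have hV := four_le D hC h1 h2
  have hVcard : Nat.card ((four P τ).subgroupOf H) = 4 := by
    rw [Nat.card_congr (Subgroup.subgroupOfEquivOfLe hV).toEquiv, card_four D hC h1 h2]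
  obtain ⟨Q, hQ⟩ := (IsPGroup.of_card (p := 2) (n := 2) (hVcard.trans (by norm_num))).exists_le_sylow
  obtain ⟨g, hg⟩ := Transfer.exists_map_conj_le_sylow
    ((Q.2.map H.subtype) : IsPGroup 2 ((Q : Subgroup H).map H.subtype)) P
  have hQd : Nat.card (Q : Subgroup H) ∣ 8 := by
    rw [← Subgroup.card_map_of_injective (f := H.subtype) H.subtype_injective (K := (Q : Subgroup H)),
      ← Subgroup.card_map_of_injective (f := (MulAut.conj g).toMonoidHom) (MulAut.conj g).injective
        (K := (Q : Subgroup H).map H.subtype), show (8 : ℕ) = 4 * 2 by norm_num, ← D.card]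
    exact Subgroup.card_dvd_of_le hg
  have hne8 : Nat.card (Q : Subgroup H) ≠ 8 := by
    intro h8
    have heq := Subgroup.eq_of_le_of_card_ge hg (by
      rw [Subgroup.card_map_of_injective (f := (MulAut.conj g).toMonoidHom) (MulAut.conj g).injective,
        Subgroup.card_map_of_injective H.subtype_injective, h8, D.card])
    obtain ⟨z, hz, hze⟩ := Subgroup.mem_map.mp (show w ∈ ((Q : Subgroup H).map H.subtype).map
      (MulAut.conj g).toMonoidHom by rw [heq]; exact D.memσ)
    obtain ⟨z, -, rfl⟩ := hz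
    refine no_conj_w D hC h1 h2 ha (y := g⁻¹) ?_
    have hz' : g * (z : G) * g⁻¹ = w := hze
    have e : g⁻¹ * w * g⁻¹⁻¹ = (z : G) := by
      rw [show g⁻¹ * w * g⁻¹⁻¹ = g⁻¹ * (g * (z : G) * g⁻¹) * g⁻¹⁻¹ by rw [hz']]
      group
    rw [e]; exact z.2
  have hQ4 : 4 ∣ Nat.card (Q : Subgroup H) := hVcard ▸ Subgroup.card_dvd_of_le hQ
  have h4 : Nat.card (Q : Subgroup H) = 4 := by
    have := Nat.le_of_dvd (by norm_num) hQd
    interval_cases hn : Nat.card (Q : Subgroup H) <;> omega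
  have hQV : (Q : Subgroup H) = (four P τ).subgroupOf H :=
    (Subgroup.eq_of_le_of_card_ge hQ (by rw [h4, hVcard])).symm
  refine ⟨Q, hQV, { card_four := h4, exponent_two := ?_ }⟩
  refine Nat.le_antisymm (Nat.le_of_dvd two_pos (Monoid.exponent_dvd_of_forall_pow_eq_one fun x => ?_)) ?_
  · by_cases hx : x = 1
    · rw [hx, one_pow]
    have hxV : ((x : H) : G) ∈ four P τ := by
      have := x.2
      simp only [hQV] at this
      exact this
    refine Subtype.ext (Subtype.ext ?_)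
    rw [pow_two]
    exact Invol.mul_self_of_orderOf_two (four_orderOf D hC h1 h2 hxV fun e => hx (Subtype.ext (Subtype.ext e)))
  · haveI : Nontrivial (Q : Subgroup H) := Finite.one_lt_card_iff_nontrivial.mp (by rw [h4]; norm_num)
    exact Monoid.one_lt_exponent (G := (Q : Subgroup H))

theorem one_class : ∀ {Q : Sylow 2 (Subgroup.centralizer (fix w τ : Set G))},
    (Q : Subgroup (Subgroup.centralizer (fix w τ : Set G))) =
      (four P τ).subgroupOf (Subgroup.centralizer (fix w τ : Set G)) →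
    IsKleinFour (Q : Subgroup (Subgroup.centralizer (fix w τ : Set G))) →
    ∀ s t : Subgroup.centralizer (fix w τ : Set G), orderOf s = 2 → orderOf t = 2 → IsConj s t := by
  classical
  set H := Subgroup.centralizer (fix w τ : Set G) with hH
  intro Q hQ hK
  refine (Invol.klein_complement_or_one_class Q hK).resolve_left ?_
  rintro ⟨N, hN, hc⟩
  obtain ⟨g, hg, hg1, -, -⟩ := exists_cycle D hC h1 h2
  set z : H := ⟨w ^ 2, four_le D hC h1 h2 (z_mem_four D hC h1 h2)⟩
  set τH : H := ⟨τ, four_le D hC h1 h2 (tau_mem_four D hC h1 h2)⟩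
  have hτQ : τH ∈ (Q : Subgroup H) := by rw [hQ]; exact tau_mem_four D hC h1 h2
  have hzQ : z ∈ (Q : Subgroup H) := by rw [hQ]; exact z_mem_four D hC h1 h2
  obtain ⟨n, hn, q, hq, hgq⟩ : ∃ n ∈ N, ∃ q ∈ (Q : Subgroup H), (⟨g, hg⟩ : H) = n * q := by
    obtain ⟨⟨⟨n, hn⟩, ⟨q, hq⟩⟩, e⟩ := hc.2 (⟨g, hg⟩ : H)
    exact ⟨n, hn, q, hq, e.symm⟩
  haveI := hN
  haveI := hK
  have hqz : q * z * q⁻¹ = z := mul_inv_eq_iff_eq_mul.mpr (congrArg Subtype.val
    (IsKleinFour.isMulCommutative.is_comm.comm (⟨q, hq⟩ : (Q : Subgroup H)) ⟨z, hzQ⟩))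
  have e : (⟨g, hg⟩ : H) * z * (⟨g, hg⟩ : H)⁻¹ * z⁻¹ = τH := by
    refine Subtype.ext ?_
    show g * w ^ 2 * g⁻¹ * (w ^ 2)⁻¹ = τ
    rw [hg1, (z_commute D D.memτ).eq, mul_inv_cancel_right]
  have hτN : τH ∈ N := by
    rw [← e, hgq, show n * q * z * (n * q)⁻¹ * z⁻¹ = n * (q * z * q⁻¹) * n⁻¹ * z⁻¹ by group, hqz]
    rw [show n * z * n⁻¹ * z⁻¹ = n * (z * n⁻¹ * z⁻¹) by group]
    exact mul_mem hn (hN.conj_mem _ (inv_mem hn) z)
  have : τH = 1 := Subgroup.disjoint_def.mp hc.disjoint hτN hτQ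
  exact tau_ne_one D (congrArg Subtype.val this)

theorem card_cz_inf :
    Nat.card ↥(cz w 2 ⊓ Subgroup.centralizer (fix w τ : Set G)) = 4 * Nat.card (core w 2) := by
  classical
  set H := Subgroup.centralizer (fix w τ : Set G)
  let f : core w 2 × four P τ → ↥(cz w 2 ⊓ H) := fun v => ⟨(v.1 : G) * v.2,
    mul_mem (core_le v.1.2) (sylow_le_centralizer_z D v.2.2.1),
    mul_mem (core_le_centralizer D hC h1 h2 v.1.2) (four_le D hC h1 h2 v.2.2)⟩
  have hf : Function.Bijective f := by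
    refine ⟨fun v v' e => ?_, fun x => ?_⟩
    · obtain ⟨e1, e2⟩ := fact_unique D v.1.2 v'.1.2 v.2.2.1 v'.2.2.1 (congrArg Subtype.val e)
      exact Prod.ext (Subtype.ext e1) (Subtype.ext e2)
    · obtain ⟨o, ho, q, hq, e⟩ := fact_cz D x.2.1
      have hqH : q ∈ H := by
        have := H.mul_mem (H.inv_mem (core_le_centralizer D hC h1 h2 ho)) x.2.2
        rwa [e, inv_mul_cancel_left] at this
      refine ⟨(⟨o, ho⟩, ⟨q, ?_⟩), Subtype.ext e.symm⟩
      obtain ⟨i, hi⟩ := D.cases q hq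
      have hmod : w ^ i = w ^ (i % 4) := by rw [← pow_mod_orderOf, D.ordσ]
      rw [hmod] at hi
      have h2m : w ^ 2 ∈ four P τ := z_mem_four D hC h1 h2
      have htm : τ ∈ four P τ := tau_mem_four D hC h1 h2
      have hbad : ∀ j : ℕ, w ^ j ∈ H → Even j := fun j hj => by
        by_contra h
        obtain ⟨l, rfl⟩ := Nat.not_even_iff_odd.mp h
        refine w_not_mem D hC h1 h2 ha ?_
        rw [pow_add, pow_mul, pow_one] at hj
        exact (H.mul_mem_cancel_left (pow_mem (four_le D hC h1 h2 h2m) l)).mp hj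
      have hwj : ∀ j : ℕ, Even j → w ^ j ∈ four P τ := fun j hj => by
        obtain ⟨l, rfl⟩ := hj
        rw [← two_mul, pow_mul]
        exact pow_mem h2m l
      rcases hi with hi | hi
      · exact hi ▸ hwj _ (hbad _ (hi ▸ hqH))
      · have := hbad (i % 4) (by
          have := H.mul_mem hqH (H.inv_mem (four_le D hC h1 h2 htm))
          rwa [hi, mul_inv_cancel_right] at this)
        exact hi ▸ mul_mem (hwj _ this) htm
  rw [← Nat.card_congr (Equiv.ofBijective f hf), Nat.card_prod, card_four D hC h1 h2, mul_comm]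

/-- The dichotomy for the centralizer of the fixed points. -/
theorem big_or_odd :
    200 * (Nat.card (fix w τ) * Nat.card (fix w (w * τ)) ^ 3) <
        9 * Nat.card (Subgroup.centralizer (fix w τ : Set G)) ∨
      ∃ R : Subgroup G, Odd (Nat.card R) ∧
        (∀ h ∈ Subgroup.centralizer (fix w τ : Set G), ∀ x ∈ R, h * x * h⁻¹ ∈ R) ∧
        (∀ x ∈ R, w * x * w⁻¹ ∈ R) ∧ (∀ x ∈ R, x ∈ Subgroup.centralizer (fix w τ : Set G)) ∧
        (∀ v ∈ four P τ, v ≠ 1 → ∀ c ∈ Subgroup.centralizer (fix w τ : Set G), Commute v c →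
          Odd (orderOf c) → c ∈ R) := by
  classical
  set H := Subgroup.centralizer (fix w τ : Set G) with hH
  obtain ⟨Q, hQ, hK⟩ := exists_sylow D hC h1 h2 ha
  have hone := one_class D hC h1 h2 ha hQ hK
  have hz := z_mem_four D hC h1 h2
  set J : H := ⟨w ^ 2, four_le D hC h1 h2 hz⟩
  have hJ : J ∈ (Q : Subgroup H) := by rw [hQ]; exact hz
  letI := Fintype.ofFinite H
  rcases klein_bound Q hK hone hJ (by rw [← Subgroup.orderOf_coe]; exact orderOf_z D) with h | ⟨N, hN, hodd, hmem⟩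
  · left
    have eJ : Nat.card (Subgroup.centralizer ({J} : Set H)) = 4 * Nat.card (core w 2) := by
      rw [← card_cz_inf D hC h1 h2 ha]
      exact Nat.card_congr
        { toFun := fun x => ⟨((x : H) : G), Subgroup.mem_centralizer_singleton_iff.mpr
            (congrArg Subtype.val (Subgroup.mem_centralizer_singleton_iff.mp x.2)), (x : H).2⟩
          invFun := fun x => ⟨⟨x, x.2.2⟩, Subgroup.mem_centralizer_singleton_iff.mpr
            (Subtype.ext (Subgroup.mem_centralizer_singleton_iff.mp x.2.1))⟩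
          left_inv := fun x => rfl
          right_inv := fun x => rfl }
    have eQ : Nat.card (Subgroup.centralizer ((Q : Subgroup H) : Set H)) = 4 * Nat.card (fix w τ) := by
      rw [← card_pair D hC, ← centralizer_four D hC h1 h2, hQ]
      refine Nat.card_congr
        { toFun := fun x => ⟨((x : H) : G), Subgroup.mem_centralizer_iff.mpr fun v hv =>
            congrArg Subtype.val (Subgroup.mem_centralizer_iff.mp x.2 ⟨v, four_le D hC h1 h2 hv⟩ hv)⟩
          invFun := fun x => ⟨⟨x, centralizer_four_le D hC h1 h2 x.2⟩, Subgroup.mem_centralizer_iff.mpr fun v hv =>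
            Subtype.ext (Subgroup.mem_centralizer_iff.mp x.2 (v : G) hv)⟩
          left_inv := fun x => rfl
          right_inv := fun x => rfl }
    rw [eJ, eQ, card_core D hC] at h
    set a := Nat.card (fix w τ)
    set b := Nat.card (fix w (w * τ))
    refine Nat.lt_of_mul_lt_mul_left (a := 16 * a ^ 2) ?_
    calc 16 * a ^ 2 * (200 * (a * b ^ 3)) = 50 * (4 * (a * b)) ^ 3 := by ring
      _ < 9 * Nat.card H * (4 * a) ^ 2 := h
      _ = 16 * a ^ 2 * (9 * Nat.card H) := by ring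
  · right
    set R0 := N.map H.subtype with hR0
    have hR0H : R0 ≤ H := Subgroup.map_subtype_le N
    have hR0n : ∀ h ∈ H, ∀ x ∈ R0, h * x * h⁻¹ ∈ R0 := by
      rintro h hh _ ⟨y, hy, rfl⟩
      exact ⟨⟨h, hh⟩ * y * ⟨h, hh⟩⁻¹, hN.conj_mem y hy _, rfl⟩
    have hz2 : w * w ∈ H := pow_two w ▸ four_le D hC h1 h2 hz
    refine ⟨R0 ⊓ R0.comap (MulAut.conj w).toMonoidHom, ?_, ?_, ?_, fun x hx => hR0H hx.1, ?_⟩
    · refine Odd.of_dvd_nat ?_ (Subgroup.card_dvd_of_le (inf_le_left : R0 ⊓ _ ≤ R0))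
      rwa [hR0, Subgroup.card_map_of_injective H.subtype_injective]
    · intro h hh x hx
      refine ⟨hR0n h hh x hx.1, ?_⟩
      show w * (h * x * h⁻¹) * w⁻¹ ∈ R0
      have e : w * (h * x * h⁻¹) * w⁻¹ = (w * h * w⁻¹) * (w * x * w⁻¹) * (w * h * w⁻¹)⁻¹ := by group
      rw [e]
      exact hR0n _ (w_normalizes_centralizer D hC h1 h2 hh) _ hx.2
    · intro x hx
      refine ⟨hx.2, ?_⟩
      show w * (w * x * w⁻¹) * w⁻¹ ∈ R0
      rw [show w * (w * x * w⁻¹) * w⁻¹ = w * w * x * (w * w)⁻¹ by group]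
      exact hR0n _ hz2 x hx.1
    · intro v hv hv1 c hc hcom hco
      have hin : ∀ v ∈ four P τ, v ≠ 1 → ∀ c ∈ H, Commute v c → Odd (orderOf c) → c ∈ R0 := by
        intro v hv hv1 c hc hcom hco
        refine ⟨⟨c, hc⟩, hmem ⟨v, four_le D hC h1 h2 hv⟩ (by rw [hQ]; exact hv)
          (fun e => hv1 (congrArg Subtype.val e)) ⟨c, hc⟩ (Subtype.ext hcom.eq) ?_, rfl⟩
        rwa [← Subgroup.orderOf_coe]
      refine ⟨hin v hv hv1 c hc hcom hco, ?_⟩
      show w * c * w⁻¹ ∈ R0
      refine hin (w * v * w⁻¹) (four_normal D D.memσ hv) (fun e => hv1 (conj_eq_one_iff.mp e)) _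
        (w_normalizes_centralizer D hC h1 h2 hc) (hcom.map (MulAut.conj w)) ?_
      rw [Transfer.orderOf_conj]; exact hco

theorem card_centralizer_invol {u : G} (hu : orderOf u = 2) :
    Nat.card (Subgroup.centralizer ({u} : Set G)) = 8 * (Nat.card (fix w τ) * Nat.card (fix w (w * τ))) := by
  obtain ⟨g, hg⟩ := isConj_iff.mp (isConj_z D h1 h2 hu)
  have e : Subgroup.centralizer ({u} : Set G) = (cz w 2).map (MulAut.conj g).toMonoidHom := by
    ext x
    simp only [cz, Subgroup.mem_map_equiv, Subgroup.mem_centralizer_singleton_iff, MulAut.conj_symm_apply]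
    rw [← hg]
    constructor
    · intro e
      calc g⁻¹ * x * g * w ^ 2 = g⁻¹ * (x * (g * w ^ 2 * g⁻¹)) * g := by group
        _ = w ^ 2 * (g⁻¹ * x * g) := by rw [e]; group
    · intro e
      calc x * (g * w ^ 2 * g⁻¹) = g * (g⁻¹ * x * g * w ^ 2) * g⁻¹ := by group
        _ = g * w ^ 2 * g⁻¹ * x := by rw [e]; group
  rw [e, Subgroup.card_map_of_injective (f := (MulAut.conj g).toMonoidHom) (MulAut.conj g).injective,
    card_cz D, card_core D hC]
  ring

/-- In the second case the other fixed point group is not larger. -/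
theorem odd_case {R : Subgroup G} (hodd : Odd (Nat.card R))
    (hn : ∀ h ∈ Subgroup.centralizer (fix w τ : Set G), ∀ x ∈ R, h * x * h⁻¹ ∈ R)
    (hwn : ∀ x ∈ R, w * x * w⁻¹ ∈ R) (hRH : ∀ x ∈ R, x ∈ Subgroup.centralizer (fix w τ : Set G))
    (hmem : ∀ v ∈ four P τ, v ≠ 1 → ∀ c ∈ Subgroup.centralizer (fix w τ : Set G), Commute v c →
      Odd (orderOf c) → c ∈ R) :
    Nat.card (fix w (w * τ)) ∣ Nat.card (fix w τ) ∧
      Nat.card (fix w τ) * Nat.card (fix w (w * τ)) ^ 3 ∣ Nat.card G := by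
  classical
  have hz := z_mem_four D hC h1 h2
  have ht := tau_mem_four D hC h1 h2
  have hzne := Invol.ne_one_of_orderOf_two (orderOf_z D)
  have hodd' : ∀ x ∈ R, ¬ 2 ∣ orderOf x := fun x hx h =>
    Nat.not_even_iff_odd.mpr (hodd.of_dvd_nat (Subgroup.orderOf_dvd_natCard R hx)) (even_iff_two_dvd.mpr h)
  have hco : ∀ x ∈ core w 2, Odd (orderOf x) := fun x hx =>
    Nat.not_even_iff_odd.mp fun h => core_regular hx (even_iff_two_dvd.mp h)
  have hcore : R ⊓ Subgroup.centralizer ({w ^ 2} : Set G) = core w 2 := by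
    ext x
    refine ⟨fun hx => mem_core D hx.2 (hodd' x hx.1), fun hx => ⟨?_, core_le hx⟩⟩
    exact hmem _ hz hzne x (core_le_centralizer D hC h1 h2 hx)
      (Subgroup.mem_centralizer_singleton_iff.mp (core_le hx)).symm (hco x hx)
  obtain ⟨g, hg, hg1, hg2, -⟩ := exists_cycle D hC h1 h2
  have hconj : ∀ {y u u' : G}, (∀ x ∈ R, y * x * y⁻¹ ∈ R) → y * u * y⁻¹ = u' →
      Nat.card ↥(R ⊓ Subgroup.centralizer ({u} : Set G)) ≤ Nat.card ↥(R ⊓ Subgroup.centralizer ({u'} : Set G)) := by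
    intro y u u' hy e
    refine Nat.card_le_card_of_injective (fun x => ⟨y * (x : G) * y⁻¹, hy _ x.2.1, ?_⟩)
      fun x x' h => Subtype.ext (mul_left_cancel (mul_right_cancel (congrArg Subtype.val h)))
    rw [← e]
    refine Subgroup.mem_centralizer_singleton_iff.mpr ?_
    have := (show Commute (x : G) u from Subgroup.mem_centralizer_singleton_iff.mp x.2.2).map (MulAut.conj y)
    exact this.eq
  have hgi : g⁻¹ ∈ Subgroup.centralizer (fix w τ : Set G) := inv_mem hg
  have hC3 : Nat.card ↥(R ⊓ Subgroup.centralizer ({w ^ 2 * τ} : Set G)) = Nat.card (core w 2) := by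
    rw [← hcore]
    exact le_antisymm (hconj (hn _ hgi) (show g⁻¹ * (w ^ 2 * τ) * g⁻¹⁻¹ = w ^ 2 by rw [← hg1]; group))
      (hconj (hn _ hg) hg1)
  have hC2 : Nat.card ↥(R ⊓ Subgroup.centralizer ({τ} : Set G)) = Nat.card (core w 2) := by
    rw [← hcore]
    exact le_antisymm (hconj (hn _ hg) hg2)
      (hconj (hn _ hgi) (show g⁻¹ * w ^ 2 * g⁻¹⁻¹ = τ by rw [← hg2]; group))
  have hpairset : ∀ u : G, R ⊓ Subgroup.centralizer ({w ^ 2, u} : Set G) =
      core w 2 ⊓ Subgroup.centralizer ({u} : Set G) := by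
    intro u
    rw [← hcore, inf_assoc]
    congr 1
    ext x
    simp [Subgroup.mem_centralizer_iff]
  have hzz : w ^ 2 * w ^ 2 = 1 := z_mul_self D
  have hVH : ∀ v ∈ four P τ, ∀ x ∈ R, v * x * v⁻¹ ∈ R := fun v hv => hn v (four_le D hC h1 h2 hv)
  have hwτn : ∀ x ∈ R, w * τ * x * (w * τ)⁻¹ ∈ R := fun x hx => by
    rw [show w * τ * x * (w * τ)⁻¹ = w * (τ * x * τ⁻¹) * w⁻¹ by group]
    exact hwn _ (hVH τ ht x hx)
  have p1 := four_product hodd hzz D.sqτ (z_commute D D.memτ) (hVH _ hz) (hVH τ ht)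
  have p2 := four_product hodd hzz (DihBlock.swap D).sqτ (z_commute D (mul_mem D.memσ D.memτ)) (hVH _ hz) hwτn
  set a := Nat.card (fix w τ) with hadef
  set b := Nat.card (fix w (w * τ)) with hbdef
  have hea : Nat.card ↥(R ⊓ Subgroup.centralizer ({w ^ 2, τ} : Set G)) = a := by rw [hpairset τ]; rfl
  have heb : Nat.card ↥(R ⊓ Subgroup.centralizer ({w ^ 2, w * τ} : Set G)) = b := by rw [hpairset (w * τ)]; rfl
  rw [hcore, hC2, hC3, hea, card_core D hC] at p1
  have hRcard : Nat.card R = a * b ^ 3 := by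
    refine Nat.eq_of_mul_eq_mul_right (show 0 < a ^ 2 by
      have : 0 < a := Nat.card_pos
      positivity) ?_
    rw [p1, ← hadef, ← hbdef]; ring
  have e3 : w * (w * τ) * w⁻¹ = w ^ 2 * (w * τ) := by
    rw [show w * (w * τ) * w⁻¹ = w * (w * τ * w⁻¹) by group, w_conj_tau D]; group
  have e4 : w * (w ^ 2 * (w * τ)) * w⁻¹ = w * τ := by
    rw [show w * (w ^ 2 * (w * τ)) * w⁻¹ = w ^ 2 * (w * (w * τ) * w⁻¹) by group, e3, ← mul_assoc, hzz, one_mul]
  have hX : Nat.card ↥(R ⊓ Subgroup.centralizer ({w ^ 2 * (w * τ)} : Set G)) =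
      Nat.card ↥(R ⊓ Subgroup.centralizer ({w * τ} : Set G)) := le_antisymm (hconj hwn e4) (hconj hwn e3)
  rw [hcore, hX, heb, card_core D hC, hRcard, ← hadef, ← hbdef] at p2
  set X := Nat.card ↥(R ⊓ Subgroup.centralizer ({w * τ} : Set G))
  have hb0 : 0 < b := Nat.card_pos
  have ha0 : 0 < a := Nat.card_pos
  have hXb : X = b ^ 2 := by
    have h4 : X ^ 2 = (b ^ 2) ^ 2 := by
      refine Nat.eq_of_mul_eq_mul_left (Nat.mul_pos ha0 hb0) ?_
      calc a * b * X ^ 2 = a * b * X * X := by ring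
        _ = a * b ^ 3 * b ^ 2 := p2.symm
        _ = a * b * (b ^ 2) ^ 2 := by ring
    exact Nat.pow_left_injective two_ne_zero h4
  have hdvd : b ^ 2 ∣ 8 * (a * b) := by
    rw [← hXb, hadef, hbdef, ← card_centralizer_invol D hC h1 h2 ha (orderOf_tau (DihBlock.swap D))]
    exact Subgroup.card_dvd_of_le inf_le_right
  refine ⟨?_, hRcard ▸ Subgroup.card_subgroup_dvd_card R⟩
  have h8 : b ∣ 8 * a := by
    refine Nat.dvd_of_mul_dvd_mul_right hb0 ?_
    rw [← pow_two]
    calc b ^ 2 ∣ 8 * (a * b) := hdvd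
      _ = 8 * a * b := by ring
  refine Nat.Coprime.dvd_of_dvd_mul_left ?_ h8
  rw [show (8 : ℕ) = 2 ^ 3 by norm_num]
  exact (Nat.coprime_two_right.mpr (odd_fix D hC (w * τ))).pow_right 3

end CfsgLib.SmallCent
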