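import Cfsg.Agent.Lib.SmallCent.Eight
import Cfsg.Agent.Lib.SmallCent.Degree
import Cfsg.Agent.Lib.DihBlock.Formula
import Cfsg.Agent.Lib.DihBlock.Complete
import Cfsg.Agent.Lib.BrauerReynolds.Centralizer
import Cfsg.Agent.Lib.Blocks.BrauerFeit
import Mathlib.RingTheory.RootsOfUnity.Complex

/-!
# The principal block when a rotation of order four is self-centralizing
-/

set_option autoImplicit false
set_option linter.unusedSectionVars false
set_option linter.style.haveILetI false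

namespace CfsgLib.SmallCent

open Cfsg CfsgLib DihBlock
open scoped ComplexConjugate CfsgLib.Char

variable {G : Type*} [Group G] [Fintype G]
variable {P : Sylow 2 G} {w τ : G} (D : Data P w τ 2)
  (hC : Subgroup.centralizer ({w} : Set G) = Subgroup.zpowers w)
  (h1 : IsConj (w ^ 2) τ) (h2 : IsConj (w ^ 2) (w * τ)) {M : Ideal AlgInt}
include D hC h1 h2

/-- The value on the section of an involution. -/
theorem value_involution_mul (hM : IsPModular 2 M) {χ : IrrCharacter G} (hχ : χ ∈ principalBlock M G)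
    {u r : G} (hu : orderOf u = 2) (hcom : Commute u r) (hr : Odd (orderOf r)) :
    (χ : G → ℂ) (u * r) = (χ : G → ℂ) (w ^ 2) := by
  obtain ⟨g, hg⟩ := isConj_iff.mp (isConj_z D h1 h2 hu)
  obtain ⟨Q, -, -, hnpc⟩ := z_centralizer D
  have hr' : ¬ 2 ∣ orderOf (g⁻¹ * r * g) := by
    have e := Transfer.orderOf_conj g⁻¹ r
    rw [inv_inv] at e
    rw [e]; exact fun h => Nat.not_even_iff_odd.mpr hr (even_iff_two_dvd.mpr h)
  have hc : Commute (w ^ 2) (g⁻¹ * r * g) := by
    have e := hcom.eq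
    rw [← hg] at e
    show w ^ 2 * (g⁻¹ * r * g) = g⁻¹ * r * g * w ^ 2
    calc w ^ 2 * (g⁻¹ * r * g) = g⁻¹ * (g * w ^ 2 * g⁻¹ * r) * g := by group
      _ = g⁻¹ * (r * (g * w ^ 2 * g⁻¹)) * g := by rw [e]
      _ = g⁻¹ * r * g * w ^ 2 := by group
  rw [← value_mul_regular hM (exists_orderOf D (pow_mem D.memσ 2)) hnpc hχ hc hr',
    ← Blocks.irr_classFunction χ (w ^ 2 * (g⁻¹ * r * g)) g, ← hg]
  congr 1; group

/-- The multiplicity of the trivial character on the Sylow subgroup. -/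
theorem sylow_sum (χ : IrrCharacter G) :
    ∃ n : ℕ, (charDegree (χ : G → ℂ) : ℂ) + 5 * (χ : G → ℂ) (w ^ 2) + (χ : G → ℂ) (w ^ 1) +
      (χ : G → ℂ) (w ^ 3) = 8 * n := by
  classical
  obtain ⟨n, hn⟩ := exists_twisted_sum (P : Subgroup G).subtype 1 (Char.isCharacter_of_isIrr χ.2)
  refine ⟨n, ?_⟩
  let f : Fin 4 ⊕ Fin 4 → (P : Subgroup G) :=
    Sum.elim (fun i => ⟨w ^ (i : ℕ), pow_mem D.memσ _⟩) (fun i => ⟨w ^ (i : ℕ) * τ, refl_mem D _⟩)
  have hsurj : Function.Surjective f := by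
    rintro ⟨x, hx⟩
    obtain ⟨i, hi⟩ := D.cases x hx
    have hmod : w ^ i = w ^ (i % 4) := by rw [← pow_mod_orderOf, D.ordσ]
    rcases hi with rfl | rfl
    · exact ⟨Sum.inl ⟨i % 4, Nat.mod_lt _ (by norm_num)⟩, Subtype.ext hmod.symm⟩
    · exact ⟨Sum.inr ⟨i % 4, Nat.mod_lt _ (by norm_num)⟩, Subtype.ext (by
        show w ^ (i % 4) * τ = w ^ i * τ; rw [hmod])⟩
  have hcardP : Fintype.card (P : Subgroup G) = 8 := by rw [← Nat.card_eq_fintype_card, D.card]
  have hbij : Function.Bijective f :=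
    (Fintype.bijective_iff_surjective_and_card f).mpr ⟨hsurj, by rw [hcardP]; rfl⟩
  rw [← hbij.sum_comp, Fintype.sum_sum_type] at hn
  simp only [MonoidHom.one_apply, one_mul, f, Sum.elim_inl, Sum.elim_inr, Subgroup.coe_subtype,
    hcardP] at hn
  have href : ∀ i : Fin 4, (χ : G → ℂ) (w ^ (i : ℕ) * τ) = (χ : G → ℂ) (w ^ 2) := fun i =>
    (Blocks.IsClassFunction.eq_of_isConj (Blocks.irr_classFunction χ)
      (isConj_z D h1 h2 (orderOf_refl D i))).symm
  rw [Finset.sum_congr rfl fun i _ => href i, Finset.sum_const, Finset.card_univ, Fintype.card_fin,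
    Fin.sum_univ_four] at hn
  simp only [Fin.val_zero, Fin.val_one, Fin.val_two, pow_zero, (Blocks.irr_degree_eq χ).1] at hn
  rw [show ((3 : Fin 4) : ℕ) = 3 from rfl] at hn
  rw [nsmul_eq_mul] at hn
  push_cast at hn
  linear_combination hn

theorem congruence {χ : IrrCharacter G} {v₁ v₂ : ℤ} (e1 : (χ : G → ℂ) (w ^ 1) = v₁)
    (e3 : (χ : G → ℂ) (w ^ 3) = v₁) (e2 : (χ : G → ℂ) (w ^ 2) = v₂) :
    (8 : ℤ) ∣ (charDegree (χ : G → ℂ) : ℤ) + 5 * v₂ + 2 * v₁ := by
  obtain ⟨n, hn⟩ := sylow_sum D hC h1 h2 χ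
  rw [e1, e2, e3] at hn
  refine ⟨n, ?_⟩
  have : (((charDegree (χ : G → ℂ) : ℤ) + 5 * v₂ + 2 * v₁ : ℤ) : ℂ) = ((8 * n : ℤ) : ℂ) := by
    push_cast; linear_combination hn
  exact_mod_cast this

theorem invs_both : (invs w 2 τ).card = Nat.card (fix w (w * τ)) ∧
    (invs w 2 (w * τ)).card = Nat.card (fix w τ) :=
  ⟨invs_eq D hC, by rw [invs_eq (DihBlock.swap D) hC, fix_swap_swap D hC]⟩

/-- A member of the block with constant value on involution sections has degree at least eight. -/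
theorem degree_bound [IsSimpleGroup G] (hM : IsPModular 2 M) (ha : Nat.card (fix w τ) ≠ 1)
    {χ : IrrCharacter G} (hχ : χ ∈ principalBlock M G) (hne : χ ≠ Blocks.trivIrr G) :
    8 ≤ charDegree (χ : G → ℂ) := by
  haveI : Nontrivial (fix w τ) := Finite.one_lt_card_iff_nontrivial.mp (by
    have := Nat.card_pos (α := fix w τ); omega)
  obtain ⟨⟨r, hr⟩, hr1⟩ := exists_ne (1 : fix w τ)
  obtain ⟨hrO, hrτ⟩ := mem_fix.mp hr
  set V := (P : Subgroup G) ⊓ Subgroup.centralizer ({τ} : Set G) with hVdef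
  have hV : Nat.card V = 4 := by simpa [hVdef] using card_centralizer_refl D 0
  have hrz : Commute r (w ^ 2) := Subgroup.mem_centralizer_singleton_iff.mp (core_le hrO)
  have hVlist : ∀ v ∈ V, v = 1 ∨ v = w ^ 2 ∨ v = τ ∨ v = w ^ 2 * τ := fun v hv => by
    simpa using centralizer_refl D 0 v (by simpa [hVdef] using hv)
  have hcom : ∀ v ∈ V, Commute v r := by
    intro v hv
    rcases hVlist v hv with rfl | rfl | rfl | rfl
    exacts [Commute.one_left r, hrz.symm, (show Commute r _ from hrτ).symm,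
      hrz.symm.mul_left (show Commute r τ from hrτ).symm]
  have hodd : Odd (orderOf r) := Nat.not_even_iff_odd.mp fun h => core_regular hrO (even_iff_two_dvd.mp h)
  refine eight_le_degree hV hodd hcom (s := (χ : G → ℂ) (w ^ 2)) ?_ ?_ ?_
  · intro v hv hv1 i
    refine value_involution_mul D hC h1 h2 hM hχ ?_ ((hcom v hv).pow_right i)
      (hodd.of_dvd_nat (orderOf_pow_dvd i))
    rcases hVlist v hv with rfl | rfl | rfl | rfl
    exacts [absurd rfl hv1, orderOf_z D, orderOf_tau D, orderOf_refl D 2]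
  · intro i
    rw [← Char.value_inv_eq_conj (Char.isCharacter_of_isIrr χ.2), ← inverts D hC (pow_mem hrO i)]
    exact Blocks.irr_classFunction χ (r ^ i) w
  · exact fun e => hr1 (Subtype.ext (BrauerReynolds.faithful_of_simple hne e))

/-- The numbers attached to the principal block. -/
theorem block_numbers [IsSimpleGroup G] (hG : ¬ IsCyclic G) :
    ∃ x y z : ℤ, 1 + x + y + z = 0 ∧ x % 8 = 1 ∧ y % 8 = 3 ∧ z % 8 = 3 ∧ x ≠ 1 ∧
      (Nat.card G : ℚ) * ((x : ℚ) - 1) ^ 2 = 64 * Nat.card (fix w τ) * Nat.card (fix w (w * τ)) *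
        ((Nat.card (fix w τ) : ℚ) + Nat.card (fix w (w * τ))) ^ 2 * x * (x + 1) ∧
      (Nat.card G : ℚ) * (1 + 1 / (x : ℚ) + 1 / y + 1 / z) =
        256 * ((Nat.card (fix w τ) : ℚ) * Nat.card (fix w (w * τ))) ^ 2 ∧
      (Nat.card (fix w τ) ≠ 1 → 8 ≤ |x| ∧ 8 ≤ |y| ∧ 8 ≤ |z|) := by
  classical
  obtain ⟨M, hM⟩ := Blocks.exists_isPModular Nat.prime_two
  haveI := Blocks.isPrime_of_isPModular hM
  have hI4 : IsPrimitiveRoot Complex.I (2 * 2) := by
    simpa using Complex.isPrimitiveRoot_I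
  obtain ⟨R⟩ := exists_rotations D hM hI4
  set A := charDegree (R.a : G → ℂ) with hA
  set C := charDegree (R.c : G → ℂ) with hCd
  set E := charDegree (R.e : G → ℂ) with hEd
  have hpos : ∀ χ : IrrCharacter G, 0 < charDegree (χ : G → ℂ) := fun χ => (Blocks.irr_degree_eq χ).2
  have hA0 := hpos R.a
  have hC0 := hpos R.c
  have hE0 := hpos R.e
  have hrel := R.rel_ce 1 (by simp)
  simp only [(Blocks.irr_degree_eq _).1] at hrel
  have hrelZ : 1 + R.δ * A + R.δc * C + R.δe * E = 0 := by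
    have : ((1 + R.δ * A + R.δc * C + R.δe * E : ℤ) : ℂ) = ((0 : ℤ) : ℂ) := by
      push_cast; linear_combination hrel
    exact_mod_cast this
  -- congruences
  have va : ∀ l, 0 < l → l < 4 → (R.a : G → ℂ) (w ^ l) = R.δ := fun l hl hl4 => R.val_a l hl hl4
  have ca := congruence D hC h1 h2 (va 1 (by norm_num) (by norm_num)) (va 3 (by norm_num) (by norm_num))
    (va 2 (by norm_num) (by norm_num))
  have cc := congruence D hC h1 h2 (χ := R.c) (v₁ := R.δc) (v₂ := -R.δc)
    (by rw [R.val_c 1 (by norm_num) (by norm_num)]; norm_num)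
    (by rw [R.val_c 3 (by norm_num) (by norm_num)]; norm_num)
    (by rw [R.val_c 2 (by norm_num) (by norm_num)]; norm_num)
  have ce := congruence D hC h1 h2 (χ := R.e) (v₁ := R.δe) (v₂ := -R.δe)
    (by rw [R.val_e 1 (by norm_num) (by norm_num)]; norm_num)
    (by rw [R.val_e 3 (by norm_num) (by norm_num)]; norm_num)
    (by rw [R.val_e 2 (by norm_num) (by norm_num)]; norm_num)
  refine ⟨R.δ * A, R.δc * C, R.δe * E, hrelZ, ?_, ?_, ?_, ?_, ?_, ?_, ?_⟩
  · rcases R.signδ with h | h <;> rw [h] at ca ⊢ <;> omega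
  · rcases R.signc with h | h <;> rw [h] at cc ⊢ <;> omega
  · rcases R.signe with h | h <;> rw [h] at ce ⊢ <;> omega
  · intro h
    have h' : A = 1 := by rcases R.signδ with e | e <;> rw [e] at h <;> omega
    have := BrauerReynolds.one_lt_degree_of_simple (BrauerReynolds.not_comm_of_not_cyclic' hG) R.ne_a
    omega
  · -- the order formula
    obtain ⟨hE, hsum⟩ := sum_char D hM R hI4
    have key := congrArg (Nat.cast : ℕ → ℂ) (sum_invs_products D)
    rw [Nat.cast_add, pairs_character D hM h1 h2 (l := 2) (by norm_num) (by norm_num),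
      pairs_character D hM h1 h2 (l := 1) one_pos (by norm_num), ← mul_add, ← mul_add, hsum,
      (invs_both D hC h1 h2).1, (invs_both D hC h1 h2).2, (Blocks.irr_degree_eq R.a).1] at key
    rw [(Blocks.irr_degree_eq R.a).1] at hE
    set a := Nat.card (fix w τ)
    set b := Nat.card (fix w (w * τ))
    set I := (cz w 2).index
    have hCI : (I : ℚ) * (8 * ((a : ℚ) * b)) = Nat.card G := by
      have h := (cz w 2).card_mul_index
      rw [card_cz D, card_core D hC] at h
      rw [← h]; push_cast; ring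
    rw [card_core D hC] at key
    have hkeyQ : (I : ℚ) * I / Nat.card G * (((a * b : ℕ) : ℚ) *
        (2 + 2 * (R.δ : ℚ) / A - 8 / (1 + R.δ * A))) = 2 * ((b : ℚ) + a) ^ 2 := by
      apply Rat.cast_injective (α := ℂ)
      push_cast
      push_cast at key
      exact key
    have hx : ((R.δ * A : ℤ) : ℚ) ≠ 0 := by
      have : (R.δ : ℤ) ≠ 0 := by rcases R.signδ with h | h <;> omega
      exact_mod_cast mul_ne_zero this (by exact_mod_cast hA0.ne')
    have hE' : (1 : ℚ) + R.δ * A ≠ 0 := fun h => hE (by exact_mod_cast h)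
    have hAQ : (A : ℚ) ≠ 0 := by exact_mod_cast hA0.ne'
    have hg : (Nat.card G : ℚ) ≠ 0 := by exact_mod_cast Nat.card_pos.ne'
    have ha0 : (a : ℚ) ≠ 0 := Nat.cast_ne_zero.mpr Nat.card_pos.ne'
    have hb0 : (b : ℚ) ≠ 0 := Nat.cast_ne_zero.mpr Nat.card_pos.ne'
    rw [← hCI] at hkeyQ ⊢
    have hI0 : (I : ℚ) ≠ 0 := Nat.cast_ne_zero.mpr Subgroup.index_ne_zero_of_finite
    push_cast at hkeyQ ⊢
    field_simp at hkeyQ ⊢
    rcases R.signδ with e | e <;> rw [e] at hkeyQ hE' ⊢ <;> push_cast at hkeyQ ⊢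
    · linear_combination 4 * hkeyQ
    · linear_combination (-4) * hkeyQ
  · -- the pairs at the rotation
    have key := pairs_character D hM h1 h2 (l := 1) one_pos (by norm_num)
    have hterm : ∀ i : ℕ, (invs w 2 (w ^ i * τ)).card * (invs w 2 (w ^ i * τ * w ^ 1)).card =
        Nat.card (fix w τ) * Nat.card (fix w (w * τ)) := by
      intro i
      have e : w ^ i * τ * w ^ 1 = w ^ (i + 3) * τ := by
        rw [mul_assoc, tau_mul_pow D, show (w ^ 1)⁻¹ = w ^ 3 by
          rw [inv_eq_iff_mul_eq_one, ← pow_add, (pow_eq_one_iff D).mpr (by norm_num)], ← mul_assoc, ← pow_add]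
      rw [e, invs_parity D, invs_parity D, (invs_both D hC h1 h2).1, (invs_both D hC h1 h2).2]
      have : Even (i + 3) ↔ ¬ Even i := by simp [Nat.even_add, show ¬ Even 3 by decide]
      by_cases h : Even i <;> simp [h, this] <;> ring
    rw [Finset.sum_congr rfl fun i _ => hterm i, Finset.sum_const, Finset.card_range] at key
    have hchar : ∑ χ : IrrCharacter G with χ ∈ principalBlock M G,
        (χ : G → ℂ) (w ^ 2) * (χ : G → ℂ) (w ^ 2) * (χ : G → ℂ) (w ^ 1) / (χ : G → ℂ) 1 =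
        1 + R.δ / (A : ℂ) + R.δc / (C : ℂ) + R.δe / (E : ℂ) := by
      rw [← Finset.sum_subset (s₁ := ({Blocks.trivIrr G, R.a, R.c, R.e} : Finset (IrrCharacter G))) ?_ ?_]
      · rw [Finset.sum_insert (by simp [R.ne_a.symm, R.ne_c.symm, R.ne_e.symm]),
          Finset.sum_insert (by simp [R.ne_ca.symm, R.ne_ea.symm]), Finset.sum_pair R.ne_ce,
          R.val_a 2 (by norm_num) (by norm_num), R.val_a 1 (by norm_num) (by norm_num),
          R.val_c 2 (by norm_num) (by norm_num), R.val_c 1 (by norm_num) (by norm_num),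
          R.val_e 2 (by norm_num) (by norm_num), R.val_e 1 (by norm_num) (by norm_num)]
        simp only [show ∀ g : G, (Blocks.trivIrr G : G → ℂ) g = 1 from fun _ => rfl]
        simp only [(Blocks.irr_degree_eq _).1]
        rcases R.signδ with e | e <;> rcases R.signc with e' | e' <;> rcases R.signe with e'' | e'' <;>
          rw [e, e', e''] <;> push_cast <;> ring
      · intro χ hχ
        simp only [Finset.mem_insert, Finset.mem_singleton] at hχ
        refine Finset.mem_filter.mpr ⟨Finset.mem_univ _, ?_⟩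
        rcases hχ with rfl | rfl | rfl | rfl
        exacts [Blocks.mem_blockOf_self (Blocks.trivIrr G), R.mem_a, R.mem_c, R.mem_e]
      · intro χ hχ hnot
        simp only [Finset.mem_insert, Finset.mem_singleton, not_or] at hnot
        obtain h | h | h | h | ⟨j, hj, hj2, rfl⟩ := R.cases D hM (Finset.mem_filter.mp hχ).2
        · exact absurd h hnot.1
        · exact absurd h hnot.2.1
        · exact absurd h hnot.2.2.1
        · exact absurd h hnot.2.2.2
        · obtain rfl : j = 1 := by omega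
          rw [R.val_b 1 one_pos (by norm_num) 1 one_pos (by norm_num), one_mul, pow_one, Complex.inv_I,
            add_neg_cancel, mul_zero, mul_zero, zero_div]
    rw [hchar, card_core D hC] at key
    set a := Nat.card (fix w τ)
    set b := Nat.card (fix w (w * τ))
    set I := (cz w 2).index
    have hkeyQ : (((2 * 2) • (a * b) : ℕ) : ℚ) = (I : ℚ) * I / Nat.card G * (((a * b : ℕ) : ℚ) *
        (1 + (R.δ : ℚ) / A + (R.δc : ℚ) / C + (R.δe : ℚ) / E)) := by
      apply Rat.cast_injective (α := ℂ)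
      push_cast
      push_cast at key
      exact key
    have hCI : (I : ℚ) * (8 * ((a : ℚ) * b)) = Nat.card G := by
      have h := (cz w 2).card_mul_index
      rw [card_cz D, card_core D hC] at h
      rw [← h]; push_cast; ring
    have hinv : ∀ s : ℤ, (s = 1 ∨ s = -1) → ∀ n : ℕ, (1 : ℚ) / ((s * n : ℤ) : ℚ) = (s : ℚ) / n := by
      rintro s (rfl | rfl) n <;> push_cast <;> ring
    rw [hinv _ R.signδ, hinv _ R.signc, hinv _ R.signe]
    generalize 1 + (R.δ : ℚ) / A + (R.δc : ℚ) / C + (R.δe : ℚ) / E = S at hkeyQ ⊢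
    have ha0 : (a : ℚ) ≠ 0 := Nat.cast_ne_zero.mpr Nat.card_pos.ne'
    have hb0 : (b : ℚ) ≠ 0 := Nat.cast_ne_zero.mpr Nat.card_pos.ne'
    have hI0 : (I : ℚ) ≠ 0 := Nat.cast_ne_zero.mpr Subgroup.index_ne_zero_of_finite
    rw [← hCI] at hkeyQ ⊢
    push_cast [smul_eq_mul] at hkeyQ
    field_simp at hkeyQ
    linear_combination (-8 * (a : ℚ) * b) * hkeyQ
  · intro ha
    have hb : ∀ χ : IrrCharacter G, χ ∈ principalBlock M G → χ ≠ Blocks.trivIrr G → ∀ s : ℤ,
        (s = 1 ∨ s = -1) → 8 ≤ |s * (charDegree (χ : G → ℂ) : ℤ)| := by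
      intro χ hχ hne s hs
      have := degree_bound D hC h1 h2 hM ha hχ hne
      rcases hs with rfl | rfl <;> simp <;> omega
    exact ⟨hb _ R.mem_a R.ne_a _ R.signδ, hb _ R.mem_c R.ne_c _ R.signc, hb _ R.mem_e R.ne_e _ R.signe⟩

end CfsgLib.SmallCent
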