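import Cfsg.Agent.Lib.DihBlock.Count
import Mathlib.GroupTheory.FixedPointFree

/-!
# The odd core of an involution centralizer when a rotation of order four is self-centralizing
-/

set_option autoImplicit false
set_option linter.unusedSectionVars false
set_option linter.style.haveILetI false

namespace CfsgLib.SmallCent

open DihBlock

variable {G : Type*} [Group G] [Fintype G]

/-- The fixed points in the core. -/
noncomputable def fix (w u : G) : Subgroup G := core w 2 ⊓ Subgroup.centralizer ({u} : Set G)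

theorem mem_fix {w u x : G} : x ∈ fix w u ↔ x ∈ core w 2 ∧ x * u = u * x := by
  rw [fix, Subgroup.mem_inf, Subgroup.mem_centralizer_singleton_iff]

variable {P : Sylow 2 G} {w τ : G} (D : Data P w τ 2)
  (hC : Subgroup.centralizer ({w} : Set G) = Subgroup.zpowers w)
include D hC

theorem fpf {x : G} (hx : x ∈ core w 2) (h : x * w = w * x) : x = 1 := by
  refine eq_one_of_core D ?_ hx
  have : x ∈ Subgroup.zpowers w := hC ▸ Subgroup.mem_centralizer_singleton_iff.mpr h
  exact Subgroup.zpowers_le.mpr D.memσ this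

theorem inverts {x : G} (hx : x ∈ core w 2) : w * x * w⁻¹ = x⁻¹ := by
  have hwC : w ∈ cz w 2 := sylow_le_centralizer_z D D.memσ
  let φ : ↥(core w 2) →* ↥(core w 2) :=
    { toFun := fun y => ⟨w * y * w⁻¹, core_conj hwC y.2⟩
      map_one' := Subtype.ext (by simp)
      map_mul' := fun a b => Subtype.ext (by
        show w * ((a : G) * b) * w⁻¹ = w * a * w⁻¹ * (w * b * w⁻¹); group) }
  have hf : MonoidHom.FixedPointFree φ := fun y hy =>
    Subtype.ext (fpf D hC y.2 (mul_inv_eq_iff_eq_mul.mp (congrArg Subtype.val hy)).symm)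
  have hi : Function.Involutive φ := fun y => Subtype.ext (by
    show w * (w * (y : G) * w⁻¹) * w⁻¹ = y
    have h := Subgroup.mem_centralizer_singleton_iff.mp (core_le y.2)
    calc w * (w * (y : G) * w⁻¹) * w⁻¹ = w ^ 2 * (y : G) * (w ^ 2)⁻¹ := by rw [pow_two]; group
      _ = y := by rw [← h]; group)
  exact congrArg Subtype.val (congrFun (hf.coe_eq_inv_of_involutive hi) ⟨x, hx⟩)

theorem core_comm {x y : G} (hx : x ∈ core w 2) (hy : y ∈ core w 2) : x * y = y * x := by
  have h := inverts D hC (mul_mem hx hy)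
  rw [show w * (x * y) * w⁻¹ = w * x * w⁻¹ * (w * y * w⁻¹) by group, inverts D hC hx, inverts D hC hy,
    ← mul_inv_rev, inv_inj] at h
  exact h.symm

theorem tau_invol_apply (x : G) : τ * (τ * x * τ⁻¹) * τ⁻¹ = x := by
  have hi : τ⁻¹ = τ := inv_eq_of_mul_eq_one_left D.sqτ
  rw [hi, ← mul_assoc, ← mul_assoc, D.sqτ, one_mul, mul_assoc, D.sqτ, mul_one]

theorem fix_swap_eq {x : G} : x ∈ fix w (w * τ) ↔ x ∈ core w 2 ∧ τ * x * τ⁻¹ = x⁻¹ := by
  have hτC : τ ∈ cz w 2 := sylow_le_centralizer_z D D.memτ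
  rw [mem_fix]
  refine and_congr_right fun hx => ?_
  have hτx := core_conj hτC hx
  have e := inverts D hC hτx
  constructor
  · intro h
    have h1 : w * (τ * x * τ⁻¹) * w⁻¹ = x := by
      calc w * (τ * x * τ⁻¹) * w⁻¹ = w * τ * x * (w * τ)⁻¹ := by group
        _ = x := by rw [← h]; group
    rw [e] at h1
    exact inv_eq_iff_eq_inv.mp h1
  · intro h
    calc x * (w * τ) = w * (τ * x * τ⁻¹) * w⁻¹ * (w * τ) := by rw [e, h, inv_inv]
      _ = w * τ * x := by group

theorem card_core : Nat.card (core w 2) = Nat.card (fix w τ) * Nat.card (fix w (w * τ)) := by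
  classical
  have hτC : τ ∈ cz w 2 := sylow_le_centralizer_z D D.memτ
  let f : fix w τ × fix w (w * τ) → core w 2 := fun v =>
    ⟨(v.1 : G) * v.2, mul_mem (mem_fix.mp v.1.2).1 (mem_fix.mp v.2.2).1⟩
  have hf : Function.Bijective f := by
    refine ⟨fun v v' e => ?_, fun x => ?_⟩
    · have e' : (v.1 : G) * v.2 = v'.1 * v'.2 := congrArg Subtype.val e
      have hd : ((v'.1 : G))⁻¹ * v.1 = (v'.2 : G) * (v.2 : G)⁻¹ := by
        rw [eq_mul_inv_iff_mul_eq, mul_assoc, e', inv_mul_cancel_left]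
      have h1 : ((v'.1 : G))⁻¹ * v.1 ∈ fix w τ := mul_mem (inv_mem v'.1.2) v.1.2
      have h2 : ((v'.1 : G))⁻¹ * v.1 ∈ fix w (w * τ) := hd ▸ mul_mem v'.2.2 (inv_mem v.2.2)
      obtain ⟨hO, hτfix⟩ := mem_fix.mp h1
      have h12 : ((v'.1 : G))⁻¹ * v.1 = 1 := by
        refine fpf D hC hO ?_
        have hwτ := (mem_fix.mp h2).2
        rw [← mul_assoc, mul_assoc w τ, ← hτfix, ← mul_assoc] at hwτ
        exact mul_right_cancel hwτ
      have he1 : (v.1 : G) = v'.1 := (inv_mul_eq_one.mp h12).symm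
      rw [he1] at e'
      exact Prod.ext (Subtype.ext he1) (Subtype.ext (mul_left_cancel e'))
    · obtain ⟨x, hx⟩ := x
      set N := Nat.card (core w 2) with hN
      have hodd : Odd N := Nat.coprime_two_right.mp core_coprime
      obtain ⟨j, hj⟩ := hodd
      set y := x ^ (j + 1) with hy
      have hyO : y ∈ core w 2 := pow_mem hx _
      have hyy : y * y = x := by
        have h1 : x ^ N = 1 := by
          exact orderOf_dvd_iff_pow_eq_one.mp (Subgroup.orderOf_dvd_natCard _ hx)
        rw [hy, ← pow_add, show j + 1 + (j + 1) = N + 1 by omega, pow_succ, h1, one_mul]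
      set z := τ * y * τ⁻¹ with hz
      have hzO : z ∈ core w 2 := core_conj hτC hyO
      have hzy := core_comm D hC hzO hyO
      have hτz : τ * z * τ⁻¹ = y := tau_invol_apply D hC y
      refine ⟨(⟨y * z, ?_⟩, ⟨y * z⁻¹, ?_⟩), Subtype.ext ?_⟩
      · refine mem_fix.mpr ⟨mul_mem hyO hzO, ?_⟩
        calc y * z * τ = z * y * τ := by rw [hzy]
          _ = τ * y * τ⁻¹ * (τ * z * τ⁻¹) * τ := by rw [hτz, hz]
          _ = τ * (y * z) := by group
      · refine (fix_swap_eq D hC).mpr ⟨mul_mem hyO (inv_mem hzO), ?_⟩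
        calc τ * (y * z⁻¹) * τ⁻¹ = (τ * y * τ⁻¹) * (τ * z * τ⁻¹)⁻¹ := by group
          _ = z * y⁻¹ := by rw [hτz]
          _ = (y * z⁻¹)⁻¹ := by group
      · show y * z * (y * z⁻¹) = x
        rw [mul_assoc, ← mul_assoc z, hzy, mul_assoc, mul_inv_cancel, mul_one, hyy]
  rw [← Nat.card_congr (Equiv.ofBijective f hf), Nat.card_prod]

theorem fix_swap_swap : fix w (w * (w * τ)) = fix w τ := by
  ext x
  rw [mem_fix, mem_fix]
  refine and_congr_right fun hx => ?_
  have h := Subgroup.mem_centralizer_singleton_iff.mp (core_le hx)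
  rw [← mul_assoc w w τ, ← pow_two, ← mul_assoc, h, mul_assoc, mul_assoc, mul_right_inj]

theorem card_pair : Nat.card ↥(cz w 2 ⊓ Subgroup.centralizer ({τ} : Set G)) = 4 * Nat.card (fix w τ) := by
  classical
  have hτC : τ ∈ cz w 2 := sylow_le_centralizer_z D D.memτ
  let f : fix w τ × ↥((P : Subgroup G) ⊓ Subgroup.centralizer ({τ} : Set G)) →
      ↥(cz w 2 ⊓ Subgroup.centralizer ({τ} : Set G)) := fun v => ⟨(v.1 : G) * v.2,
    mul_mem (core_le v.1.2.1) (sylow_le_centralizer_z D v.2.2.1), mul_mem v.1.2.2 v.2.2.2⟩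
  have hf : Function.Bijective f := by
    refine ⟨fun v v' e => ?_, fun x => ?_⟩
    · obtain ⟨h1, h2⟩ := fact_unique D v.1.2.1 v'.1.2.1 v.2.2.1 v'.2.2.1 (congrArg Subtype.val e)
      exact Prod.ext (Subtype.ext h1) (Subtype.ext h2)
    · obtain ⟨o, ho, q, hq, e⟩ := fact_cz D x.2.1
      have hxτ := Subgroup.mem_centralizer_singleton_iff.mp x.2.2
      have e' : o * (q * τ) = τ * o * τ⁻¹ * (τ * q) := by
        rw [← mul_assoc o, ← e, hxτ, e]; group
      obtain ⟨h1, h2⟩ := fact_unique D ho (core_conj hτC ho) (mul_mem hq D.memτ) (mul_mem D.memτ hq) e'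
      exact ⟨(⟨o, mem_fix.mpr ⟨ho, eq_mul_inv_iff_mul_eq.mp h1⟩⟩,
        ⟨q, hq, Subgroup.mem_centralizer_singleton_iff.mpr h2⟩), Subtype.ext e.symm⟩
  have h4 := card_centralizer_refl D 0
  rw [pow_zero, one_mul] at h4
  rw [← Nat.card_congr (Equiv.ofBijective f hf), Nat.card_prod, h4, mul_comm]

theorem invs_eq : (invs w 2 τ).card = Nat.card (fix w (w * τ)) := by
  have h := invs_card D D.memτ
  rw [card_pair D hC, card_core D hC] at h
  exact Nat.eq_of_mul_eq_mul_right (show 0 < 4 * Nat.card (fix w τ) by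
    have := Nat.card_pos (α := fix w τ); omega) (h.trans (by ring))

theorem odd_fix (u : G) : Odd (Nat.card (fix w u)) :=
  (Nat.coprime_two_right.mp core_coprime).of_dvd_nat (Subgroup.card_dvd_of_le inf_le_left)

end CfsgLib.SmallCent
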