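import Cfsg.Agent.Lib.SmallCent.OrderSeven
import Cfsg.Agent.Lib.EightSylow.Automizer

/-!
# Simple groups of order 2520: the Sylow 2-subgroup is not elementary abelian
-/

set_option autoImplicit false
set_option linter.unusedSectionVars false
set_option linter.style.haveILetI false

namespace CfsgLib.SmallCent

open Cfsg
open scoped Pointwise

variable {G : Type*} [Group G] [Finite G] [IsSimpleGroup G]

theorem card_sylow_two_eq_eight (hg : Nat.card G = 2520) (S : Sylow 2 G) :
    Nat.card (S : Subgroup G) = 8 := by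
  haveI := Fact.mk Nat.prime_two
  obtain ⟨n, hn⟩ := IsPGroup.iff_card.mp S.2
  have h1 := (S : Subgroup G).card_mul_index
  have h2 := S.not_dvd_index
  rw [hn, hg] at h1
  rcases Nat.lt_trichotomy n 3 with h | h | h
  · exfalso
    obtain ⟨d, hd⟩ := pow_dvd_pow 2 (show n ≤ 2 by omega)
    have h4 : 4 * (S : Subgroup G).index = 2520 * d := by
      rw [show (4 : ℕ) = 2 ^ 2 by norm_num, hd, mul_right_comm, h1]
    omega
  · rw [hn, h]; norm_num
  · exfalso
    have : 2 ^ 4 ∣ 2520 := (pow_dvd_pow 2 (show 4 ≤ n by omega)).trans (Dvd.intro _ h1)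
    norm_num at this

/-- Orbits of a fixed size. -/
theorem dvd_card_of_orbits {H X : Type*} [Group H] [MulAction H X] [Finite X] {k : ℕ}
    (h : ∀ x : X, (MulAction.orbit H x).ncard = k) : k ∣ Nat.card X := by
  classical
  letI := Fintype.ofFinite (MulAction.orbitRel.Quotient H X)
  rw [Nat.card_congr (MulAction.selfEquivSigmaOrbits H X), Nat.card_sigma]
  exact Finset.dvd_sum fun ω _ => by rw [Nat.card_coe_set_eq, h]

variable (hg : Nat.card G = 2520) (hG : ¬ IsMulCommutative G)
include hg hG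

/-- An element of order prime to 7 commutes with no element of order 7. -/
theorem no_seven {t : G} {r : ℕ} (hr : r.Prime) (hr7 : r ≠ 7) (ht : orderOf t = r)
    (h : 7 ∣ Nat.card (Subgroup.centralizer ({t} : Set G))) : False := by
  haveI : Fact (Nat.Prime 7) := ⟨by norm_num⟩
  obtain ⟨a, ha⟩ := exists_prime_orderOf_dvd_card' 7 h
  rw [← Subgroup.orderOf_coe] at ha
  obtain ⟨P, hP⟩ := (IsPGroup.of_card (p := 7) (G := Subgroup.zpowers (a : G)) (n := 1)
    (by rw [Nat.card_zpowers, ha, pow_one])).exists_le_sylow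
  obtain ⟨-, hC⟩ := seven_orders hg hG P
  have hPc : Nat.card (P : Subgroup G) ≤ 7 := by
    obtain ⟨n, hn⟩ := IsPGroup.iff_card.mp P.2
    have h2 := (P : Subgroup G).card_subgroup_dvd_card
    rw [hg, hn] at h2
    rw [hn]
    rcases Nat.lt_or_ge n 2 with hn2 | hn2
    · exact (Nat.pow_le_pow_right (by norm_num) (show n ≤ 1 by omega)).trans (by norm_num)
    · exfalso
      have : 7 ^ 2 ∣ 2520 := (pow_dvd_pow 7 hn2).trans h2
      norm_num at this
  have hPeq : Subgroup.zpowers (a : G) = (P : Subgroup G) :=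
    Subgroup.eq_of_le_of_card_ge hP (by rw [Nat.card_zpowers, ha]; exact hPc)
  have htC : t ∈ Subgroup.centralizer ((P : Subgroup G) : Set G) := by
    rw [Subgroup.mem_centralizer_iff]
    intro x hx
    rw [← hPeq] at hx
    obtain ⟨i, rfl⟩ := Subgroup.mem_zpowers_iff.mp hx
    exact ((show Commute (a : G) t from Subgroup.mem_centralizer_singleton_iff.mp a.2).zpow_left i).eq
  have := Subgroup.orderOf_dvd_natCard _ htC
  rw [ht, hC] at this
  exact hr7 ((Nat.prime_dvd_prime_iff_eq hr (by norm_num)).mp this)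

/-- The Sylow 2-subgroup is not elementary abelian. -/
theorem not_elementary (S : Sylow 2 G) (hE : IsElementaryAbelian 2 (S : Subgroup G)) : False := by
  classical
  haveI := Fact.mk Nat.prime_two
  haveI h7 : Fact (Nat.Prime 7) := ⟨by norm_num⟩
  haveI h5 : Fact (Nat.Prime 5) := ⟨by norm_num⟩
  letI := Fintype.ofFinite G
  letI := Fintype.ofFinite (Sylow 2 G)
  have hS8 := card_sylow_two_eq_eight hg S
  set N := Subgroup.normalizer ((S : Subgroup G) : Set G) with hN
  have hcomm : ∀ T : Sylow 2 G, ∀ x ∈ (T : Subgroup G), ∀ y ∈ (T : Subgroup G), x * y = y * x := by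
    intro T x hx y hy
    obtain ⟨g, hg'⟩ := MulAction.exists_smul_eq G T S
    have hmem : ∀ z ∈ (T : Subgroup G), g * z * g⁻¹ ∈ (S : Subgroup G) := fun z hz => by
      rw [← hg']; exact Subgroup.smul_mem_pointwise_smul _ (MulAut.conj g) _ hz
    have e := congrArg Subtype.val (hE.1.is_comm.comm (⟨_, hmem x hx⟩ : (S : Subgroup G)) ⟨_, hmem y hy⟩)
    have e' : g * (x * y) * g⁻¹ = g * (y * x) * g⁻¹ := by simpa [mul_assoc] using e
    exact mul_left_cancel (mul_right_cancel e')
  -- an element of order seven normalizes `S` and moves every involution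
  have hA7 : 7 ∣ Nat.card (EightSylow.act S).range := by
    rcases EightSylow.automizer_cases hG S hE hS8 with h | ⟨h, -⟩ <;> rw [h] <;> norm_num
  have hN7 : 7 ∣ Nat.card N := hA7.trans (Subgroup.card_range_dvd (EightSylow.act S))
  obtain ⟨a, ha⟩ := exists_prime_orderOf_dvd_card' 7 hN7
  rw [← Subgroup.orderOf_coe] at ha
  have haN : (a : G) ∈ N := a.2
  set A := Subgroup.zpowers (a : G) with hAdef
  have hAp : IsPGroup 7 A := IsPGroup.of_card (n := 1) (by rw [Nat.card_zpowers, ha, pow_one])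
  have hAN : A ≤ N := Subgroup.zpowers_le.mpr haN
  have hinv : ∀ s ∈ (S : Subgroup G), s ≠ 1 → orderOf s = 2 := fun s hs hs1 =>
    orderOf_eq_prime (hE.2 s hs) hs1
  have hfix : ∀ s ∈ (S : Subgroup G), (a : G) * s = s * a → s = 1 := by
    intro s hs hcom
    by_contra hs1
    refine no_seven hg hG Nat.prime_two (by norm_num) (hinv s hs hs1) ?_
    rw [← ha]
    exact Subgroup.orderOf_dvd_natCard _ (Subgroup.mem_centralizer_singleton_iff.mpr hcom)
  have htrans : ∀ s ∈ (S : Subgroup G), ∀ u ∈ (S : Subgroup G), s ≠ 1 → u ≠ 1 →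
      ∃ g ∈ N, g * s * g⁻¹ = u := by
    intro s hs u hu hs1 hu1
    obtain ⟨b, ⟨g, rfl⟩, hgb⟩ := EightSylow.transitive_of_seven hS8 _ hA7
      (u := (⟨s, hs⟩ : (S : Subgroup G))) (v := ⟨u, hu⟩)
      (fun e => hs1 (congrArg Subtype.val e)) (fun e => hu1 (congrArg Subtype.val e))
    exact ⟨g.1, g.2, congrArg Subtype.val hgb⟩
  -- the centralizer of `S`
  set C := Subgroup.centralizer ((S : Subgroup G) : Set G) with hC
  have hSC : (S : Subgroup G) ≤ C := fun x hx y hy => hcomm S y hy x hx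
  have hCN : C ≤ N := Subgroup.centralizer_le_normalizer _
  obtain ⟨s₀, hs₀, hs₀1⟩ : ∃ s ∈ (S : Subgroup G), s ≠ 1 := by
    haveI : Nontrivial (S : Subgroup G) := Finite.one_lt_card_iff_nontrivial.mp (by rw [hS8]; norm_num)
    obtain ⟨⟨s, hs⟩, h⟩ := exists_ne (1 : (S : Subgroup G))
    exact ⟨s, hs, fun e => h (Subtype.ext e)⟩
  have hC7 : ¬ 7 ∣ Nat.card C := fun h => no_seven hg hG Nat.prime_two (by norm_num) (hinv s₀ hs₀ hs₀1)
    (h.trans (Subgroup.card_dvd_of_le fun x hx =>
      Subgroup.mem_centralizer_singleton_iff.mpr (Subgroup.mem_centralizer_iff.mp hx s₀ hs₀).symm))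
  have hCnorm : ∀ g ∈ N, ∀ x ∈ C, g * x * g⁻¹ ∈ C := by
    intro g hg x hx
    rw [hC, Subgroup.mem_centralizer_iff]
    intro y hy
    have hy' : g⁻¹ * y * g ∈ (S : Subgroup G) := by
      have := (Subgroup.mem_normalizer_iff.mp (inv_mem hg) y).mp hy
      simpa using this
    calc y * (g * x * g⁻¹) = g * (g⁻¹ * y * g * x) * g⁻¹ := by group
      _ = g * x * g⁻¹ * y := by rw [Subgroup.mem_centralizer_iff.mp hx _ hy']; group
  have hCmod : Nat.card C % 7 = 1 := by
    letI : MulAction A C :=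
      { smul := fun g x => ⟨(g : G) * x * (g : G)⁻¹, hCnorm _ (hAN g.2) x x.2⟩
        one_smul := fun x => Subtype.ext (by show (1 : G) * x * (1 : G)⁻¹ = x; group)
        mul_smul := fun g h x => Subtype.ext (by
          show (g : G) * h * x * ((g : G) * h)⁻¹ = g * (h * x * (h : G)⁻¹) * (g : G)⁻¹; group) }
    have h := hAp.card_modEq_card_fixedPoints C
    suffices h1 : Nat.card (MulAction.fixedPoints A C) = 1 by rw [h1] at h; exact h
    refine Nat.card_eq_one_iff_exists.mpr ⟨⟨1, fun g => Subtype.ext (by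
      show (g : G) * 1 * (g : G)⁻¹ = 1; group)⟩, fun x => Subtype.ext (Subtype.ext ?_)⟩
    by_contra hx1
    have hx1' : ((x : C) : G) ≠ 1 := hx1
    obtain ⟨r, hr, hrd⟩ := Nat.exists_prime_and_dvd (fun h => hx1' (orderOf_eq_one_iff.mp h))
    have hr7 : r ≠ 7 := fun e => hC7 ((e ▸ hrd).trans (Subgroup.orderOf_dvd_natCard C (x : C).2))
    refine no_seven hg hG hr hr7 (orderOf_pow_orderOf_div (orderOf_pos ((x : C) : G)).ne' hrd) ?_
    rw [← ha]
    refine Subgroup.orderOf_dvd_natCard _ (Subgroup.mem_centralizer_singleton_iff.mpr ?_)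
    have e : (a : G) * ((x : C) : G) * (a : G)⁻¹ = ((x : C) : G) :=
      congrArg Subtype.val (x.2 ⟨a, Subgroup.mem_zpowers _⟩)
    exact ((show Commute (a : G) ((x : C) : G) from mul_inv_eq_iff_eq_mul.mp e).pow_right _).eq
  have hC5 : ¬ 5 ∣ Nat.card C := by
    intro h
    set K := C.subgroupOf N with hK
    haveI hKn : K.Normal := ⟨fun x hx g => hCnorm g.1 g.2 x.1 hx⟩
    have hKc : Nat.card K = Nat.card C := Nat.card_congr (Subgroup.subgroupOfEquivOfLe hCN).toEquiv
    obtain ⟨Q⟩ : Nonempty (Sylow 5 K) := inferInstance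
    set M := Subgroup.normalizer (((Q : Subgroup K).map K.subtype : Subgroup N) : Set N) with hM
    have hsup : M ⊔ K = ⊤ := Sylow.normalizer_sup_eq_top Q
    have hidx : K.index ∣ Nat.card M := by
      rw [← Subgroup.relIndex_top_right K, ← hsup, Subgroup.relIndex_sup_right]
      exact Subgroup.index_dvd_card _
    have hM7 : 7 ∣ Nat.card M := by
      have h1 := K.card_mul_index
      rw [hKc] at h1
      rcases (Nat.Prime.dvd_mul h7.out).mp (h1 ▸ hN7) with h2 | h2
      · exact absurd h2 hC7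
      · exact h2.trans hidx
    obtain ⟨b, hb⟩ := exists_prime_orderOf_dvd_card' 7 hM7
    set R := (Q : Subgroup K).map K.subtype with hR
    have hQc : Nat.card R = 5 := by
      rw [hR, Subgroup.card_map_of_injective K.subtype_injective]
      obtain ⟨n, hn⟩ := IsPGroup.iff_card.mp Q.2
      have h1 := Q.dvd_card_of_dvd_card (hKc ▸ h)
      have h2 := ((Q : Subgroup K).card_subgroup_dvd_card).trans (hKc ▸ C.card_subgroup_dvd_card)
      rw [hg, hn] at h2
      rcases n with _ | _ | n
      · rw [hn] at h1; norm_num at h1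
      · simpa using hn
      · exfalso
        have : 5 ^ 2 ∣ 2520 := (pow_dvd_pow 5 (show 2 ≤ n + 2 by omega)).trans h2
        norm_num at this
    haveI : IsCyclic R := isCyclic_of_prime_card hQc
    have himg : R.normalizerMonoidHom b = 1 := by
      have h1 : orderOf (R.normalizerMonoidHom b) ∣ 7 := hb ▸ orderOf_map_dvd _ b
      have h2 : orderOf (R.normalizerMonoidHom b) ∣ 4 := by
        refine (orderOf_dvd_natCard _).trans ?_
        rw [IsCyclic.card_mulAut, hQc, Nat.totient_prime h5.out]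
      exact orderOf_eq_one_iff.mp (Nat.eq_one_of_dvd_coprimes (by norm_num) h1 h2)
    haveI : Nontrivial R := Finite.one_lt_card_iff_nontrivial.mp (by rw [hQc]; norm_num)
    obtain ⟨q, hq⟩ := exists_ne (1 : R)
    have hqo : orderOf (((q : R) : N) : G) = 5 := by
      rw [Subgroup.orderOf_coe, Subgroup.orderOf_coe]
      exact orderOf_eq_prime (by rw [← hQc, pow_card_eq_one']) hq
    refine no_seven hg hG (r := 5) h5.out (by norm_num) hqo ?_
    have hbo : orderOf (((b : M) : N) : G) = 7 := by rw [Subgroup.orderOf_coe, Subgroup.orderOf_coe, hb]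
    rw [← hbo]
    refine Subgroup.orderOf_dvd_natCard _ (Subgroup.mem_centralizer_singleton_iff.mpr ?_)
    have e := congrArg (fun z : R => ((z : N) : G)) (DFunLike.congr_fun himg q)
    exact mul_inv_eq_iff_eq_mul.mp e
  have hC8 : Nat.card C = 8 := by
    have h1 : 8 ∣ Nat.card C := hS8 ▸ Subgroup.card_dvd_of_le hSC
    have h2 : Nat.card C ∣ 2520 := hg ▸ C.card_subgroup_dvd_card
    have : ∀ d ∈ Nat.divisors 315, 8 * d % 7 = 1 → ¬ 5 ∣ 8 * d → d = 1 := by decide +kernel
    obtain ⟨d, hd⟩ := h1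
    rw [hd] at h2 hCmod hC5 ⊢
    rw [this d (Nat.mem_divisors.mpr ⟨Nat.dvd_of_mul_dvd_mul_left (by norm_num : 0 < 8)
      (show 8 * d ∣ 8 * 315 from h2), by norm_num⟩) hCmod hC5]
  -- the number of Sylow subgroups
  have hNc : Nat.card N = 56 ∨ Nat.card N = 168 := by
    have h3 : Nat.card N = Nat.card C * Nat.card (EightSylow.act S).range := by
      rw [← Subgroup.index_ker, EightSylow.act_ker]
      rw [← Nat.card_congr (Subgroup.subgroupOfEquivOfLe hCN).toEquiv]
      exact (C.subgroupOf N).card_mul_index.symm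
    rcases EightSylow.automizer_cases hG S hE hS8 with h | ⟨h, -⟩ <;> rw [h3, hC8, h] <;> norm_num
  set n := Nat.card (Sylow 2 G) with hn
  have hn' : n = 45 ∨ n = 15 := by
    have h1 := N.card_mul_index
    rw [hg, ← (show Nat.card (Sylow 2 G) = N.index from Sylow.card_eq_index_normalizer S), ← hn] at h1
    rcases hNc with h | h <;> rw [h] at h1 <;> omega
  -- the intersections
  let Xk : ℕ → Type _ := fun k => {T : Sylow 2 G // T ≠ S ∧ Nat.card ((S : Subgroup G) ⊓ T : Subgroup G) = k}
  have hstable : ∀ g : G, g ∈ N → ∀ k, ∀ T : Sylow 2 G, T ≠ S → Nat.card ((S : Subgroup G) ⊓ T : Subgroup G) = k →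
      g • T ≠ S ∧ Nat.card ((S : Subgroup G) ⊓ (g • T : Sylow 2 G) : Subgroup G) = k := by
    intro g hgN k T hT hk
    have hgS : g • S = S := Sylow.smul_eq_iff_mem_normalizer.mpr hgN
    refine ⟨fun e => hT ((smul_left_cancel_iff g).mp (e.trans hgS.symm)), ?_⟩
    have hgS' : (MulAut.conj g • (S : Subgroup G) : Subgroup G) = (S : Subgroup G) :=
      congrArg (fun Q : Sylow 2 G => (Q : Subgroup G)) hgS
    rw [show ((g • T : Sylow 2 G) : Subgroup G) = MulAut.conj g • (T : Subgroup G) from rfl, ← hgS',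
      ← Subgroup.smul_inf, ← hk]
    exact (Nat.card_congr (Subgroup.equivSMul (MulAut.conj g) _).toEquiv).symm
  have hinf : ∀ T : Sylow 2 G, ∀ x ∈ (S : Subgroup G), x • T = T → x ∈ (T : Subgroup G) := by
    intro T x hx hfx
    have hle : Subgroup.zpowers x ≤ Subgroup.normalizer (T : Set G) :=
      Subgroup.zpowers_le.mpr (Sylow.smul_eq_iff_mem_normalizer.mp hfx)
    have hp : IsPGroup 2 (Subgroup.zpowers x) := S.2.to_le (Subgroup.zpowers_le.mpr hx)
    exact ((le_inf le_rfl hle).trans ((hp.inf_normalizer_sylow T).le.trans inf_le_right))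
      (Subgroup.mem_zpowers x)
  have hdiv : ∀ k j : ℕ, k * j = 8 → j ∣ Nat.card (Xk k) := by
    intro k j hkj
    letI : MulAction (S : Subgroup G) (Xk k) :=
      { smul := fun g T => ⟨(g : G) • T.1, hstable g (Subgroup.le_normalizer g.2) k T.1 T.2.1 T.2.2⟩
        one_smul := fun T => Subtype.ext (one_smul G T.1)
        mul_smul := fun g h T => Subtype.ext (mul_smul (g : G) h T.1) }
    refine dvd_card_of_orbits (H := (S : Subgroup G)) fun T => ?_
    rw [← MulAction.index_stabilizer]
    have hst : MulAction.stabilizer (S : Subgroup G) T =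
        ((S : Subgroup G) ⊓ (T.1 : Subgroup G)).subgroupOf (S : Subgroup G) := by
      ext x
      rw [MulAction.mem_stabilizer_iff, Subgroup.mem_subgroupOf]
      refine ⟨fun h => ⟨x.2, hinf T.1 x x.2 (congrArg Subtype.val h)⟩, fun h => Subtype.ext ?_⟩
      exact Sylow.smul_eq_iff_mem_normalizer.mpr (Subgroup.le_normalizer h.2)
    rw [hst]
    have h1 := (((S : Subgroup G) ⊓ (T.1 : Subgroup G)).subgroupOf (S : Subgroup G)).card_mul_index
    rw [Nat.card_congr (Subgroup.subgroupOfEquivOfLe inf_le_left).toEquiv, T.2.2, hS8] at h1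
    exact Nat.eq_of_mul_eq_mul_left (show 0 < k by rcases k with _ | k <;> omega) (h1.trans hkj.symm)
  have hseven : ∀ k : ℕ, k ≠ 1 → k ≠ 8 → 7 ∣ Nat.card (Xk k) := by
    intro k hk1 hk8
    letI : MulAction A (Xk k) :=
      { smul := fun g T => ⟨(g : G) • T.1, hstable g (hAN g.2) k T.1 T.2.1 T.2.2⟩
        one_smul := fun T => Subtype.ext (one_smul G T.1)
        mul_smul := fun g h T => Subtype.ext (mul_smul (g : G) h T.1) }
    haveI : IsEmpty (MulAction.fixedPoints A (Xk k)) := by
      refine ⟨fun ⟨T, hT⟩ => ?_⟩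
      set I := (S : Subgroup G) ⊓ (T.1 : Subgroup G) with hI
      have hIinv : ∀ g : A, ∀ x ∈ I, (g : G) * x * (g : G)⁻¹ ∈ I := by
        intro g x hx
        have hgT : (g : G) • T.1 = T.1 := congrArg Subtype.val (hT g)
        exact ⟨(Subgroup.mem_normalizer_iff.mp (hAN g.2) x).mp hx.1, by
          show (g : G) * x * (g : G)⁻¹ ∈ (T.1 : Subgroup G)
          exact (Subgroup.mem_normalizer_iff.mp (Sylow.smul_eq_iff_mem_normalizer.mp hgT) x).mp hx.2⟩
      letI : MulAction A I :=
        { smul := fun g x => ⟨(g : G) * x * (g : G)⁻¹, hIinv g x x.2⟩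
          one_smul := fun x => Subtype.ext (by show (1 : G) * x * (1 : G)⁻¹ = x; group)
          mul_smul := fun g h x => Subtype.ext (by
            show (g : G) * h * x * ((g : G) * h)⁻¹ = g * (h * x * (h : G)⁻¹) * (g : G)⁻¹; group) }
      have h := hAp.card_modEq_card_fixedPoints I
      have h1 : Nat.card (MulAction.fixedPoints A I) = 1 := by
        refine Nat.card_eq_one_iff_exists.mpr ⟨⟨1, fun g => Subtype.ext (by
          show (g : G) * 1 * (g : G)⁻¹ = 1; group)⟩, fun x => Subtype.ext (Subtype.ext ?_)⟩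
        exact hfix _ (x : I).2.1 (mul_inv_eq_iff_eq_mul.mp
          (congrArg Subtype.val (x.2 ⟨a, Subgroup.mem_zpowers _⟩)))
      have hle := Subgroup.card_dvd_of_le (show I ≤ (S : Subgroup G) from inf_le_left)
      have h' : Nat.card I % 7 = 1 := by rw [h1] at h; exact h
      rw [T.2.2, hS8] at hle
      rw [T.2.2] at h'
      have : ∀ d ∈ Nat.divisors 8, d % 7 = 1 → d = 1 ∨ d = 8 := by decide +kernel
      rcases this k (Nat.mem_divisors.mpr ⟨hle, by norm_num⟩) h' with e | e
      · exact hk1 e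
      · exact hk8 e
    have h := hAp.card_modEq_card_fixedPoints (Xk k)
    rw [Nat.card_of_isEmpty (α := MulAction.fixedPoints A (Xk k))] at h
    exact Nat.modEq_zero_iff_dvd.mp h
  set I : Sylow 2 G → ℕ := fun T => Nat.card ((S : Subgroup G) ⊓ T : Subgroup G) with hIdef
  set X : Finset (Sylow 2 G) := Finset.univ.erase S with hX
  have hXk : ∀ k, (X.filter fun T => I T = k).card = Nat.card (Xk k) := by
    intro k
    rw [Nat.card_eq_fintype_card, Fintype.card_subtype]
    congr 1
    ext T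
    simp [hX, I, and_comm]
  have hcasesI : ∀ T ∈ X, I T = 1 ∨ I T = 2 ∨ I T = 4 := by
    intro T hT
    have hne : T ≠ S := (Finset.mem_erase.mp hT).1
    have hd : I T ∣ 8 := hS8 ▸ Subgroup.card_dvd_of_le inf_le_left
    have h8 : I T ≠ 8 := fun e => hne (Sylow.ext (S.is_maximal' T.2 (inf_eq_left.mp
      (Subgroup.eq_of_le_of_card_ge inf_le_left (by rw [hS8]; exact e.ge)))))
    have : ∀ d ∈ Nat.divisors 8, d ≠ 8 → d = 1 ∨ d = 2 ∨ d = 4 := by decide +kernel
    exact this _ (Nat.mem_divisors.mpr ⟨hd, by norm_num⟩) h8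
  -- the double count
  set Sh : Finset G := Finset.univ.filter fun x => x ∈ (S : Subgroup G) ∧ x ≠ 1 with hSh
  have hSh7 : Sh.card = 7 := by
    have e : Sh = (Finset.univ.filter fun x => x ∈ (S : Subgroup G)).erase 1 := by
      ext x; simp [hSh, and_comm]
    rw [e, Finset.card_erase_of_mem (by simp), ← Fintype.card_subtype, ← Nat.card_eq_fintype_card, hS8]
  have hIcard : ∀ T : Sylow 2 G, I T = (Sh.filter fun x => x ∈ (T : Subgroup G)).card + 1 := by
    intro T
    have e : (Finset.univ.filter fun x => x ∈ (S : Subgroup G) ⊓ (T : Subgroup G)) =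
        insert 1 (Sh.filter fun x => x ∈ (T : Subgroup G)) := by
      ext x
      by_cases hx : x = 1
      · simp [hx, one_mem]
      · simp [hSh, hx, Subgroup.mem_inf]
    show Nat.card ((S : Subgroup G) ⊓ (T : Subgroup G) : Subgroup G) = _
    rw [Nat.card_eq_fintype_card, Fintype.card_subtype, e, Finset.card_insert_of_notMem (by simp [hSh])]
  set r : G → ℕ := fun x => (X.filter fun T : Sylow 2 G => x ∈ (T : Subgroup G)).card with hrdef
  have hrconst : ∀ x ∈ Sh, r x = r s₀ := by
    intro x hx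
    obtain ⟨hxS, hx1⟩ := (Finset.mem_filter.mp hx).2
    obtain ⟨g, hgN, hgx⟩ := htrans s₀ hs₀ x hxS hs₀1 hx1
    have hgS : g • S = S := Sylow.smul_eq_iff_mem_normalizer.mpr hgN
    refine (Finset.card_bij (fun T _ => g • T) (fun T hT => ?_) (fun T _ T' _ e => (smul_left_cancel_iff g).mp e)
      fun T hT => ⟨g⁻¹ • T, ?_, smul_inv_smul g T⟩).symm
    · obtain ⟨hT1, hT2⟩ := Finset.mem_filter.mp hT
      refine Finset.mem_filter.mpr ⟨Finset.mem_erase.mpr ⟨fun e => (Finset.mem_erase.mp hT1).1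
        ((smul_left_cancel_iff g).mp (e.trans hgS.symm)), Finset.mem_univ _⟩, ?_⟩
      rw [← hgx]
      exact Subgroup.smul_mem_pointwise_smul _ (MulAut.conj g) _ hT2
    · obtain ⟨hT1, hT2⟩ := Finset.mem_filter.mp hT
      refine Finset.mem_filter.mpr ⟨Finset.mem_erase.mpr ⟨fun e => (Finset.mem_erase.mp hT1).1
        (by rw [← hgS, ← e, smul_inv_smul]), Finset.mem_univ _⟩, ?_⟩
      have h' : MulAut.conj g⁻¹ • x ∈ ((g⁻¹ • T : Sylow 2 G) : Subgroup G) :=
        Subgroup.smul_mem_pointwise_smul _ (MulAut.conj g⁻¹) _ hT2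
      rw [← hgx] at h'
      simpa [mul_assoc] using h'
  have hsum : ∑ T ∈ X, (I T - 1) = 7 * r s₀ := by
    rw [Finset.sum_congr rfl (g := fun T : Sylow 2 G => (Sh.filter fun x => x ∈ (T : Subgroup G)).card)
      fun T _ => by rw [hIcard T, Nat.add_sub_cancel]]
    simp only [Finset.card_filter]
    rw [Finset.sum_comm, Finset.sum_congr rfl (g := fun _ => r s₀) fun x hx => by
      rw [← hrconst x hx, hrdef]; simp only [Finset.card_filter]]
    rw [Finset.sum_const, hSh7, smul_eq_mul]
  have hcount : Nat.card (Xk 2) + 3 * Nat.card (Xk 4) = 7 * r s₀ := by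
    rw [← hsum, ← hXk, ← hXk, Finset.card_filter, Finset.card_filter, Finset.mul_sum, ← Finset.sum_add_distrib]
    refine Finset.sum_congr rfl fun T hT => ?_
    rcases hcasesI T hT with e | e | e <;> rw [e] <;> norm_num
  have htot : Nat.card (Xk 1) + Nat.card (Xk 2) + Nat.card (Xk 4) + 1 = n := by
    rw [← hXk, ← hXk, ← hXk, Finset.card_filter, Finset.card_filter, Finset.card_filter,
      ← Finset.sum_add_distrib, ← Finset.sum_add_distrib]
    rw [Finset.sum_congr rfl (g := fun _ => 1) fun T hT => by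
      rcases hcasesI T hT with e | e | e <;> rw [e] <;> norm_num]
    rw [Finset.sum_const, smul_eq_mul, mul_one, hX, Finset.card_erase_of_mem (Finset.mem_univ _),
      Finset.card_univ, hn, Nat.card_eq_fintype_card]
    have := Fintype.card_pos (α := Sylow 2 G)
    omega
  -- the Sylow subgroups containing `s₀`
  set Cs := Subgroup.centralizer ({s₀} : Set G) with hCs
  have hTle : ∀ T : Sylow 2 G, s₀ ∈ (T : Subgroup G) → (T : Subgroup G) ≤ Cs := fun T hT x hx =>
    Subgroup.mem_centralizer_singleton_iff.mpr (hcomm T x hx s₀ hT)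
  have horb : MulAction.orbit Cs S = {T : Sylow 2 G | s₀ ∈ (T : Subgroup G)} := by
    ext T
    constructor
    · rintro ⟨c, rfl⟩
      show s₀ ∈ ((c : G) • S : Sylow 2 G)
      have h' := Subgroup.smul_mem_pointwise_smul _ (MulAut.conj (c : G)) _ hs₀
      have e : MulAut.conj (c : G) • s₀ = s₀ := by
        show (c : G) * s₀ * (c : G)⁻¹ = s₀
        exact mul_inv_eq_iff_eq_mul.mpr (Subgroup.mem_centralizer_singleton_iff.mp c.2)
      rwa [e] at h'
    · intro hT
      obtain ⟨c, hc⟩ := MulAction.exists_smul_eq Cs (S.subtype (hTle S hs₀)) (T.subtype (hTle T hT))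
      rw [Sylow.smul_subtype] at hc
      exact ⟨c, Sylow.subtype_injective hc⟩
  have hR : (MulAction.orbit Cs S).ncard = r s₀ + 1 := by
    rw [horb, Set.ncard_eq_toFinset_card']
    have e : {T : Sylow 2 G | s₀ ∈ (T : Subgroup G)}.toFinset =
        insert S (X.filter fun T : Sylow 2 G => s₀ ∈ (T : Subgroup G)) := by
      ext T
      by_cases hT : T = S
      · simp [hT, hs₀]
      · simp [hX, hT]
    rw [e, Finset.card_insert_of_notMem (by simp [hX])]
  have hRd : r s₀ + 1 ∣ Nat.card Cs := by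
    rw [← hR, ← MulAction.index_stabilizer]
    exact Subgroup.index_dvd_card _
  have h27 := hseven 2 (by norm_num) (by norm_num)
  have h47 := hseven 4 (by norm_num) (by norm_num)
  have h18 := hdiv 1 8 rfl
  have h24 := hdiv 2 4 rfl
  have h42 := hdiv 4 2 rfl
  have hfin : r s₀ + 1 = 7 ∨ r s₀ + 1 = 13 ∨ (r s₀ + 1 = 5 ∧ Nat.card (Xk 4) = 0 ∧ n = 45) := by omega
  rcases hfin with h | h | ⟨h, hc0, hn45⟩
  · exact no_seven hg hG Nat.prime_two (by norm_num) (hinv s₀ hs₀ hs₀1) (h ▸ hRd)
  · rw [h] at hRd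
    have := hRd.trans (hg ▸ Cs.card_subgroup_dvd_card)
    norm_num at this
  -- five: the centralizer has order forty
  have hN56 : Nat.card N = 56 := by
    have h1 := N.card_mul_index
    rw [hg, ← (show Nat.card (Sylow 2 G) = N.index from Sylow.card_eq_index_normalizer S), ← hn, hn45] at h1
    omega
  letI : MulAction N G :=
    { smul := fun g x => (g : G) * x * (g : G)⁻¹
      one_smul := fun x => by show (1 : G) * x * (1 : G)⁻¹ = x; group
      mul_smul := fun g h x => by
        show (g : G) * h * x * ((g : G) * h)⁻¹ = g * (h * x * (h : G)⁻¹) * (g : G)⁻¹; group }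
  have horbN : MulAction.orbit N s₀ = (Sh : Set G) := by
    ext x
    constructor
    · rintro ⟨g, rfl⟩
      simp only [hSh, Finset.coe_filter, Set.mem_setOf_eq, Finset.mem_univ, true_and]
      exact ⟨(Subgroup.mem_normalizer_iff.mp g.2 s₀).mp hs₀, fun e => hs₀1 (conj_eq_one_iff.mp e)⟩
    · intro hx
      simp only [hSh, Finset.coe_filter, Set.mem_setOf_eq, Finset.mem_univ, true_and] at hx
      obtain ⟨g, hgN, hgx⟩ := htrans s₀ hs₀ x hx.1 hs₀1 hx.2
      exact ⟨⟨g, hgN⟩, hgx⟩
  have hst : Nat.card (N ⊓ Cs : Subgroup G) = 8 := by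
    have h1 := (MulAction.stabilizer N s₀).card_mul_index
    rw [MulAction.index_stabilizer, horbN, Set.ncard_coe_finset, hSh7, hN56] at h1
    have e : MulAction.stabilizer N s₀ = (N ⊓ Cs).subgroupOf N := by
      ext g
      rw [MulAction.mem_stabilizer_iff, Subgroup.mem_subgroupOf, Subgroup.mem_inf,
        Subgroup.mem_centralizer_singleton_iff]
      exact ⟨fun h => ⟨g.2, mul_inv_eq_iff_eq_mul.mp h⟩, fun h => mul_inv_eq_iff_eq_mul.mpr h.2⟩
    rw [e, Nat.card_congr (Subgroup.subgroupOfEquivOfLe inf_le_left).toEquiv] at h1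
    omega
  have hCs40 : Nat.card Cs = 40 := by
    have h1 := (MulAction.stabilizer Cs S).card_mul_index
    rw [MulAction.index_stabilizer, hR, h] at h1
    have e : MulAction.stabilizer Cs S = (N ⊓ Cs).subgroupOf Cs := by
      ext g
      rw [MulAction.mem_stabilizer_iff, Subgroup.mem_subgroupOf, Subgroup.mem_inf]
      exact ⟨fun h => ⟨Sylow.smul_eq_iff_mem_normalizer.mp h, g.2⟩, fun h => Sylow.smul_eq_iff_mem_normalizer.mpr h.1⟩
    rw [e, Nat.card_congr (Subgroup.subgroupOfEquivOfLe inf_le_right).toEquiv, hst] at h1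
    omega
  obtain ⟨Q⟩ : Nonempty (Sylow 5 Cs) := inferInstance
  have hQc : Nat.card (Q : Subgroup Cs) = 5 := by
    obtain ⟨m, hm⟩ := IsPGroup.iff_card.mp Q.2
    have h1 := Q.dvd_card_of_dvd_card (show 5 ∣ Nat.card Cs by rw [hCs40]; norm_num)
    have h2 := (Q : Subgroup Cs).card_subgroup_dvd_card
    rw [hCs40, hm] at h2
    rcases m with _ | _ | m
    · rw [hm] at h1; norm_num at h1
    · simpa using hm
    · exfalso
      have : 5 ^ 2 ∣ 40 := (pow_dvd_pow 5 (show 2 ≤ m + 2 by omega)).trans h2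
      norm_num at this
  have hQn : Subgroup.normalizer ((Q : Subgroup Cs) : Set Cs) = ⊤ := by
    have h1 := (Q : Subgroup Cs).card_mul_index
    rw [hQc, hCs40] at h1
    have h2 := Q.card_dvd_index
    rw [show (Q : Subgroup Cs).index = 8 by omega] at h2
    have h3 := card_sylow_modEq_one 5 Cs
    have : ∀ d ∈ Nat.divisors 8, d % 5 = 1 → d = 1 := by decide +kernel
    have h4 := this _ (Nat.mem_divisors.mpr ⟨h2, by norm_num⟩) h3
    rw [Sylow.card_eq_index_normalizer Q] at h4
    exact Subgroup.index_eq_one.mp h4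
  haveI : IsCyclic (Q : Subgroup Cs) := isCyclic_of_prime_card hQc
  -- half of `S` centralizes `Q`
  let ψ : (S : Subgroup G) →* MulAut (Q : Subgroup Cs) :=
    (Q : Subgroup Cs).normalizerMonoidHom.comp
      { toFun := fun x => (⟨⟨x, hTle S hs₀ x.2⟩, by rw [hQn]; exact Subgroup.mem_top _⟩ :
          Subgroup.normalizer ((Q : Subgroup Cs) : Set Cs))
        map_one' := rfl
        map_mul' := fun _ _ => rfl }
  have hrange : Nat.card ψ.range ≤ 2 := by
    letI := Fintype.ofFinite ψ.range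
    haveI : Fact (Nat.Prime (Nat.card (Q : Subgroup Cs))) := ⟨by rw [hQc]; norm_num⟩
    haveI : IsCyclic (MulAut (Q : Subgroup Cs)) :=
      isCyclic_of_surjective _ (IsCyclic.mulAutMulEquiv (Q : Subgroup Cs)).symm.surjective
    refine le_trans ?_ (IsCyclic.card_pow_eq_one_le (α := ψ.range) (n := 2) two_pos)
    rw [Nat.card_eq_fintype_card, ← Finset.card_univ]
    refine Finset.card_le_card fun y _ => Finset.mem_filter.mpr ⟨Finset.mem_univ _, ?_⟩
    obtain ⟨_, x, rfl⟩ := y
    refine Subtype.ext ?_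
    show ψ x ^ 2 = 1
    rw [← map_pow, show x ^ 2 = 1 from Subtype.ext (hE.2 x x.2), map_one]
  have hker : 4 ≤ Nat.card ψ.ker := by
    have h1 := ψ.ker.card_mul_index
    rw [Subgroup.index_ker, hS8] at h1
    have := Nat.card_pos (α := ψ.range)
    rcases (show Nat.card ψ.range = 1 ∨ Nat.card ψ.range = 2 by omega) with e | e <;> rw [e] at h1 <;> omega
  haveI : Nontrivial (Q : Subgroup Cs) := Finite.one_lt_card_iff_nontrivial.mp (by rw [hQc]; norm_num)
  obtain ⟨q, hq⟩ := exists_ne (1 : (Q : Subgroup Cs))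
  set q' : G := ((q : Cs) : G) with hq'
  have hqo : orderOf q' = 5 := by
    rw [hq', Subgroup.orderOf_coe, Subgroup.orderOf_coe]
    exact orderOf_eq_prime (by have h' := pow_card_eq_one' (x := q); rwa [hQc] at h') hq
  have hne : q' • S ≠ S := fun e => by
    have := Subgroup.orderOf_dvd_natCard N (Sylow.smul_eq_iff_mem_normalizer.mp e)
    rw [hqo, hN56] at this
    norm_num at this
  have hsub : ψ.ker.map (S : Subgroup G).subtype ≤ (S : Subgroup G) ⊓ (q' • S : Sylow 2 G) := by
    rintro _ ⟨x, hx, rfl⟩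
    refine ⟨x.2, ?_⟩
    have e := congrArg (fun z : (Q : Subgroup Cs) => ((z : Cs) : G)) (DFunLike.congr_fun hx q)
    have e' : (x : G) * q' * (x : G)⁻¹ = q' := e
    have e'' : MulAut.conj q' • (x : G) = x := by
      show q' * x * q'⁻¹ = x
      exact mul_inv_eq_iff_eq_mul.mpr (mul_inv_eq_iff_eq_mul.mp e').symm
    show (x : G) ∈ ((q' • S : Sylow 2 G) : Subgroup G)
    rw [← e'']
    exact Subgroup.smul_mem_pointwise_smul _ (MulAut.conj q') _ x.2
  have h4 : 4 ≤ I (q' • S) := by
    refine le_trans ?_ (Subgroup.card_le_of_le hsub)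
    rwa [Subgroup.card_map_of_injective (Subgroup.subtype_injective _)]
  have hmem : q' • S ∈ X := Finset.mem_erase.mpr ⟨hne, Finset.mem_univ _⟩
  rcases hcasesI _ hmem with e | e | e
  · omega
  · omega
  · have : 0 < (X.filter fun T => I T = 4).card :=
      Finset.card_pos.mpr ⟨_, Finset.mem_filter.mpr ⟨hmem, e⟩⟩
    rw [hXk, hc0] at this
    omega

end CfsgLib.SmallCent
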