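import Cfsg.Agent.Lib.SmallOrder.Basic
import Mathlib.GroupTheory.Perm.Cycle.Type

/-!
# Simple groups of order 2520: the Sylow 7-subgroup is self-centralizing
-/

set_option autoImplicit false
set_option linter.unusedSectionVars false

namespace CfsgLib.SmallCent

variable {G : Type*} [Group G] [Finite G] [IsSimpleGroup G]

/-- Every involution acts by an even permutation. -/
theorem fixed_parity {X : Type*} [MulAction G X] [Finite X] (hG : ¬ IsMulCommutative G) {t : G}
    (ht : t * t = 1) : 4 ∣ Nat.card X - Nat.card {x : X // t • x = x} := by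
  classical
  letI := Fintype.ofFinite X
  have hsgn : Equiv.Perm.sign (MulAction.toPermHom G X t) = 1 :=
    SmallOrder.map_eq_one_of_comm hG (Equiv.Perm.sign.comp (MulAction.toPermHom G X)) t
  have hsq : MulAction.toPermHom G X t ^ 2 = 1 := by rw [← map_pow, sq, ht, map_one]
  rw [Equiv.Perm.sign_of_pow_two_eq_one hsq, ← Nat.card_eq_fintype_card, ← Nat.card_eq_fintype_card,
    show Nat.card (Function.fixedPoints (MulAction.toPermHom G X t)) = Nat.card {x : X // t • x = x} from
      Nat.card_congr (Equiv.subtypeEquivRight fun x => Iff.rfl)] at hsgn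
  have hev : Even ((Nat.card X - Nat.card {x : X // t • x = x}) / 2) := by
    by_contra ho
    rw [(Nat.not_even_iff_odd.mp ho).neg_one_pow] at hsgn
    exact absurd hsgn (by decide)
  have h2 : 2 ∣ Nat.card X - Nat.card {x : X // t • x = x} := by
    haveI := Fact.mk Nat.prime_two
    haveI : Nontrivial G := IsSimpleGroup.toNontrivial
    have hp : IsPGroup 2 (Subgroup.zpowers t) := fun g => by
      obtain ⟨⟨y, hy⟩, rfl⟩ : ∃ y : Subgroup.zpowers t, y = g := ⟨g, rfl⟩
      obtain ⟨i, rfl⟩ := Subgroup.mem_zpowers_iff.mp hy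
      exact ⟨1, Subtype.ext (show (t ^ i) ^ (2 ^ 1) = 1 by
        rw [pow_one, ← zpow_natCast, ← zpow_mul, mul_comm, zpow_mul, zpow_natCast, sq, ht, one_zpow])⟩
    have h := hp.card_modEq_card_fixedPoints X
    have e : Nat.card (MulAction.fixedPoints (Subgroup.zpowers t) X) = Nat.card {x : X // t • x = x} :=
      Nat.card_congr (Equiv.subtypeEquivRight fun x => by
        rw [MulAction.mem_fixedPoints]
        refine ⟨fun hx => hx ⟨t, Subgroup.mem_zpowers t⟩, fun hx ⟨y, hy⟩ => ?_⟩
        exact MulAction.mem_stabilizer_iff.mp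
          (Subgroup.zpowers_le.mpr (MulAction.mem_stabilizer_iff.mpr hx) hy))
    rw [e] at h
    exact (Nat.modEq_iff_dvd' (Nat.card_le_card_of_injective (Subtype.val : {x : X // t • x = x} → X)
      Subtype.val_injective)).mp h.symm
  obtain ⟨k, hk⟩ := hev
  obtain ⟨l, hl⟩ := h2
  rw [hl, Nat.mul_div_cancel_left _ two_pos] at hk
  exact ⟨k, by omega⟩

/-- Only the trivial element fixes every Sylow subgroup. -/
theorem eq_one_of_fix_all (hG : ¬ IsMulCommutative G) {p : ℕ} [Fact p.Prime] (hp : p ∣ Nat.card G)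
    {g : G} (h : ∀ Q : Sylow p G, g • Q = Q) : g = 1 := by
  have hk : g ∈ (MulAction.toPermHom G (Sylow p G)).ker := Equiv.ext h
  rcases (MulAction.toPermHom G (Sylow p G)).normal_ker.eq_bot_or_eq_top with e | e
  · rwa [e] at hk
  · exfalso
    obtain ⟨P⟩ : Nonempty (Sylow p G) := inferInstance
    refine SmallOrder.normalizer_sylow_ne_top hG hp P (eq_top_iff.mpr fun x _ => ?_)
    refine Sylow.smul_eq_iff_mem_normalizer.mp ?_
    have hx : x ∈ (MulAction.toPermHom G (Sylow p G)).ker := e ▸ Subgroup.mem_top x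
    exact congrFun (congrArg DFunLike.coe hx) P

/-- Fixed Sylow subgroups of an element centralizing `P`. -/
theorem fixed_modEq {p : ℕ} [Fact p.Prime] (P : Sylow p G) {c : G}
    (hc : c ∈ Subgroup.centralizer ((P : Subgroup G) : Set G)) :
    Nat.card {Q : Sylow p G // c • Q = Q} ≡ 1 [MOD p] := by
  have hcP : ∀ h : (P : Subgroup G), c * (h : G) = h * c := fun h =>
    (Subgroup.mem_centralizer_iff.mp hc h h.2).symm
  letI : MulAction (P : Subgroup G) {Q : Sylow p G // c • Q = Q} :=
    { smul := fun h Q => ⟨(h : G) • Q.1, by rw [smul_smul, hcP, ← smul_smul, Q.2]⟩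
      one_smul := fun Q => Subtype.ext (one_smul G Q.1)
      mul_smul := fun h k Q => Subtype.ext (mul_smul (h : G) k Q.1) }
  have h := P.2.card_modEq_card_fixedPoints {Q : Sylow p G // c • Q = Q}
  have hone : Nat.card (MulAction.fixedPoints (P : Subgroup G) {Q : Sylow p G // c • Q = Q}) = 1 := by
    refine Nat.card_eq_one_iff_exists.mpr ⟨⟨⟨P, Sylow.smul_eq_iff_mem_normalizer.mpr
      (Subgroup.centralizer_le_normalizer _ hc)⟩, fun k => Subtype.ext ?_⟩, ?_⟩
    · exact Sylow.smul_eq_iff_mem_normalizer.mpr (Subgroup.le_normalizer k.2)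
    · rintro ⟨⟨Q, hQc⟩, hQ⟩
      refine Subtype.ext (Subtype.ext ?_)
      have hle : (P : Subgroup G) ≤ Subgroup.normalizer ((Q : Subgroup G) : Set G) := fun x hx =>
        Sylow.smul_eq_iff_mem_normalizer.mp (congrArg Subtype.val (hQ ⟨x, hx⟩))
      have hi := P.2.inf_normalizer_sylow Q
      have hPQ : (P : Subgroup G) ≤ Q := (le_inf le_rfl hle).trans (hi.le.trans inf_le_right)
      exact Sylow.ext (P.is_maximal' Q.2 hPQ)
  rwa [hone] at h

/-- The fixed Sylow subgroups of a nontrivial element of prime order. -/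
theorem fixed_prime (hG : ¬ IsMulCommutative G) {p : ℕ} [Fact p.Prime] (hp : p ∣ Nat.card G) {c : G}
    {r : ℕ} (hr : r.Prime) (hc : orderOf c = r) :
    Nat.card {Q : Sylow p G // c • Q = Q} < Nat.card (Sylow p G) ∧
      Nat.card {Q : Sylow p G // c • Q = Q} % r = Nat.card (Sylow p G) % r := by
  refine ⟨lt_of_le_of_ne (Nat.card_le_card_of_injective
    (Subtype.val : {Q : Sylow p G // c • Q = Q} → Sylow p G) Subtype.val_injective) fun e => ?_, ?_⟩
  · have hb := (Nat.bijective_iff_injective_and_card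
      (Subtype.val : {Q : Sylow p G // c • Q = Q} → Sylow p G)).mpr ⟨Subtype.val_injective, e⟩
    have h1 := eq_one_of_fix_all hG hp fun Q => by
      obtain ⟨⟨Q', hQ'⟩, rfl⟩ := hb.2 Q
      exact hQ'
    rw [h1, orderOf_one] at hc
    exact hr.ne_one hc.symm
  · haveI := Fact.mk hr
    have h := (IsPGroup.of_card (p := r) (G := Subgroup.zpowers c) (n := 1)
      (by rw [Nat.card_zpowers, hc, pow_one])).card_modEq_card_fixedPoints (Sylow p G)
    rw [Nat.card_congr (Equiv.subtypeEquivRight (p := fun Q : Sylow p G =>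
        Q ∈ MulAction.fixedPoints (Subgroup.zpowers c) (Sylow p G)) (q := fun Q => c • Q = Q)
      fun Q => by
        rw [MulAction.mem_fixedPoints]
        refine ⟨fun hx => hx ⟨c, Subgroup.mem_zpowers _⟩, fun hx ⟨y, hy⟩ => ?_⟩
        exact MulAction.mem_stabilizer_iff.mp
          (Subgroup.zpowers_le.mpr (MulAction.mem_stabilizer_iff.mpr hx) hy))] at h
    exact h.symm

variable (hg : Nat.card G = 2520) (hG : ¬ IsMulCommutative G)
include hg hG

/-- The normalizer and the centralizer of a Sylow 7-subgroup. -/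
theorem seven_orders (P : Sylow 7 G) :
    Nat.card (Subgroup.normalizer ((P : Subgroup G) : Set G)) = 21 ∧
      Nat.card (Subgroup.centralizer ((P : Subgroup G) : Set G)) = 7 := by
  classical
  haveI h7 : Fact (Nat.Prime 7) := ⟨by norm_num⟩
  have hdvd : 7 ∣ Nat.card G := by rw [hg]; norm_num
  have hPc : Nat.card (P : Subgroup G) = 7 := by
    obtain ⟨n, hn⟩ := IsPGroup.iff_card.mp P.2
    have h1 := P.dvd_card_of_dvd_card hdvd
    have h2 := (P : Subgroup G).card_subgroup_dvd_card
    rw [hg, hn] at h2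
    rcases n with _ | _ | n
    · rw [hn] at h1; norm_num at h1
    · simpa using hn
    · exfalso
      have : 7 ^ 2 ∣ 2520 := (pow_dvd_pow 7 (show 2 ≤ n + 2 by omega)).trans h2
      norm_num at this
  set N := Subgroup.normalizer ((P : Subgroup G) : Set G) with hN
  set C := Subgroup.centralizer ((P : Subgroup G) : Set G) with hC
  have hCN : C ≤ N := Subgroup.centralizer_le_normalizer _
  haveI : IsCyclic (P : Subgroup G) := isCyclic_of_prime_card hPc
  have hPC : (P : Subgroup G) ≤ C := fun x hx y hy => by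
    letI := IsCyclic.commGroup (α := (P : Subgroup G))
    exact congrArg Subtype.val (mul_comm (⟨y, hy⟩ : (P : Subgroup G)) ⟨x, hx⟩)
  -- `N / C` embeds in a group of order 6
  have hNC : Nat.card N ∣ Nat.card C * 6 := by
    have h1 : (C.subgroupOf N).index ∣ 6 := by
      rw [← Subgroup.normalizerMonoidHom_ker (P : Subgroup G), Subgroup.index_ker]
      refine (Subgroup.card_subgroup_dvd_card _).trans ?_
      rw [IsCyclic.card_mulAut, hPc, Nat.totient_prime h7.out]
    have h2 := (C.subgroupOf N).card_mul_index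
    rw [Nat.card_congr (Subgroup.subgroupOfEquivOfLe hCN).toEquiv] at h2
    rw [← h2]
    exact Nat.mul_dvd_mul_left _ h1
  have hC7 : 7 ∣ Nat.card C := hPc ▸ Subgroup.card_dvd_of_le hPC
  have hCdN : Nat.card C ∣ Nat.card N := Subgroup.card_dvd_of_le hCN
  have hBurn : Nat.card C ≠ Nat.card N := fun e =>
    SmallOrder.not_normalizer_le_centralizer hG hdvd P
      (Subgroup.eq_of_le_of_card_ge hCN e.ge).ge
  have hn1 := SmallOrder.card_sylow_ne_one (p := 7) hG hdvd
  have hmod := card_sylow_modEq_one 7 G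
  have hidx := N.card_mul_index
  rw [hg, ← (show Nat.card (Sylow 7 G) = N.index from Sylow.card_eq_index_normalizer P)] at hidx
  set n := Nat.card (Sylow 7 G) with hn
  have hn360 : n ∈ Nat.divisors 360 := by
    refine Nat.mem_divisors.mpr ⟨?_, by norm_num⟩
    have h := P.card_dvd_index
    have h2 := (P : Subgroup G).card_mul_index
    rw [hPc, hg] at h2
    rwa [show (P : Subgroup G).index = 360 by omega] at h
  have hcases : n = 8 ∨ n = 15 ∨ n = 36 ∨ n = 120 := by
    have : ∀ d ∈ Nat.divisors 360, d % 7 = 1 → d = 1 ∨ d = 8 ∨ d = 15 ∨ d = 36 ∨ d = 120 := by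
      decide +kernel
    exact (this n hn360 hmod).resolve_left hn1
  -- elements of prime order centralizing `P`
  have hfix : ∀ r : ℕ, r.Prime → r ≠ 7 → r ∣ Nat.card C → ∃ c ∈ C, orderOf c = r ∧
      Nat.card {Q : Sylow 7 G // c • Q = Q} % 7 = 1 ∧ Nat.card {Q : Sylow 7 G // c • Q = Q} < n ∧
      Nat.card {Q : Sylow 7 G // c • Q = Q} % r = n % r := by
    intro r hr hr7 hrC
    haveI := Fact.mk hr
    obtain ⟨c, hc⟩ := exists_prime_orderOf_dvd_card' r hrC
    rw [← Subgroup.orderOf_coe] at hc
    obtain ⟨h1, h2⟩ := fixed_prime hG hdvd hr hc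
    exact ⟨c.1, c.2, hc, fixed_modEq P c.2, h1, h2⟩
  rcases hcases with e | e | e | e <;> rw [e] at hidx
  · -- eight
    exfalso
    have hNc : Nat.card N = 315 := by omega
    rw [hNc] at hNC
    have h5 : 5 ∣ Nat.card C := (Nat.Coprime.dvd_of_dvd_mul_right (show Nat.Coprime 5 6 by norm_num)
      ((show (5 : ℕ) ∣ 315 by norm_num).trans hNC))
    obtain ⟨c, -, -, h1, h2, h3⟩ := hfix 5 (by norm_num) (by norm_num) h5
    omega
  · -- fifteen
    exfalso
    have hNc : Nat.card N = 168 := by omega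
    rw [hNc] at hNC hCdN
    have h2' : 2 ∣ Nat.card C := by
      have : ∀ d ∈ Nat.divisors 168, 168 ∣ d * 6 → 2 ∣ d := by decide +kernel
      exact this _ (Nat.mem_divisors.mpr ⟨hCdN, by norm_num⟩) hNC
    obtain ⟨c, -, hco, h1, h2, h3⟩ := hfix 2 Nat.prime_two (by norm_num) h2'
    have h4 := fixed_parity (X := Sylow 7 G) hG (t := c) (by rw [← sq, ← hco, pow_orderOf_eq_one])
    rw [← hn, e] at h4
    omega
  · -- thirty-six
    exfalso
    have hNc : Nat.card N = 70 := by omega
    rw [hNc] at hNC hCdN hBurn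
    have hCc : Nat.card C = 35 := by
      have : ∀ d ∈ Nat.divisors 70, 70 ∣ d * 6 → 7 ∣ d → d = 35 ∨ d = 70 := by decide +kernel
      exact (this _ (Nat.mem_divisors.mpr ⟨hCdN, by norm_num⟩) hNC hC7).resolve_right hBurn
    -- nothing in `C` but the identity fixes a second point
    have hsemi : ∀ c ∈ C, ∀ Q : Sylow 7 G, c • Q = Q → Q ≠ P → c = 1 := by
      intro c hc Q hQ hQP
      by_contra hc1
      obtain ⟨r, hr, hrc⟩ := Nat.exists_prime_and_dvd (fun h => hc1 (orderOf_eq_one_iff.mp h))
      set d := c ^ (orderOf c / r) with hd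
      have hdo : orderOf d = r := orderOf_pow_orderOf_div (orderOf_pos c).ne' hrc
      have hdC : d ∈ C := pow_mem hc _
      have hdQ : d • Q = Q := by
        exact MulAction.mem_stabilizer_iff.mp
          ((MulAction.stabilizer G Q).pow_mem (MulAction.mem_stabilizer_iff.mpr hQ) _)
      have hr35 : r ∣ 35 := hdo ▸ hCc ▸ Subgroup.orderOf_dvd_natCard C hdC
      have hr57 : r = 5 ∨ r = 7 := by
        rcases (Nat.Prime.dvd_mul hr).mp (show r ∣ 5 * 7 from hr35) with h | h
        · exact Or.inl ((Nat.prime_dvd_prime_iff_eq hr (by norm_num)).mp h)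
        · exact Or.inr ((Nat.prime_dvd_prime_iff_eq hr (by norm_num)).mp h)
      rcases hr57 with rfl | rfl
      · haveI : Fact (Nat.Prime 5) := ⟨by norm_num⟩
        have hm := fixed_modEq P hdC
        obtain ⟨hlt, h⟩ := fixed_prime hG hdvd (by norm_num) hdo
        rw [← hn, e] at hlt h
        have hPd : d • P = P := Sylow.smul_eq_iff_mem_normalizer.mpr (hCN hdC)
        have hone : Nat.card {Q : Sylow 7 G // d • Q = Q} = 1 := by
          have h' : Nat.card {Q : Sylow 7 G // d • Q = Q} % 5 = 36 % 5 := h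
          have hm' : Nat.card {Q : Sylow 7 G // d • Q = Q} % 7 = 1 := hm
          omega
        obtain ⟨x, hx⟩ := Nat.card_eq_one_iff_exists.mp hone
        exact hQP (congrArg Subtype.val ((hx ⟨Q, hdQ⟩).trans (hx ⟨P, hPd⟩).symm))
      · -- order seven: `d` generates `P`
        have hdP : d ∈ (P : Subgroup G) := by
          have hp : IsPGroup 7 (Subgroup.zpowers d) := IsPGroup.of_card (n := 1) (by rw [Nat.card_zpowers, hdo, pow_one])
          have hle : Subgroup.zpowers d ≤ N := Subgroup.zpowers_le.mpr (hCN hdC)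
          have hi := hp.inf_normalizer_sylow P
          exact ((le_inf le_rfl hle).trans (hi.le.trans inf_le_right)) (Subgroup.mem_zpowers d)
        have hPeq : Subgroup.zpowers d = (P : Subgroup G) :=
          Subgroup.eq_of_le_of_card_ge (Subgroup.zpowers_le.mpr hdP) (by rw [Nat.card_zpowers, hdo, hPc])
        have hle : (P : Subgroup G) ≤ Subgroup.normalizer ((Q : Subgroup G) : Set G) :=
          hPeq ▸ Subgroup.zpowers_le.mpr (Sylow.smul_eq_iff_mem_normalizer.mp hdQ)
        have hi := P.2.inf_normalizer_sylow Q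
        have hPQ : (P : Subgroup G) ≤ Q := (le_inf le_rfl hle).trans (hi.le.trans inf_le_right)
        exact hQP (Sylow.ext (P.is_maximal' Q.2 hPQ))
    obtain ⟨t, ht⟩ := exists_prime_orderOf_dvd_card' 2 (show 2 ∣ Nat.card N by rw [hNc]; norm_num)
    rw [← Subgroup.orderOf_coe] at ht
    have htN : (t : G) ∈ N := t.2
    have htt : (t : G) * t = 1 := by rw [← sq, ← ht, pow_orderOf_eq_one]
    have htC : (t : G) ∉ C := fun h => by
      have := Subgroup.orderOf_dvd_natCard C h
      rw [ht, hCc] at this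
      norm_num at this
    have hpar := fixed_parity (X := Sylow 7 G) hG htt
    rw [← hn, e] at hpar
    set F := {Q : Sylow 7 G // (t : G) • Q = Q} with hF
    have hPF : (t : G) • P = P := Sylow.smul_eq_iff_mem_normalizer.mpr htN
    -- a second fixed point
    obtain ⟨Q₀, hQ₀, hQ₀P⟩ : ∃ Q, (t : G) • Q = Q ∧ Q ≠ P := by
      by_contra hno
      have h1 : Nat.card F = 1 := Nat.card_eq_one_iff_exists.mpr
        ⟨⟨P, hPF⟩, fun x => Subtype.ext (by by_contra hx; exact hno ⟨x.1, x.2, hx⟩)⟩
      rw [h1] at hpar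
      omega
    -- `C` is regular away from `P`
    let f : C → {Q : Sylow 7 G // Q ≠ P} := fun c => ⟨(c : G) • Q₀, fun h => hQ₀P (by
      have := congrArg ((c : G)⁻¹ • ·) h
      rw [inv_smul_smul] at this
      rw [this]
      exact Sylow.smul_eq_iff_mem_normalizer.mpr (inv_mem (hCN c.2)))⟩
    have hf : Function.Injective f := fun a b hab => by
      have h' : (a : G) • Q₀ = (b : G) • Q₀ := congrArg Subtype.val hab
      have := congrArg ((b : G)⁻¹ • ·) h'
      simp only [smul_smul, inv_mul_cancel, one_smul] at this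
      exact Subtype.ext (inv_mul_eq_one.mp (hsemi _ (mul_mem (inv_mem b.2) a.2) Q₀ this hQ₀P)).symm
    have hfb : Function.Bijective f := (Nat.bijective_iff_injective_and_card f).mpr ⟨hf, by
      have h := Nat.card_congr (Equiv.optionSubtypeNe P)
      rw [Finite.card_option, ← hn, e] at h
      omega⟩
    set D := C ⊓ Subgroup.centralizer ({(t : G)} : Set G) with hD
    have hcount : Nat.card F = Nat.card D + 1 := by
      have e1 : Nat.card D = Nat.card {x : F // x ≠ ⟨P, hPF⟩} := by
        refine Nat.card_congr (Equiv.ofBijective (fun c : D => (⟨⟨(c : G) • Q₀, by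
          rw [smul_smul, ← Subgroup.mem_centralizer_singleton_iff.mp c.2.2, ← smul_smul, hQ₀]⟩,
          fun h => (f ⟨c.1, c.2.1⟩).2 (congrArg Subtype.val h)⟩ : {x : F // x ≠ ⟨P, hPF⟩}))
          ⟨fun a b hab => Subtype.ext (congrArg (fun z : C => (z : G)) (hf (a₁ := ⟨a.1, a.2.1⟩) (a₂ := ⟨b.1, b.2.1⟩)
            (Subtype.ext (congrArg (fun x => x.1.1) hab)))), ?_⟩)
        rintro ⟨⟨Q, hQ⟩, hne⟩
        obtain ⟨⟨c, hc⟩, hcQ⟩ := hfb.2 ⟨Q, fun h => hne (Subtype.ext h)⟩
        have hcQ' : c • Q₀ = Q := congrArg Subtype.val hcQ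
        refine ⟨⟨c, hc, Subgroup.mem_centralizer_singleton_iff.mpr ?_⟩, Subtype.ext (Subtype.ext hcQ')⟩
        have htc : (t : G) * c * (t : G)⁻¹ ∈ C := by
          rw [hC, Subgroup.mem_centralizer_iff]
          intro x hx
          have hx' : (t : G)⁻¹ * x * t ∈ (P : Subgroup G) := by
            have := (Subgroup.mem_normalizer_iff.mp (inv_mem htN) x).mp hx
            simpa using this
          calc x * ((t : G) * c * (t : G)⁻¹) = t * ((t : G)⁻¹ * x * t * c) * (t : G)⁻¹ := by group
            _ = t * c * (t : G)⁻¹ * x := by rw [Subgroup.mem_centralizer_iff.mp hc _ hx']; group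
        have h' : ((t : G) * c * (t : G)⁻¹) • Q₀ = Q := by
          rw [← smul_smul, ← smul_smul, show (t : G)⁻¹ • Q₀ = Q₀ by
            rw [inv_smul_eq_iff, hQ₀], hcQ', hQ]
        have := congrArg Subtype.val (hf (a₁ := ⟨_, htc⟩) (a₂ := ⟨c, hc⟩) (Subtype.ext (h'.trans hcQ'.symm)))
        exact (mul_inv_eq_iff_eq_mul.mp this).symm
      rw [e1, ← Nat.card_congr (Equiv.optionSubtypeNe (⟨P, hPF⟩ : F)), Finite.card_option]
    have hD35 : Nat.card D ∣ 35 := hCc ▸ Subgroup.card_dvd_of_le inf_le_left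
    have hD7 : ¬ 7 ∣ Nat.card D := by
      intro h
      obtain ⟨a, ha⟩ := exists_prime_orderOf_dvd_card' 7 h
      rw [← Subgroup.orderOf_coe] at ha
      obtain ⟨haC, hat⟩ := Subgroup.mem_inf.mp a.2
      have hp : IsPGroup 7 (Subgroup.zpowers (a : G)) := IsPGroup.of_card (n := 1) (by rw [Nat.card_zpowers, ha, pow_one])
      have hi := hp.inf_normalizer_sylow P
      have hle : Subgroup.zpowers (a : G) ≤ N := Subgroup.zpowers_le.mpr (hCN haC)
      have hPeq : Subgroup.zpowers (a : G) = (P : Subgroup G) :=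
        Subgroup.eq_of_le_of_card_ge ((le_inf le_rfl hle).trans (hi.le.trans inf_le_right))
          (by rw [Nat.card_zpowers, ha, hPc])
      refine htC ?_
      rw [hC, Subgroup.mem_centralizer_iff]
      intro x hx
      rw [← hPeq] at hx
      obtain ⟨i, rfl⟩ := Subgroup.mem_zpowers_iff.mp hx
      exact ((show Commute (a : G) (t : G) from Subgroup.mem_centralizer_singleton_iff.mp hat).zpow_left i).eq
    have : ∀ d ∈ Nat.divisors 35, ¬ 7 ∣ d → d = 1 ∨ d = 5 := by decide +kernel
    rcases this _ (Nat.mem_divisors.mpr ⟨hD35, by norm_num⟩) hD7 with h | h <;>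
      (rw [hcount, h] at hpar; omega)
  · -- one hundred and twenty
    have hNc : Nat.card N = 21 := by omega
    refine ⟨hNc, ?_⟩
    rw [hNc] at hCdN hBurn
    have : ∀ d ∈ Nat.divisors 21, 7 ∣ d → d ≠ 21 → d = 7 := by decide +kernel
    exact this _ (Nat.mem_divisors.mpr ⟨hCdN, by norm_num⟩) hC7 hBurn

end CfsgLib.SmallCent
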