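import Cfsg.Agent.Lib.SmallCent.Analysis
import Cfsg.Agent.Lib.SmallCent.SylowShape
import Cfsg.Agent.Lib.DihBlock.Eight

/-!
# The possible orders
-/

set_option autoImplicit false
set_option linter.unusedSectionVars false
set_option linter.style.haveILetI false

namespace CfsgLib.SmallCent

open DihBlock

variable {G : Type*} [Group G] [Fintype G] [IsSimpleGroup G]
variable {P : Sylow 2 G} {w τ : G} (D : Data P w τ 2)
  (hC : Subgroup.centralizer ({w} : Set G) = Subgroup.zpowers w)
  (h1 : IsConj (w ^ 2) τ) (h2 : IsConj (w ^ 2) (w * τ)) (hG : ¬ IsCyclic G)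
include D hC h1 h2 hG

theorem numbers (ha : Nat.card (fix w τ) ≠ 1) :
    ∃ x y z : ℤ, Numbers (Nat.card G) (Nat.card (fix w τ)) (Nat.card (fix w (w * τ))) x y z := by
  obtain ⟨x, y, z, e0, e1, e2, e3, e4, e5, e6, e7⟩ := block_numbers D hC h1 h2 hG
  exact ⟨x, y, z, ⟨e0, e1, e2, e3, e4, e5, e6, e7 ha⟩⟩

theorem order_two_part : ∃ k : ℕ, Odd k ∧ Nat.card G = 8 * k := by
  have h := (P : Subgroup G).card_mul_index
  rw [D.card] at h
  haveI := Fact.mk Nat.prime_two
  exact ⟨(P : Subgroup G).index, Nat.not_even_iff_odd.mp fun he => P.not_dvd_index (even_iff_two_dvd.mp he), h.symm⟩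

theorem fix_ne_top (ha : Nat.card (fix w τ) ≠ 1) :
    Subgroup.normalizer (fix w τ : Set G) ≠ ⊤ := by
  intro h
  rcases (Subgroup.normalizer_eq_top_iff.mp h).eq_bot_or_eq_top with e | e
  · exact ha (by rw [e, Subgroup.card_bot])
  · have hodd := odd_fix D hC τ
    rw [e, Subgroup.card_top] at hodd
    obtain ⟨k, -, hk⟩ := order_two_part D hC h1 h2 hG
    exact Nat.not_even_iff_odd.mpr hodd ⟨4 * k, by omega⟩

/-- Twice the centralizer lies in the normalizer of the fixed points. -/
theorem two_mul_le (ha : Nat.card (fix w τ) ≠ 1) :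
    2 * Nat.card (Subgroup.centralizer (fix w τ : Set G)) ≤
      Nat.card (Subgroup.normalizer (fix w τ : Set G)) := by
  classical
  set H := Subgroup.centralizer (fix w τ : Set G) with hH
  set K := Subgroup.normalizer (fix w τ : Set G) with hK
  have hle : H ≤ K := by
    intro x hx
    rw [hK, Subgroup.mem_normalizer_iff]
    intro a
    constructor
    · intro h
      rwa [← (Subgroup.mem_centralizer_iff.mp hx a h), mul_inv_cancel_right]
    · intro h
      have e := Subgroup.mem_centralizer_iff.mp hx _ h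
      have : x * a * x⁻¹ = a := by
        rw [inv_mul_cancel_right] at e
        exact mul_left_cancel e.symm
      rwa [this] at h
  have hwK : w ∈ K := by
    rw [hK, Subgroup.mem_normalizer_iff]
    refine fun a => ⟨w_normalizes_fix D hC h1 h2, fun h => ?_⟩
    have h' := w_normalizes_fix D hC h1 h2 (w_normalizes_fix D hC h1 h2 (w_normalizes_fix D hC h1 h2 h))
    have h4 : w ^ 4 = 1 := (pow_eq_one_iff D).mpr (by norm_num)
    rwa [show w * (w * (w * (w * a * w⁻¹) * w⁻¹) * w⁻¹) * w⁻¹ = w ^ 4 * a * (w ^ 4)⁻¹ by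
      simp only [pow_succ, pow_zero, one_mul, mul_inv_rev, mul_assoc], h4,
      one_mul, inv_one, mul_one] at h'
  have h := (H.subgroupOf K).card_mul_index
  rw [Nat.card_congr (Subgroup.subgroupOfEquivOfLe hle).toEquiv] at h
  have hi : 2 ≤ (H.subgroupOf K).index := by
    have h0 : (H.subgroupOf K).index ≠ 0 := Subgroup.index_ne_zero_of_finite
    have h1' : (H.subgroupOf K).index ≠ 1 := fun e => w_not_mem D hC h1 h2 ha
      ((Subgroup.mem_subgroupOf (h := ⟨w, hwK⟩)).mp (Subgroup.index_eq_one.mp e ▸ Subgroup.mem_top _))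
    omega
  rw [← h, mul_comm 2]
  exact Nat.mul_le_mul_left _ hi

theorem not_both_le (hab : Nat.card (fix w τ) ≤ Nat.card (fix w (w * τ)))
    (ha : Nat.card (fix w τ) ≠ 1) : False := by
  classical
  obtain ⟨x, y, z, N⟩ := numbers D hC h1 h2 hG ha
  have ha0 : 0 < Nat.card (fix w τ) := Nat.card_pos
  have hb0 : 0 < Nat.card (fix w (w * τ)) := Nat.card_pos
  rcases big_or_odd D hC h1 h2 ha with h | ⟨R, e1, e2, e3, e4, e5⟩
  · set K := Subgroup.normalizer (fix w τ : Set G) with hK
    have hKtop := fix_ne_top D hC h1 h2 hG ha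
    have hcard : K.index * (2 * Nat.card (Subgroup.centralizer (fix w τ : Set G))) ≤ Nat.card G := by
      rw [← K.card_mul_index, mul_comm (Nat.card K)]
      exact Nat.mul_le_mul_left _ (two_mul_le D hC h1 h2 hG ha)
    have hn8 := index_le N hab ha0 hcard h
    have hd := SmallOrder.two_mul_card_dvd_factorial
      (fun hc => not_comm hG fun a b => hc.is_comm.comm a b) hKtop
    obtain ⟨k, hkodd, hk⟩ := order_two_part D hC h1 h2 hG
    have h8 : 2 * Nat.card G ∣ 40320 :=
      hd.trans (show K.index.factorial ∣ 40320 by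
        rw [show (40320 : ℕ) = Nat.factorial 8 from rfl]; exact Nat.factorial_dvd_factorial hn8)
    rw [hk] at h8
    have h2520 : k ∣ 315 := by
      refine (Nat.Coprime.dvd_of_dvd_mul_left ?_ (show k ∣ 8 * 315 by
        have : 16 * k ∣ 16 * 2520 := by rwa [← mul_assoc, show 2 * 8 = 16 by norm_num] at h8
        exact (Nat.mul_dvd_mul_iff_left (by norm_num)).mp this))
      rw [show (8 : ℕ) = 2 ^ 3 by norm_num]
      exact (Nat.coprime_two_right.mpr hkodd).pow_right 3
    have hk315 := Nat.le_of_dvd (by norm_num) h2520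
    have hoa := odd_fix D hC τ
    have hob := odd_fix D hC (w * τ)
    have h3a : 3 ≤ Nat.card (fix w τ) := by obtain ⟨l, hl⟩ := hoa; omega
    have h3b : 3 ≤ Nat.card (fix w (w * τ)) := le_trans h3a hab
    have := order_gt N h3a h3b
    omega
  · obtain ⟨hba, hdvd⟩ := odd_case D hC h1 h2 ha e1 e2 e3 e4 e5
    have he : Nat.card (fix w τ) = Nat.card (fix w (w * τ)) :=
      le_antisymm hab (Nat.le_of_dvd ha0 hba)
    rw [← he] at N hdvd
    exact not_equal N (by rw [show Nat.card (fix w τ) ^ 4 = Nat.card (fix w τ) * Nat.card (fix w τ) ^ 3 by ring]; exact hdvd) ha0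

theorem one_side_eq (ha : Nat.card (fix w τ) ≠ 1) (hb : Nat.card (fix w (w * τ)) = 1) :
    Nat.card (fix w τ) = 3 ∧ Nat.card G = 2520 := by
  obtain ⟨x, y, z, N⟩ := numbers D hC h1 h2 hG ha
  rw [hb] at N
  obtain ⟨l, hl⟩ := odd_fix D hC τ
  exact one_side N (by omega) (by omega)

theorem both_one (ha : Nat.card (fix w τ) = 1) (hb : Nat.card (fix w (w * τ)) = 1) :
    Nat.card G = 168 ∨ Nat.card G = 360 := by
  have hcore : Nat.card (core w 2) = 1 := by rw [card_core D hC, ha, hb]
  have hcent : Subgroup.centralizer ({w ^ 2} : Set G) = (P : Subgroup G) :=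
    (Subgroup.eq_of_le_of_card_ge (sylow_le_centralizer_z D) (le_of_eq (by
      show Nat.card (cz w 2) = _
      rw [card_cz D, hcore, D.card, one_mul]))).symm
  exact Eight.card_eq (⟨D, hcent⟩ : Eight P w τ) h1 h2

omit D hC h1 h2 hG in
/-- The possible orders, with the data of the case of order 2520. -/
theorem orders {P : Sylow 2 G} {w τ : G} (D : Data P w τ 2)
    (hC : Subgroup.centralizer ({w} : Set G) = Subgroup.zpowers w)
    (h1 : IsConj (w ^ 2) τ) (h2 : IsConj (w ^ 2) (w * τ)) (hG : ¬ IsCyclic G) :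
    Nat.card G = 168 ∨ Nat.card G = 360 ∨ (Nat.card G = 2520 ∧
      ∃ τ' : G, Data P w τ' 2 ∧ IsConj (w ^ 2) τ' ∧ IsConj (w ^ 2) (w * τ') ∧
        Nat.card (fix w τ') = 3 ∧ Nat.card (fix w (w * τ')) = 1) := by
  have D' := DihBlock.swap D
  have h2' := conj_to_other D hC h1 h2
  have hss := fix_swap_swap D hC
  by_cases ha : Nat.card (fix w τ) = 1
  · by_cases hb : Nat.card (fix w (w * τ)) = 1
    · rcases both_one D hC h1 h2 hG ha hb with h | h
      · exact Or.inl h
      · exact Or.inr (Or.inl h)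
    · obtain ⟨h3, hg⟩ := one_side_eq D' hC h2 h2' hG hb (by rw [hss]; exact ha)
      exact Or.inr (Or.inr ⟨hg, w * τ, D', h2, h2', h3, by rw [hss]; exact ha⟩)
  · by_cases hb : Nat.card (fix w (w * τ)) = 1
    · obtain ⟨h3, hg⟩ := one_side_eq D hC h1 h2 hG ha hb
      exact Or.inr (Or.inr ⟨hg, τ, D, h1, h2, h3, hb⟩)
    · exfalso
      rcases Nat.le_total (Nat.card (fix w τ)) (Nat.card (fix w (w * τ))) with h | h
      · exact not_both_le D hC h1 h2 hG h ha
      · exact not_both_le D' hC h2 h2' hG (by rw [hss]; exact h) hb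

end CfsgLib.SmallCent
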